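import Mathlib
import Cfsg.Agent.Helper9.Layer
import Cfsg.Agent.Helper20.Conj

set_option autoImplicit false

namespace Cfsg.Agent.Helper20

open Subgroup

universe u

/-- The Wielandt subgroup: the intersection of the normalizers of all subnormal subgroups. -/
def wielandt (G : Type*) [Group G] : Subgroup G :=
  ⨅ (H : Subgroup G) (_ : H.IsSubnormal), Subgroup.normalizer (H : Set G)

theorem mem_wielandt {G : Type*} [Group G] {x : G} :
    x ∈ wielandt G ↔ ∀ H : Subgroup G, H.IsSubnormal → x ∈ normalizer (H : Set G) := by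
  simp [wielandt, Subgroup.mem_iInf]

instance wielandt_char {G : Type*} [Group G] : (wielandt G).Characteristic := by
  rw [Subgroup.characteristic_iff_map_le]
  intro e x hx
  obtain ⟨y, hy, rfl⟩ := hx
  have hy' : y ∈ wielandt G := hy
  rw [mem_wielandt] at hy' ⊢
  intro H hH
  have h1 := hy' (H.comap e.toMonoidHom) (hH.comap _)
  rw [Subgroup.mem_normalizer_iff] at h1 ⊢
  intro z
  have h2 := h1 (e.symm z)
  simp only [Subgroup.mem_comap, MulEquiv.coe_toMonoidHom, map_mul, map_inv,
    MulEquiv.apply_symm_apply] at h2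
  exact h2

/-- Existence of a minimal normal subgroup inside a nontrivial normal subgroup. -/
theorem exists_minNormal_le {G : Type*} [Group G] [Finite G] (N : Subgroup G) (hN : N.Normal)
    (hNbot : N ≠ ⊥) :
    ∃ N₀ : Subgroup G, N₀ ≤ N ∧ N₀.Normal ∧ N₀ ≠ ⊥ ∧
      ∀ N' : Subgroup G, N'.Normal → N' ≠ ⊥ → N' ≤ N₀ → N' = N₀ := by
  obtain ⟨N₀, hle, hmin⟩ := exists_minimal_le_of_wellFoundedLT
    (fun N' : Subgroup G => N'.Normal ∧ N' ≠ ⊥) N ⟨hN, hNbot⟩
  refine ⟨N₀, hle, hmin.1.1, hmin.1.2, ?_⟩
  intro N' hN'n hN'bot hle'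
  exact le_antisymm hle' (hmin.2 ⟨hN'n, hN'bot⟩ hle')

/-- If `k ∈ K` normalizes `H ∩ K` inside `K` and `H ≤ K`, then it normalizes `H`. -/
theorem coe_mem_normalizer_of_subgroupOf {G : Type*} [Group G] {H K : Subgroup G} (hHK : H ≤ K)
    (k : K) (hk : k ∈ normalizer ((H.subgroupOf K : Subgroup K) : Set K)) :
    (k : G) ∈ normalizer (H : Set G) := by
  rw [← Subgroup.subgroupOf_normalizer_eq hHK] at hk
  exact Subgroup.mem_subgroupOf.1 hk

theorem wielandt_aux (n : ℕ) : ∀ (G : Type u) [Group G] [Finite G], Nat.card G = n →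
    ∀ N : Subgroup G, N.Normal → N ≠ ⊥ → N ⊓ wielandt G ≠ ⊥ := by
  induction n using Nat.strong_induction_on with
  | _ n ih =>
    intro G _ _ hn N hN hNbot
    obtain ⟨N₀, hN₀N, hN₀n, hN₀bot, hmin⟩ := exists_minNormal_le N hN hNbot
    suffices h : N₀ ≤ wielandt G by
      intro hbot
      apply hN₀bot
      rw [eq_bot_iff, ← hbot]
      exact le_inf hN₀N h
    intro x hx
    rw [mem_wielandt]
    intro H hH
    by_cases hHtop : H = ⊤
    · subst hHtop
      rw [Subgroup.mem_normalizer_iff]
      intro y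
      simp
    obtain ⟨K, hKn, hHK, hKtop⟩ := hH.exists_normal_and_le_and_lt_top_of_ne hHtop
    by_cases hdis : N₀ ⊓ K = ⊥
    · rw [Subgroup.mem_normalizer_iff]
      intro y
      have hcomm : ∀ y ∈ K, x * y * x⁻¹ = y := by
        intro y hy
        have := Subgroup.commute_of_normal_of_disjoint N₀ K hN₀n hKn (disjoint_iff.2 hdis) x y hx hy
        rw [this.eq, mul_inv_cancel_right]
      constructor
      · intro hy; rw [hcomm y (hHK hy)]; exact hy
      · intro hy
        have hyK : y ∈ K := by
          have := hKn.conj_mem _ (hHK hy) x⁻¹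
          simpa [mul_assoc] using this
        rw [hcomm y hyK] at hy; exact hy
    · have hinfn : (N₀ ⊓ K).Normal := by
        have := hN₀n; have := hKn; infer_instance
      have hN₀K : N₀ ≤ K := by
        have h1 : N₀ ⊓ K = N₀ := hmin (N₀ ⊓ K) hinfn hdis inf_le_left
        rw [← h1]; exact inf_le_right
      have hcardK : Nat.card K < n := by
        rw [← hn]
        have h1 : Nat.card K ≠ Nat.card G := fun h => hKtop.ne ((Subgroup.card_eq_iff_eq_top K).1 h)
        exact lt_of_le_of_ne (Subgroup.card_le_card_group K) h1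
      have hsubn : (N₀.subgroupOf K).Normal := by
        have := hN₀n; infer_instance
      have hsubbot : N₀.subgroupOf K ≠ ⊥ := by
        intro h
        apply hN₀bot
        rw [Subgroup.subgroupOf_eq_bot] at h
        rw [eq_bot_iff, ← h.eq_bot]
        exact le_inf le_rfl hN₀K
      have hIH := ih (Nat.card K) hcardK K rfl (N₀.subgroupOf K) hsubn hsubbot
      have hSn : ((wielandt K).map K.subtype).Normal := by
        have := hKn
        exact Cfsg.Agent.Helper9.char_map_normal K (wielandt K)
      have hNS : N₀ ⊓ (wielandt K).map K.subtype ≠ ⊥ := by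
        intro hbot
        apply hIH
        rw [eq_bot_iff]
        intro k hk
        have : (k : G) ∈ N₀ ⊓ (wielandt K).map K.subtype :=
          ⟨Subgroup.mem_subgroupOf.1 hk.1, ⟨k, hk.2, rfl⟩⟩
        rw [hbot, Subgroup.mem_bot] at this
        rw [Subgroup.mem_bot]
        exact Subtype.ext this
      have hinfn2 : (N₀ ⊓ (wielandt K).map K.subtype).Normal := by
        have := hN₀n; have := hSn; infer_instance
      have h2 : N₀ ⊓ (wielandt K).map K.subtype = N₀ := hmin _ hinfn2 hNS inf_le_left
      have hxS : x ∈ (wielandt K).map K.subtype := by rw [← h2] at hx; exact hx.2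
      obtain ⟨k, hk, rfl⟩ := hxS
      have hk' : k ∈ wielandt K := hk
      have h3 := mem_wielandt.1 hk' (H.subgroupOf K) hH.subgroupOf
      exact coe_mem_normalizer_of_subgroupOf hHK k h3

/-- A minimal normal subgroup of a finite group normalizes every subnormal subgroup. -/
theorem minNormal_le_wielandt {G : Type u} [Group G] [Finite G] (N : Subgroup G) (hN : N.Normal)
    (hNbot : N ≠ ⊥) (hmin : ∀ N' : Subgroup G, N'.Normal → N' ≠ ⊥ → N' ≤ N → N' = N) :
    N ≤ wielandt G := by
  have h1 := wielandt_aux (Nat.card G) G rfl N hN hNbot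
  have hinfn : (N ⊓ wielandt G).Normal := by
    have := hN; infer_instance
  have h2 := hmin (N ⊓ wielandt G) hinfn h1 inf_le_left
  rw [← h2]; exact inf_le_right

theorem minNormal_le_normalizer_subnormal {G : Type u} [Group G] [Finite G] (N : Subgroup G)
    (hN : N.Normal) (hNbot : N ≠ ⊥)
    (hmin : ∀ N' : Subgroup G, N'.Normal → N' ≠ ⊥ → N' ≤ N → N' = N)
    (H : Subgroup G) (hH : H.IsSubnormal) : N ≤ normalizer (H : Set G) := fun _ hx =>
  mem_wielandt.1 (minNormal_le_wielandt N hN hNbot hmin hx) H hH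

end Cfsg.Agent.Helper20
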