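import Mathlib
import Cfsg.Prelude.Def_Local
import Cfsg.Agent.Helper9.Fitting
import Cfsg.Agent.Helper9.Layer
import Cfsg.Agent.Helper20.PSolvHall

set_option autoImplicit false

namespace Cfsg.Agent.Helper20.PLen

universe u

open Cfsg

/-! ## Relative index lemmas -/

theorem card_map_mk_eq_relIndex {G : Type*} [Group G] (N : Subgroup G) [N.Normal]
    (L : Subgroup G) : Nat.card (L.map (QuotientGroup.mk' N)) = N.relIndex L := by
  have h := Subgroup.relIndex_comap (H := (⊥ : Subgroup (G ⧸ N))) (QuotientGroup.mk' N) L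
  rw [MonoidHom.comap_bot, QuotientGroup.ker_mk', Subgroup.relIndex_bot_left] at h
  exact h.symm

theorem relIndex_comap_mk {G : Type*} [Group G] (N : Subgroup G) [N.Normal]
    (A B : Subgroup (G ⧸ N)) :
    (A.comap (QuotientGroup.mk' N)).relIndex (B.comap (QuotientGroup.mk' N)) = A.relIndex B := by
  rw [Subgroup.relIndex_comap,
    Subgroup.map_comap_eq_self_of_surjective (QuotientGroup.mk'_surjective N)]

/-- For a normal subgroup `H`, the relative index is monotone (for divisibility) in the right
argument. -/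
theorem relIndex_dvd_of_le_right {G : Type*} [Group G] (H : Subgroup G) [H.Normal]
    {K K' : Subgroup G} (h : K' ≤ K) : H.relIndex K' ∣ H.relIndex K := by
  rw [← card_map_mk_eq_relIndex, ← card_map_mk_eq_relIndex]
  exact Subgroup.card_dvd_of_le (Subgroup.map_mono h)

theorem le_comap_mk {G : Type*} [Group G] (N : Subgroup G) [N.Normal] (K : Subgroup (G ⧸ N)) :
    N ≤ K.comap (QuotientGroup.mk' N) := by
  intro x hx
  rw [Subgroup.mem_comap]
  have h : QuotientGroup.mk' N x = 1 := (QuotientGroup.eq_one_iff x).mpr hx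
  rw [h]
  exact Subgroup.one_mem _

/-! ## Step types -/

/-- The type of the step at position `n` of a `p`-series: a `p'`-number at even positions, a
power of `p` at odd ones. -/
def StepOK (p n m : ℕ) : Prop := if Even n then m.Coprime p else ∃ k : ℕ, m = p ^ k

theorem stepOK_of_dvd {p : ℕ} (hp : p.Prime) {n m m' : ℕ} (h : StepOK p n m) (hd : m' ∣ m) :
    StepOK p n m' := by
  unfold StepOK at h ⊢
  by_cases he : Even n
  · rw [if_pos he] at h ⊢
    exact Nat.Coprime.coprime_dvd_left hd h
  · rw [if_neg he] at h ⊢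
    obtain ⟨k, rfl⟩ := h
    obtain ⟨j, -, rfl⟩ := (Nat.dvd_prime_pow hp).mp hd
    exact ⟨j, rfl⟩

theorem stepOK_shift {p : ℕ} (a j m : ℕ) : StepOK p (2 * a + j) m ↔ StepOK p j m := by
  unfold StepOK
  have h : Even (2 * a + j) ↔ Even j := by
    rw [Nat.even_add]
    simp
  simp only [h]

theorem stepOK_add_two {p : ℕ} (j m : ℕ) : StepOK p (j + 2) m ↔ StepOK p j m := by
  have h := stepOK_shift (p := p) 1 j m
  rw [show 2 * 1 + j = j + 2 from by ring] at h
  exact h

theorem stepOK_even {p n m : ℕ} (he : Even n) : StepOK p n m ↔ m.Coprime p := by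
  unfold StepOK
  rw [if_pos he]

theorem stepOK_odd {p n m : ℕ} (he : ¬ Even n) : StepOK p n m ↔ ∃ k : ℕ, m = p ^ k := by
  unfold StepOK
  rw [if_neg he]

/-! ## The upper `p`-series -/

theorem upper_succ_even {G : Type*} [Group G] (p : ℕ) {n : ℕ} (h : Even n) :
    (upperPSeries p G (n + 1)).1 =
      (pPrimeCore p (G ⧸ (upperPSeries p G n).1)).comap
        (QuotientGroup.mk' (upperPSeries p G n).1) := by
  rw [upperPSeries, if_pos h]

theorem upper_succ_odd {G : Type*} [Group G] (p : ℕ) {n : ℕ} (h : ¬ Even n) :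
    (upperPSeries p G (n + 1)).1 =
      (pCore p (G ⧸ (upperPSeries p G n).1)).comap
        (QuotientGroup.mk' (upperPSeries p G n).1) := by
  rw [upperPSeries, if_neg h]

theorem upper_zero {G : Type*} [Group G] (p : ℕ) : (upperPSeries p G 0).1 = ⊥ := rfl

theorem upper_le_succ {G : Type*} [Group G] (p n : ℕ) :
    (upperPSeries p G n).1 ≤ (upperPSeries p G (n + 1)).1 := by
  by_cases he : Even n
  · rw [upper_succ_even p he]
    exact le_comap_mk _ _
  · rw [upper_succ_odd p he]
    exact le_comap_mk _ _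

theorem upper_mono {G : Type*} [Group G] (p : ℕ) :
    Monotone (fun n => (upperPSeries p G n).1) :=
  monotone_nat_of_le_succ (upper_le_succ p)

theorem upper_relIndex {G : Type*} [Group G] [Finite G] (p : ℕ) [hp : Fact p.Prime] (n : ℕ) :
    StepOK p n ((upperPSeries p G n).1.relIndex (upperPSeries p G (n + 1)).1) := by
  by_cases he : Even n
  · rw [stepOK_even he, upper_succ_even p he, ← card_map_mk_eq_relIndex,
      Subgroup.map_comap_eq_self_of_surjective (QuotientGroup.mk'_surjective _)]
    exact Cfsg.Agent.Helper9.pPrimeCore_coprime p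
  · rw [stepOK_odd he, upper_succ_odd p he, ← card_map_mk_eq_relIndex,
      Subgroup.map_comap_eq_self_of_surjective (QuotientGroup.mk'_surjective _)]
    exact (Cfsg.Agent.Helper9.pCore_isPGroup p).exists_card_eq

instance upper_char {G : Type*} [Group G] (p n : ℕ) :
    (upperPSeries p G n).1.Characteristic := by
  induction n with
  | zero => exact (inferInstance : (⊥ : Subgroup G).Characteristic)
  | succ n ih =>
    haveI := ih
    by_cases he : Even n
    · rw [upper_succ_even p he]
      exact Subgroup.Characteristic.comap_quotient_mk (Cfsg.Agent.Helper9.pPrimeCore_char p)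
    · rw [upper_succ_odd p he]
      exact Subgroup.Characteristic.comap_quotient_mk (Cfsg.Agent.Helper9.pCore_char p)

/-- Key step: if `A ≤ U_n`, `B` is normal, and `|B : A ∩ B|` has the type of position `n`,
then `B ≤ U_{n+1}`. -/
theorem le_upper_succ {G : Type*} [Group G] [Finite G] {p : ℕ} [hp : Fact p.Prime] (n : ℕ)
    (A B : Subgroup G) [hB : B.Normal] (hA : A ≤ (upperPSeries p G n).1)
    (hstep : StepOK p n (A.relIndex B)) : B ≤ (upperPSeries p G (n + 1)).1 := by
  have h1 : StepOK p n (Nat.card (B.map (QuotientGroup.mk' (upperPSeries p G n).1))) := by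
    rw [card_map_mk_eq_relIndex]
    exact stepOK_of_dvd hp.out hstep (Subgroup.relIndex_dvd_of_le_left B hA)
  have hn : (B.map (QuotientGroup.mk' (upperPSeries p G n).1)).Normal :=
    hB.map _ (QuotientGroup.mk'_surjective _)
  by_cases he : Even n
  · rw [stepOK_even he] at h1
    rw [upper_succ_even p he, ← Subgroup.map_le_iff_le_comap]
    exact Cfsg.Agent.Helper9.le_pPrimeCore hn h1
  · rw [stepOK_odd he] at h1
    obtain ⟨k, hk⟩ := h1
    rw [upper_succ_odd p he, ← Subgroup.map_le_iff_le_comap]
    exact Cfsg.Agent.Helper9.le_pCore hn (IsPGroup.of_card hk)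

/-! ## Chains -/

/-- A chain of normal subgroups whose successive relative indices follow the `p'`/`p`
pattern. -/
structure IsPChain (p : ℕ) {G : Type*} [Group G] (V : ℕ → Subgroup G) : Prop where
  zero : V 0 = ⊥
  mono : ∀ i, V i ≤ V (i + 1)
  normal : ∀ i, (V i).Normal
  step : ∀ i, StepOK p i ((V i).relIndex (V (i + 1)))

theorem upper_isPChain {G : Type*} [Group G] [Finite G] (p : ℕ) [Fact p.Prime] :
    IsPChain p (fun n => (upperPSeries p G n).1) :=
  ⟨rfl, upper_le_succ p, fun i => upperPSeries_normal p G i, upper_relIndex p⟩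

theorem IsPChain.le_upper {G : Type*} [Group G] [Finite G] {p : ℕ} [Fact p.Prime]
    {V : ℕ → Subgroup G} (hV : IsPChain p V) (n : ℕ) : V n ≤ (upperPSeries p G n).1 := by
  induction n with
  | zero => rw [hV.zero]; exact bot_le
  | succ n ih =>
    haveI := hV.normal (n + 1)
    exact le_upper_succ n (V n) (V (n + 1)) ih (hV.step n)

theorem pLengthLE_iff {G : Type*} [Group G] [Finite G] (p : ℕ) [Fact p.Prime] (k : ℕ) :
    PLengthLE p k G ↔ ∃ V : ℕ → Subgroup G, IsPChain p V ∧ V (2 * k + 1) = ⊤ := by
  constructor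
  · intro h
    exact ⟨_, upper_isPChain p, h⟩
  · rintro ⟨V, hV, htop⟩
    unfold PLengthLE
    rw [eq_top_iff, ← htop]
    exact hV.le_upper _

theorem IsPChain.map {G H : Type*} [Group G] [Group H] {p : ℕ} [hp : Fact p.Prime]
    {V : ℕ → Subgroup G} (hV : IsPChain p V) (f : G →* H) (hf : Function.Surjective f) :
    IsPChain p (fun i => (V i).map f) where
  zero := by
    show (V 0).map f = ⊥
    rw [hV.zero, Subgroup.map_bot]
  mono := fun i => Subgroup.map_mono (hV.mono i)
  normal := fun i => (hV.normal i).map f hf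
  step := fun i => stepOK_of_dvd hp.out (hV.step i)
    (Cfsg.Agent.Helper20.relIndex_map_dvd f (V i) (V (i + 1)))

theorem IsPChain.subgroupOf {G : Type*} [Group G] {p : ℕ} [hp : Fact p.Prime]
    {V : ℕ → Subgroup G} (hV : IsPChain p V) (K : Subgroup G) :
    IsPChain p (fun i => (V i).subgroupOf K) where
  zero := by
    show (V 0).subgroupOf K = ⊥
    rw [hV.zero, Subgroup.bot_subgroupOf]
  mono := fun i x hx => by
    rw [Subgroup.mem_subgroupOf] at hx ⊢
    exact hV.mono i hx
  normal := fun i => (hV.normal i).subgroupOf K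
  step := fun i => by
    show StepOK p i (((V i).subgroupOf K).relIndex ((V (i + 1)).subgroupOf K))
    have h1 : ((V i).subgroupOf K).relIndex ((V (i + 1)).subgroupOf K) =
        (V i).relIndex (V (i + 1) ⊓ K) := by
      rw [← Subgroup.inf_subgroupOf_right (V (i + 1)) K,
        Subgroup.relIndex_subgroupOf inf_le_right]
    rw [h1]
    haveI := hV.normal i
    exact stepOK_of_dvd hp.out (hV.step i) (relIndex_dvd_of_le_right (V i) inf_le_left)

/-- The upper `p`-series of a normal subgroup, pushed into the ambient group, is a `p`-chain. -/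
theorem isPChain_map_upper {G : Type*} [Group G] [Finite G] (p : ℕ) [hp : Fact p.Prime]
    (N : Subgroup G) [N.Normal] :
    IsPChain p (fun i => ((upperPSeries p ↥N i).1).map N.subtype) where
  zero := by
    show ((upperPSeries p ↥N 0).1).map N.subtype = ⊥
    rw [upper_zero, Subgroup.map_bot]
  mono := fun i => Subgroup.map_mono (upper_le_succ p i)
  normal := fun i => inferInstance
  step := fun i => stepOK_of_dvd hp.out (upper_relIndex p i)
    (Cfsg.Agent.Helper20.relIndex_map_dvd N.subtype _ _)

/-! ## Closure properties of `PLengthLE` -/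

theorem pLengthLE_of_surjective {G H : Type*} [Group G] [Group H] [Finite G] [Finite H]
    (p : ℕ) [Fact p.Prime] (f : G →* H) (hf : Function.Surjective f) (k : ℕ)
    (h : PLengthLE p k G) : PLengthLE p k H := by
  rw [pLengthLE_iff] at h ⊢
  obtain ⟨V, hV, htop⟩ := h
  refine ⟨_, hV.map f hf, ?_⟩
  show (V (2 * k + 1)).map f = ⊤
  rw [htop, ← MonoidHom.range_eq_map, MonoidHom.range_eq_top]
  exact hf

theorem pLengthLE_subgroup {G : Type*} [Group G] [Finite G] (p : ℕ) [Fact p.Prime]
    (K : Subgroup G) (k : ℕ) (h : PLengthLE p k G) : PLengthLE p k ↥K := by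
  rw [pLengthLE_iff] at h ⊢
  obtain ⟨V, hV, htop⟩ := h
  refine ⟨_, hV.subgroupOf K, ?_⟩
  show (V (2 * k + 1)).subgroupOf K = ⊤
  rw [htop, Subgroup.top_subgroupOf]

theorem pLengthLE_equiv {G H : Type*} [Group G] [Group H] [Finite G] [Finite H]
    (p : ℕ) [Fact p.Prime] (e : G ≃* H) (k : ℕ) (h : PLengthLE p k G) : PLengthLE p k H :=
  pLengthLE_of_surjective p e.toMonoidHom e.surjective k h

theorem pLengthLE_mono {G : Type*} [Group G] (p : ℕ) {k k' : ℕ} (hk : k ≤ k')
    (h : PLengthLE p k G) : PLengthLE p k' G := by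
  unfold PLengthLE at h ⊢
  rw [eq_top_iff, ← h]
  exact upper_mono p (by omega)

theorem pLengthLE_zero_of_coprime {G : Type*} [Group G] [Finite G] (p : ℕ) [Fact p.Prime]
    (h : (Nat.card G).Coprime p) : PLengthLE p 0 G := by
  unfold PLengthLE
  rw [eq_top_iff]
  apply le_upper_succ 0 ⊥ ⊤ bot_le
  rw [stepOK_even Even.zero, Subgroup.relIndex_bot_left, Subgroup.card_top]
  exact h

theorem pLengthLE_one_of_isPGroup {G : Type*} [Group G] [Finite G] (p : ℕ) [Fact p.Prime]
    (h : IsPGroup p G) : PLengthLE p 1 G := by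
  unfold PLengthLE
  rw [eq_top_iff]
  have h2 : (⊤ : Subgroup G) ≤ (upperPSeries p G (1 + 1)).1 := by
    apply le_upper_succ 1 ⊥ ⊤ bot_le
    rw [stepOK_odd Nat.not_even_one, Subgroup.relIndex_bot_left, Subgroup.card_top]
    exact h.exists_card_eq
  exact h2.trans (upper_le_succ p 2)

/-- Sub-additivity of the `p`-length along a normal subgroup. -/
theorem pLengthLE_ext {G : Type*} [Group G] [Finite G] (p : ℕ) [hp : Fact p.Prime]
    (N : Subgroup G) [N.Normal] (a b : ℕ) (hN : PLengthLE p a ↥N)
    (hQ : PLengthLE p b (G ⧸ N)) : PLengthLE p (a + b) G := by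
  have hchain := isPChain_map_upper p N
  have key : ∀ j : ℕ, ((upperPSeries p (G ⧸ N) (j + 1)).1).comap (QuotientGroup.mk' N) ≤
      (upperPSeries p G (2 * a + (j + 1))).1 := by
    intro j
    induction j with
    | zero =>
      haveI hBn : (((upperPSeries p (G ⧸ N) (0 + 1)).1).comap (QuotientGroup.mk' N)).Normal :=
        (upperPSeries_normal p (G ⧸ N) (0 + 1)).comap _
      apply le_upper_succ (2 * a) (((upperPSeries p ↥N (2 * a)).1).map N.subtype) _
        (hchain.le_upper (2 * a))
      have hAN : ((upperPSeries p ↥N (2 * a)).1).map N.subtype ≤ N := Subgroup.map_subtype_le _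
      have hNB : N ≤ ((upperPSeries p (G ⧸ N) (0 + 1)).1).comap (QuotientGroup.mk' N) :=
        le_comap_mk _ _
      rw [← Subgroup.relIndex_mul_relIndex _ _ _ hAN hNB]
      have h1 : ((((upperPSeries p ↥N (2 * a)).1).map N.subtype).relIndex N).Coprime p := by
        have h2 := upper_relIndex (G := ↥N) p (2 * a)
        rw [stepOK_even (even_two_mul a), show (upperPSeries p ↥N (2 * a + 1)).1 = ⊤ from hN]
          at h2
        have h3 := Cfsg.Agent.Helper20.relIndex_map_dvd N.subtype
          (upperPSeries p ↥N (2 * a)).1 ⊤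
        rw [← MonoidHom.range_eq_map, Subgroup.range_subtype] at h3
        exact Nat.Coprime.coprime_dvd_left h3 h2
      have h4 : (N.relIndex
          (((upperPSeries p (G ⧸ N) (0 + 1)).1).comap (QuotientGroup.mk' N))).Coprime p := by
        have h5 := upper_relIndex (G := G ⧸ N) p 0
        rw [stepOK_even Even.zero, upper_zero, Subgroup.relIndex_bot_left] at h5
        rw [← card_map_mk_eq_relIndex,
          Subgroup.map_comap_eq_self_of_surjective (QuotientGroup.mk'_surjective N)]
        exact h5
      rw [stepOK_even (even_two_mul a)]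
      exact Nat.Coprime.mul_left h1 h4
    | succ j ih =>
      haveI hBn : (((upperPSeries p (G ⧸ N) (j + 1 + 1)).1).comap
          (QuotientGroup.mk' N)).Normal :=
        (upperPSeries_normal p (G ⧸ N) (j + 1 + 1)).comap _
      have hidx : 2 * a + (j + 1 + 1) = (2 * a + (j + 1)) + 1 := by ring
      rw [hidx]
      apply le_upper_succ (2 * a + (j + 1)) _ _ ih
      rw [relIndex_comap_mk, stepOK_shift]
      exact upper_relIndex (G := G ⧸ N) p (j + 1)
  unfold PLengthLE
  rw [eq_top_iff]
  have h := key (2 * b)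
  rw [show (upperPSeries p (G ⧸ N) (2 * b + 1)).1 = ⊤ from hQ, Subgroup.comap_top] at h
  have hidx : 2 * (a + b) + 1 = 2 * a + (2 * b + 1) := by ring
  rw [hidx]
  exact h

/-- Passing to the quotient by `O_{p',p}` lowers the `p`-length by one. -/
theorem pLengthLE_quot_upper_two {G : Type*} [Group G] [Finite G] (p : ℕ) [hp : Fact p.Prime]
    (k : ℕ) (h : PLengthLE p (k + 1) G) : PLengthLE p k (G ⧸ (upperPSeries p G 2).1) := by
  rw [pLengthLE_iff]
  refine ⟨fun i => ((upperPSeries p G (i + 2)).1).map
    (QuotientGroup.mk' (upperPSeries p G 2).1), ⟨?_, ?_, ?_, ?_⟩, ?_⟩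
  · show ((upperPSeries p G (0 + 2)).1).map (QuotientGroup.mk' (upperPSeries p G 2).1) = ⊥
    exact QuotientGroup.map_mk'_self _
  · intro i
    exact Subgroup.map_mono (upper_le_succ p (i + 2))
  · intro i
    exact (upperPSeries_normal p G (i + 2)).map _ (QuotientGroup.mk'_surjective _)
  · intro i
    have h1 := upper_relIndex (G := G) p (i + 2)
    have h2 := (stepOK_add_two i _).mp h1
    exact stepOK_of_dvd hp.out h2 (Cfsg.Agent.Helper20.relIndex_map_dvd _ _ _)
  · show ((upperPSeries p G (2 * k + 1 + 2)).1).map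
      (QuotientGroup.mk' (upperPSeries p G 2).1) = ⊤
    have h3 : (upperPSeries p G (2 * k + 1 + 2)).1 = ⊤ := by
      have h4 : 2 * k + 1 + 2 = 2 * (k + 1) + 1 := by ring
      rw [h4]
      exact h
    rw [h3, ← MonoidHom.range_eq_map, MonoidHom.range_eq_top]
    exact QuotientGroup.mk'_surjective _

/-- Conversely, the `p`-length of `G` is at most one more than that of `G / O_{p',p}(G)`. -/
theorem pLengthLE_of_quot_upper_two {G : Type*} [Group G] [Finite G] (p : ℕ) [hp : Fact p.Prime]
    (k : ℕ) (h : PLengthLE p k (G ⧸ (upperPSeries p G 2).1)) : PLengthLE p (k + 1) G := by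
  have key : ∀ j : ℕ, ((upperPSeries p (G ⧸ (upperPSeries p G 2).1) j).1).comap
      (QuotientGroup.mk' (upperPSeries p G 2).1) ≤ (upperPSeries p G (j + 2)).1 := by
    intro j
    induction j with
    | zero =>
      rw [upper_zero, MonoidHom.comap_bot, QuotientGroup.ker_mk']
    | succ j ih =>
      haveI hBn : (((upperPSeries p (G ⧸ (upperPSeries p G 2).1) (j + 1)).1).comap
          (QuotientGroup.mk' (upperPSeries p G 2).1)).Normal :=
        (upperPSeries_normal p (G ⧸ (upperPSeries p G 2).1) (j + 1)).comap _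
      have hidx : j + 1 + 2 = (j + 2) + 1 := by ring
      rw [hidx]
      apply le_upper_succ (j + 2) _ _ ih
      rw [relIndex_comap_mk, stepOK_add_two]
      exact upper_relIndex (G := G ⧸ (upperPSeries p G 2).1) p j
  unfold PLengthLE
  rw [eq_top_iff]
  have h1 := key (2 * k + 1)
  rw [show (upperPSeries p (G ⧸ (upperPSeries p G 2).1) (2 * k + 1)).1 = ⊤ from h,
    Subgroup.comap_top] at h1
  have hidx : 2 * (k + 1) + 1 = 2 * k + 1 + 2 := by ring
  rw [hidx]
  exact h1

/-! ## Derived series helpers -/

theorem derivedSeries_eq_bot_of_injective {A B : Type*} [Group A] [Group B] (f : A →* B)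
    (hf : Function.Injective f) (n : ℕ) (h : derivedSeries B n = ⊥) :
    derivedSeries A n = ⊥ := by
  have h1 := map_derivedSeries_le_derivedSeries f n
  rw [h, le_bot_iff] at h1
  exact (Subgroup.map_eq_bot_iff_of_injective _ hf).mp h1

theorem derivedSeries_eq_bot_of_surjective {A B : Type*} [Group A] [Group B] (f : A →* B)
    (hf : Function.Surjective f) (n : ℕ) (h : derivedSeries A n = ⊥) :
    derivedSeries B n = ⊥ := by
  rw [← map_derivedSeries_eq hf n, h, Subgroup.map_bot]

theorem derivedSeries_add_eq_bot {H : Type*} [Group H] (P : Subgroup H) (a b : ℕ)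
    (h1 : derivedSeries H a ≤ P) (h2 : derivedSeries ↥P b = ⊥) :
    derivedSeries H (a + b) = ⊥ := by
  have key : ∀ c : ℕ, derivedSeries H (a + c) ≤ (derivedSeries ↥P c).map P.subtype := by
    intro c
    induction c with
    | zero =>
      rw [derivedSeries_zero, ← MonoidHom.range_eq_map, Subgroup.range_subtype]
      exact h1
    | succ c ih =>
      rw [← add_assoc, derivedSeries_succ, derivedSeries_succ, Subgroup.map_commutator]
      exact Subgroup.commutator_mono ih ih
  rw [eq_bot_iff]
  have h3 := key b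
  rwa [h2, Subgroup.map_bot] at h3

theorem derivedSeries_le_of_quot {G : Type*} [Group G] (N : Subgroup G) [N.Normal] (n : ℕ)
    (h : derivedSeries (G ⧸ N) n = ⊥) : derivedSeries G n ≤ N := by
  have h1 := map_derivedSeries_eq (QuotientGroup.mk'_surjective N) n
  rw [h, Subgroup.map_eq_bot_iff, QuotientGroup.ker_mk'] at h1
  exact h1

/-- The derived length bound for `q`-subgroups passes to quotients. -/
theorem derived_pgroup_quot {G : Type*} [Group G] [Finite G] (q : ℕ) [Fact q.Prime] (d : ℕ)
    (hd : ∀ P : Subgroup G, IsPGroup q ↥P → derivedSeries ↥P d = ⊥) (M : Subgroup G) [M.Normal]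
    (Q : Subgroup (G ⧸ M)) (hQ : IsPGroup q ↥Q) : derivedSeries ↥Q d = ⊥ := by
  obtain ⟨S', hQS⟩ := hQ.exists_le_sylow
  obtain ⟨S, rfl⟩ := Sylow.mapSurjective_surjective (QuotientGroup.mk'_surjective M) q S'
  rw [Sylow.coe_mapSurjective] at hQS
  have h1 := hd (S : Subgroup G) S.isPGroup'
  have h2 := derivedSeries_eq_bot_of_surjective
    ((QuotientGroup.mk' M).subgroupMap (S : Subgroup G))
    ((QuotientGroup.mk' M).subgroupMap_surjective (S : Subgroup G)) d h1
  exact derivedSeries_eq_bot_of_injective (Subgroup.inclusion hQS)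
    (Subgroup.inclusion_injective hQS) d h2

end Cfsg.Agent.Helper20.PLen
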