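import Mathlib
import Cfsg.Agent.Helper20.PLength
import Cfsg.Agent.Helper9.PComp

set_option autoImplicit false

namespace Cfsg.Agent.Helper20.PLen

universe u

open Cfsg

/-- A nontrivial normal subgroup of a `p`-solvable group contains a nontrivial normal subgroup
of the whole group that is a `p`-group or a `p'`-group. -/
theorem psolvable_normal_setup {G : Type*} [Group G] [Finite G] (p : ℕ) [Fact p.Prime]
    (hG : Cfsg.IsPSolvable p G) (N : Subgroup G) [hN : N.Normal] (hN1 : N ≠ ⊥) :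
    ∃ A : Subgroup G, A ≤ N ∧ A.Normal ∧ A ≠ ⊥ ∧ (IsPGroup p A ∨ (Nat.card A).Coprime p) := by
  classical
  obtain ⟨n, H, h0, hlast, hmono, hnorm, hstep⟩ := hG
  have hex' : ∃ k : ℕ, ∃ h : k < n + 1, H ⟨k, h⟩ ⊓ N ≠ ⊥ := by
    refine ⟨n, Nat.lt_succ_self n, ?_⟩
    have : (⟨n, Nat.lt_succ_self n⟩ : Fin (n + 1)) = Fin.last n := rfl
    rw [this, hlast, top_inf_eq]
    exact hN1
  obtain ⟨hk, hHk⟩ := Nat.find_spec hex'
  have hmin : ∀ j : ℕ, j < Nat.find hex' → ∀ h : j < n + 1, H ⟨j, h⟩ ⊓ N = ⊥ := by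
    intro j hj h
    by_contra hne
    exact Nat.find_min hex' hj ⟨h, hne⟩
  have hk0 : Nat.find hex' ≠ 0 := by
    intro h0'
    apply hHk
    have : (⟨Nat.find hex', hk⟩ : Fin (n + 1)) = 0 := by
      apply Fin.ext
      show Nat.find hex' = 0
      exact h0'
    rw [this, h0, bot_inf_eq]
  obtain ⟨j, hj⟩ := Nat.exists_eq_succ_of_ne_zero hk0
  have hjn : j < n := by omega
  have hjn1 : j < n + 1 := by omega
  have hHj : H ⟨j, hjn1⟩ ⊓ N = ⊥ := hmin j (by omega) hjn1
  have hs := hstep ⟨j, hjn⟩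
  have e1 : (⟨j, hjn⟩ : Fin n).castSucc = ⟨j, hjn1⟩ := rfl
  have e2 : (⟨j, hjn⟩ : Fin n).succ = ⟨Nat.find hex', hk⟩ := by
    apply Fin.ext
    show j + 1 = Nat.find hex'
    exact hj.symm
  rw [e1, e2] at hs
  haveI := hnorm ⟨Nat.find hex', hk⟩
  haveI := hnorm ⟨j, hjn1⟩
  have hcard : Nat.card ↥(H ⟨Nat.find hex', hk⟩ ⊓ N) ∣
      (H ⟨j, hjn1⟩).relIndex (H ⟨Nat.find hex', hk⟩) := by
    have h2 : H ⟨j, hjn1⟩ ⊓ (H ⟨Nat.find hex', hk⟩ ⊓ N) = ⊥ :=
      le_antisymm ((le_inf inf_le_left (inf_le_right.trans inf_le_right)).trans hHj.le) bot_le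
    have h1 : (H ⟨j, hjn1⟩).relIndex (H ⟨Nat.find hex', hk⟩ ⊓ N) =
        Nat.card ↥(H ⟨Nat.find hex', hk⟩ ⊓ N) := by
      rw [← Subgroup.inf_relIndex_right, h2, Subgroup.relIndex_bot_left]
    rw [← h1]
    exact relIndex_dvd_of_le_right _ inf_le_left
  refine ⟨H ⟨Nat.find hex', hk⟩ ⊓ N, inf_le_right, inferInstance, hHk, ?_⟩
  rcases hs with ⟨m, hm⟩ | hc
  · left
    rw [hm] at hcard
    obtain ⟨i, -, hi⟩ := (Nat.dvd_prime_pow (Fact.out : p.Prime)).1 hcard
    exact IsPGroup.of_card hi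
  · right
    exact Nat.Coprime.coprime_dvd_left hcard hc

/-- Hall–Higman Lemma 1.2.3: in a `p`-solvable group with `O_{p'} = 1`, the subgroup `O_p`
contains its centralizer. -/
theorem centralizer_pCore_le_of_psolvable {H : Type u} [Group H] [Finite H] (p : ℕ)
    [hp : Fact p.Prime] (hsol : Cfsg.IsPSolvable p H) (hO : Cfsg.pPrimeCore p H = ⊥) :
    Subgroup.centralizer (Cfsg.pCore p H : Set H) ≤ Cfsg.pCore p H := by
  by_contra hC
  have hPn : (Cfsg.pCore p H).Normal := inferInstance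
  have hCn : (Subgroup.centralizer (Cfsg.pCore p H : Set H)).Normal := inferInstance
  have hPp : IsPGroup p ↥(Cfsg.pCore p H) := Cfsg.Agent.Helper9.pCore_isPGroup p
  have hCbar : (Subgroup.centralizer (Cfsg.pCore p H : Set H)).map
      (QuotientGroup.mk' (Cfsg.pCore p H)) ≠ ⊥ := by
    intro h
    rw [Subgroup.map_eq_bot_iff, QuotientGroup.ker_mk'] at h
    exact hC h
  haveI hCbn : ((Subgroup.centralizer (Cfsg.pCore p H : Set H)).map
      (QuotientGroup.mk' (Cfsg.pCore p H))).Normal :=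
    hCn.map _ (QuotientGroup.mk'_surjective _)
  obtain ⟨B, hBC, hBn, hB1, hB⟩ := psolvable_normal_setup p
    (Cfsg.Agent.Helper20.isPSolvable_quotient p hsol (Cfsg.pCore p H)) _ hCbar
  have hMn : (B.comap (QuotientGroup.mk' (Cfsg.pCore p H))).Normal := hBn.comap _
  have hPM : Cfsg.pCore p H ≤ B.comap (QuotientGroup.mk' (Cfsg.pCore p H)) := le_comap_mk _ _
  have hmapM : (B.comap (QuotientGroup.mk' (Cfsg.pCore p H))).map
      (QuotientGroup.mk' (Cfsg.pCore p H)) = B :=
    Subgroup.map_comap_eq_self_of_surjective (QuotientGroup.mk'_surjective _) B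
  have hrel : (Cfsg.pCore p H).relIndex (B.comap (QuotientGroup.mk' (Cfsg.pCore p H))) =
      Nat.card B := by
    rw [← card_map_mk_eq_relIndex, hmapM]
  -- it suffices to show `M ≤ P`
  have hsuff : ¬ B.comap (QuotientGroup.mk' (Cfsg.pCore p H)) ≤ Cfsg.pCore p H := by
    intro hle
    apply hB1
    rw [eq_bot_iff, ← hmapM, ← QuotientGroup.map_mk'_self (Cfsg.pCore p H)]
    exact Subgroup.map_mono hle
  apply hsuff
  rcases hB with hBp | hBc
  · -- `M` is a normal `p`-subgroup
    obtain ⟨e, he⟩ := hBp.exists_card_eq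
    obtain ⟨f, hf⟩ := hPp.exists_card_eq
    have h1 := Subgroup.relIndex_mul_relIndex ⊥ (Cfsg.pCore p H)
      (B.comap (QuotientGroup.mk' (Cfsg.pCore p H))) bot_le hPM
    rw [Subgroup.relIndex_bot_left, Subgroup.relIndex_bot_left, hrel, he, hf, ← pow_add] at h1
    exact Cfsg.Agent.Helper9.le_pCore hMn (IsPGroup.of_card h1.symm)
  · -- `M / P` is a `p'`-group
    have hDn : (B.comap (QuotientGroup.mk' (Cfsg.pCore p H)) ⊓
        Subgroup.centralizer (Cfsg.pCore p H : Set H)).Normal := inferInstance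
    have hTp : IsPGroup p ↥((Cfsg.pCore p H).subgroupOf
        (B.comap (QuotientGroup.mk' (Cfsg.pCore p H)) ⊓
          Subgroup.centralizer (Cfsg.pCore p H : Set H))) := hPp.comap_subtype
    have hTidx : ¬ p ∣ ((Cfsg.pCore p H).subgroupOf
        (B.comap (QuotientGroup.mk' (Cfsg.pCore p H)) ⊓
          Subgroup.centralizer (Cfsg.pCore p H : Set H))).index := by
      intro hdvd
      have h1 : (Cfsg.pCore p H).relIndex (B.comap (QuotientGroup.mk' (Cfsg.pCore p H)) ⊓
          Subgroup.centralizer (Cfsg.pCore p H : Set H)) ∣ Nat.card B := by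
        rw [← hrel]
        exact relIndex_dvd_of_le_right _ inf_le_left
      exact (Nat.Prime.dvd_iff_not_coprime hp.out).mp (hdvd.trans h1) hBc.symm
    obtain ⟨T₀, hT₀⟩ : ∃ T₀ : Sylow p ↥(B.comap (QuotientGroup.mk' (Cfsg.pCore p H)) ⊓
        Subgroup.centralizer (Cfsg.pCore p H : Set H)),
        (T₀ : Subgroup ↥(B.comap (QuotientGroup.mk' (Cfsg.pCore p H)) ⊓
          Subgroup.centralizer (Cfsg.pCore p H : Set H))) =
        (Cfsg.pCore p H).subgroupOf (B.comap (QuotientGroup.mk' (Cfsg.pCore p H)) ⊓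
          Subgroup.centralizer (Cfsg.pCore p H : Set H)) :=
      ⟨hTp.toSylow hTidx, rfl⟩
    have hTcen : ∀ t ∈ (T₀ : Subgroup ↥(B.comap (QuotientGroup.mk' (Cfsg.pCore p H)) ⊓
          Subgroup.centralizer (Cfsg.pCore p H : Set H))),
        ∀ c : ↥(B.comap (QuotientGroup.mk' (Cfsg.pCore p H)) ⊓
          Subgroup.centralizer (Cfsg.pCore p H : Set H)), t * c = c * t := by
      intro t ht c
      apply Subtype.ext
      rw [hT₀] at ht
      have htP : (t : H) ∈ Cfsg.pCore p H := Subgroup.mem_subgroupOf.mp ht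
      exact Subgroup.mem_centralizer_iff.mp (Subgroup.mem_inf.mp c.2).2 t htP
    have hNC : Subgroup.normalizer ((T₀ : Subgroup ↥(B.comap (QuotientGroup.mk' (Cfsg.pCore p H)) ⊓
          Subgroup.centralizer (Cfsg.pCore p H : Set H))) :
          Set ↥(B.comap (QuotientGroup.mk' (Cfsg.pCore p H)) ⊓
          Subgroup.centralizer (Cfsg.pCore p H : Set H))) ≤
        Subgroup.centralizer ((T₀ : Subgroup ↥(B.comap (QuotientGroup.mk' (Cfsg.pCore p H)) ⊓
          Subgroup.centralizer (Cfsg.pCore p H : Set H))) :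
          Set ↥(B.comap (QuotientGroup.mk' (Cfsg.pCore p H)) ⊓
          Subgroup.centralizer (Cfsg.pCore p H : Set H))) := by
      intro c _
      rw [Subgroup.mem_centralizer_iff]
      intro t ht
      exact hTcen t ht c
    have hcompl := MonoidHom.ker_transferSylow_isComplement' T₀ hNC
    have hKc : (Nat.card ↥(MonoidHom.transferSylow T₀ hNC).ker).Coprime p := by
      rw [← hcompl.index_eq_card]
      exact ((Nat.Prime.coprime_iff_not_dvd hp.out).mpr T₀.not_dvd_index).symm
    have hMsub : ((MonoidHom.transferSylow T₀ hNC).ker.map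
        (B.comap (QuotientGroup.mk' (Cfsg.pCore p H)) ⊓
          Subgroup.centralizer (Cfsg.pCore p H : Set H)).subtype).IsSubnormal := by
      refine Subgroup.IsSubnormal.step _ _ (Subgroup.map_subtype_le _) hDn.isSubnormal ?_
      have e : ((MonoidHom.transferSylow T₀ hNC).ker.map
          (B.comap (QuotientGroup.mk' (Cfsg.pCore p H)) ⊓
            Subgroup.centralizer (Cfsg.pCore p H : Set H)).subtype).subgroupOf
          (B.comap (QuotientGroup.mk' (Cfsg.pCore p H)) ⊓
            Subgroup.centralizer (Cfsg.pCore p H : Set H)) =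
          (MonoidHom.transferSylow T₀ hNC).ker :=
        Subgroup.comap_map_eq_self_of_injective (Subgroup.subtype_injective _) _
      rw [e]
      exact MonoidHom.normal_ker _
    have hMc : (Nat.card ↥((MonoidHom.transferSylow T₀ hNC).ker.map
        (B.comap (QuotientGroup.mk' (Cfsg.pCore p H)) ⊓
          Subgroup.centralizer (Cfsg.pCore p H : Set H)).subtype)).Coprime p := by
      rw [Subgroup.card_map_of_injective (Subgroup.subtype_injective _)]
      exact hKc
    have hMbot : (MonoidHom.transferSylow T₀ hNC).ker.map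
        (B.comap (QuotientGroup.mk' (Cfsg.pCore p H)) ⊓
          Subgroup.centralizer (Cfsg.pCore p H : Set H)).subtype = ⊥ := by
      have h1 := Cfsg.Agent.Helper9.subnormal_pPrime_le_pPrimeCore p _ hMsub hMc
      rw [hO] at h1
      exact le_bot_iff.mp h1
    have hkerbot : (MonoidHom.transferSylow T₀ hNC).ker = ⊥ :=
      (Subgroup.map_eq_bot_iff_of_injective _ (Subgroup.subtype_injective _)).mp hMbot
    have hT₀top : (T₀ : Subgroup ↥(B.comap (QuotientGroup.mk' (Cfsg.pCore p H)) ⊓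
          Subgroup.centralizer (Cfsg.pCore p H : Set H))) = ⊤ := by
      have h1 := hcompl.sup_eq_top
      rw [hkerbot, bot_sup_eq] at h1
      exact h1
    -- hence `D ≤ P`
    have hDP : B.comap (QuotientGroup.mk' (Cfsg.pCore p H)) ⊓
        Subgroup.centralizer (Cfsg.pCore p H : Set H) ≤ Cfsg.pCore p H := by
      intro c hc
      have h1 : (⟨c, hc⟩ : ↥(B.comap (QuotientGroup.mk' (Cfsg.pCore p H)) ⊓
          Subgroup.centralizer (Cfsg.pCore p H : Set H))) ∈
          (T₀ : Subgroup ↥(B.comap (QuotientGroup.mk' (Cfsg.pCore p H)) ⊓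
          Subgroup.centralizer (Cfsg.pCore p H : Set H))) := by
        rw [hT₀top]
        exact Subgroup.mem_top _
      rw [hT₀] at h1
      exact Subgroup.mem_subgroupOf.mp h1
    -- `M ≤ C P`, so `M = D P ≤ P`
    intro x hx
    have hxB : QuotientGroup.mk' (Cfsg.pCore p H) x ∈ B := Subgroup.mem_comap.mp hx
    obtain ⟨c, hc, hcx⟩ := Subgroup.mem_map.mp (hBC hxB)
    -- `x = c * z` with `z ∈ P`
    have hz : c⁻¹ * x ∈ Cfsg.pCore p H := by
      rw [← QuotientGroup.eq_one_iff, QuotientGroup.mk_mul, QuotientGroup.mk_inv]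
      have h2 : ((c : H) : H ⧸ Cfsg.pCore p H) = ((x : H) : H ⧸ Cfsg.pCore p H) := hcx
      rw [h2, inv_mul_cancel]
    have hcM : c ∈ B.comap (QuotientGroup.mk' (Cfsg.pCore p H)) := by
      have h3 : c = x * (c⁻¹ * x)⁻¹ := by group
      rw [h3]
      exact Subgroup.mul_mem _ hx (Subgroup.inv_mem _ (hPM hz))
    have hcP : c ∈ Cfsg.pCore p H := hDP (Subgroup.mem_inf.mpr ⟨hcM, hc⟩)
    have h4 : x = c * (c⁻¹ * x) := by group
    rw [h4]
    exact Subgroup.mul_mem _ hcP hz

/-- `O_{p'}` of the quotient by an odd term of the upper `p`-series is trivial. -/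
theorem pPrimeCore_quot_upper_odd {G : Type*} [Group G] [Finite G] (p : ℕ) [hp : Fact p.Prime]
    (n : ℕ) (hn : ¬ Even n) : Cfsg.pPrimeCore p (G ⧸ (upperPSeries p G n).1) = ⊥ := by
  obtain ⟨m, rfl⟩ : ∃ m, n = m + 1 := by
    rcases n with _ | m
    · exact absurd Even.zero hn
    · exact ⟨m, rfl⟩
  have hm : Even m := by
    rw [Nat.even_add_one, not_not] at hn
    exact hn
  haveI hLn : ((Cfsg.pPrimeCore p (G ⧸ (upperPSeries p G (m + 1)).1)).comap
      (QuotientGroup.mk' (upperPSeries p G (m + 1)).1)).Normal :=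
    (Cfsg.pPrimeCore_normal p _).comap _
  have hle : (Cfsg.pPrimeCore p (G ⧸ (upperPSeries p G (m + 1)).1)).comap
      (QuotientGroup.mk' (upperPSeries p G (m + 1)).1) ≤ (upperPSeries p G (m + 1)).1 := by
    apply le_upper_succ m (upperPSeries p G m).1 _ le_rfl
    rw [stepOK_even hm, ← Subgroup.relIndex_mul_relIndex _ _ _ (upper_le_succ p m)
      (le_comap_mk _ _)]
    have h1 := upper_relIndex (G := G) p m
    rw [stepOK_even hm] at h1
    have h2 : ((upperPSeries p G (m + 1)).1.relIndex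
        ((Cfsg.pPrimeCore p (G ⧸ (upperPSeries p G (m + 1)).1)).comap
          (QuotientGroup.mk' (upperPSeries p G (m + 1)).1))).Coprime p := by
      rw [← card_map_mk_eq_relIndex,
        Subgroup.map_comap_eq_self_of_surjective (QuotientGroup.mk'_surjective _)]
      exact Cfsg.Agent.Helper9.pPrimeCore_coprime p
    exact Nat.Coprime.mul_left h1 h2
  rw [eq_bot_iff, ← Subgroup.map_comap_eq_self_of_surjective
    (QuotientGroup.mk'_surjective (upperPSeries p G (m + 1)).1)
    (Cfsg.pPrimeCore p (G ⧸ (upperPSeries p G (m + 1)).1)),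
    ← QuotientGroup.map_mk'_self (upperPSeries p G (m + 1)).1]
  exact Subgroup.map_mono hle

theorem upper_map_mk_succ_odd {G : Type*} [Group G] (p : ℕ) {n : ℕ} (h : ¬ Even n) :
    (upperPSeries p G (n + 1)).1.map (QuotientGroup.mk' (upperPSeries p G n).1) =
      Cfsg.pCore p (G ⧸ (upperPSeries p G n).1) := by
  rw [upper_succ_odd p h,
    Subgroup.map_comap_eq_self_of_surjective (QuotientGroup.mk'_surjective _)]

/-- Each `p`-factor of the upper `p`-series of a `p`-solvable group contains its centralizer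
in the corresponding quotient. -/
theorem hh_upper {G : Type u} [Group G] [Finite G] (p : ℕ) [hp : Fact p.Prime]
    (hsol : Cfsg.IsPSolvable p G) (n : ℕ) (hn : ¬ Even n) :
    Subgroup.centralizer (((upperPSeries p G (n + 1)).1.map
        (QuotientGroup.mk' (upperPSeries p G n).1) : Subgroup (G ⧸ (upperPSeries p G n).1)) :
        Set (G ⧸ (upperPSeries p G n).1)) ≤
      (upperPSeries p G (n + 1)).1.map (QuotientGroup.mk' (upperPSeries p G n).1) := by
  rw [upper_map_mk_succ_odd p hn]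
  exact centralizer_pCore_le_of_psolvable p
    (Cfsg.Agent.Helper20.isPSolvable_quotient p hsol _) (pPrimeCore_quot_upper_odd p n hn)

end Cfsg.Agent.Helper20.PLen
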