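import Mathlib
import Cfsg.Agent.Helper20.PLength
import Cfsg.Agent.Helper20.SylowAux

set_option autoImplicit false

namespace Cfsg.Agent.Helper20.PLen

open Cfsg
open scoped Pointwise

/-- A `p`-subgroup lies in every normal subgroup of index prime to `p`. -/
theorem isPGroup_le_of_normal_of_coprime_index {G : Type*} [Group G] [Finite G] {p : ℕ}
    [hp : Fact p.Prime] (U : Subgroup G) [U.Normal] (hU : U.index.Coprime p) (Q : Subgroup G)
    (hQ : IsPGroup p Q) : Q ≤ U := by
  have h1 : IsPGroup p ↥(Q.map (QuotientGroup.mk' U)) := hQ.map _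
  obtain ⟨j, hj⟩ := h1.exists_card_eq
  have h2 : Nat.card ↥(Q.map (QuotientGroup.mk' U)) ∣ U.index := by
    rw [Subgroup.index_eq_card]
    exact Subgroup.card_subgroup_dvd_card _
  rw [hj] at h2
  have h3 : j = 0 := by
    by_contra hne
    have h4 : p ∣ U.index := (dvd_pow_self p hne).trans h2
    exact (Nat.Prime.dvd_iff_not_coprime hp.out).mp h4 hU.symm
  rw [h3, pow_zero] at hj
  have h5 := Subgroup.eq_bot_of_card_eq _ hj
  rw [Subgroup.map_eq_bot_iff, QuotientGroup.ker_mk'] at h5
  exact h5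

/-- The structure of a group of `p`-length at most one: `K = O_{p'}(G)`, `K S = O_{p',p}(G)`
contains every `p`-subgroup, and `G = N_G(S) K`. -/
theorem plength_one_structure {G : Type*} [Group G] [Finite G] (p : ℕ) [hp : Fact p.Prime]
    (hpl : PLengthLE p 1 G) (S : Sylow p G) :
    ∃ K : Subgroup G, K.Normal ∧ (Nat.card K).Coprime p ∧ K ⊓ (S : Subgroup G) = ⊥ ∧
      (∀ Q : Subgroup G, IsPGroup p Q → Q ≤ K ⊔ (S : Subgroup G)) ∧
      ∀ x : G, ∃ g ∈ Subgroup.normalizer ((S : Subgroup G) : Set G), ∃ k ∈ K, g * k = x := by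
  have hK : (Nat.card ↥(upperPSeries p G 1).1).Coprime p := by
    have h1 := upper_relIndex (G := G) p 0
    rw [stepOK_even Even.zero, upper_zero, Subgroup.relIndex_bot_left] at h1
    exact h1
  obtain ⟨e, he⟩ : ∃ e, (upperPSeries p G 1).1.relIndex (upperPSeries p G 2).1 = p ^ e := by
    have h1 := upper_relIndex (G := G) p 1
    rw [stepOK_odd Nat.not_even_one] at h1
    exact h1
  have hU3 : (upperPSeries p G 2).1.index.Coprime p := by
    have h1 := upper_relIndex (G := G) p 2
    rw [stepOK_even even_two] at h1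
    have h2 : (upperPSeries p G (2 + 1)).1 = ⊤ := hpl
    rw [h2, Subgroup.relIndex_top_right] at h1
    exact h1
  have hQle : ∀ Q : Subgroup G, IsPGroup p Q → Q ≤ (upperPSeries p G 2).1 :=
    fun Q hQ => isPGroup_le_of_normal_of_coprime_index _ hU3 Q hQ
  have hSU : (S : Subgroup G) ≤ (upperPSeries p G 2).1 := hQle _ S.isPGroup'
  have hKU : (upperPSeries p G 1).1 ≤ (upperPSeries p G 2).1 := upper_le_succ p 1
  have hle : (upperPSeries p G 2).1 ≤ (upperPSeries p G 1).1 ⊔ (S : Subgroup G) := by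
    rw [← Subgroup.relIndex_eq_one]
    have h1 : ((upperPSeries p G 1).1 ⊔ (S : Subgroup G)).relIndex (upperPSeries p G 2).1 ∣
        (S : Subgroup G).relIndex (upperPSeries p G 2).1 :=
      Subgroup.relIndex_dvd_of_le_left _ le_sup_right
    have h2 : ((upperPSeries p G 1).1 ⊔ (S : Subgroup G)).relIndex (upperPSeries p G 2).1 ∣
        (upperPSeries p G 1).1.relIndex (upperPSeries p G 2).1 :=
      Subgroup.relIndex_dvd_of_le_left _ le_sup_left
    rw [he] at h2
    obtain ⟨j, -, hj⟩ := (Nat.dvd_prime_pow hp.out).mp h2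
    rcases Nat.eq_zero_or_pos j with h0 | hpos
    · rw [hj, h0, pow_zero]
    · exfalso
      apply S.not_dvd_index
      refine dvd_trans ?_ (h1.trans (Subgroup.relIndex_dvd_index_of_le hSU))
      rw [hj]
      exact dvd_pow_self p (by omega)
  have hKS : (upperPSeries p G 1).1 ⊔ (S : Subgroup G) = (upperPSeries p G 2).1 :=
    le_antisymm (sup_le hKU hSU) hle
  refine ⟨(upperPSeries p G 1).1, upperPSeries_normal p G 1, hK, ?_, ?_, ?_⟩
  · obtain ⟨j, hj⟩ := S.isPGroup'.exists_card_eq
    apply Subgroup.inf_eq_bot_of_coprime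
    rw [hj]
    exact Nat.Coprime.pow_right j hK
  · intro Q hQ
    rw [hKS]
    exact hQle Q hQ
  · intro x
    have h1 : Subgroup.normalizer ((S : Subgroup G) : Set G) ⊔ (upperPSeries p G 2).1 = ⊤ :=
      S.normalizer_sup_eq_top' hSU
    have hx : x ∈ ((Subgroup.normalizer ((S : Subgroup G) : Set G) ⊔
        (upperPSeries p G 2).1 : Subgroup G) : Set G) := by
      rw [h1]
      exact Subgroup.mem_top x
    rw [Subgroup.mul_normal] at hx
    obtain ⟨n, hn, u, hu, rfl⟩ := Set.mem_mul.mp hx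
    have hu' : u ∈ (((S : Subgroup G) ⊔ (upperPSeries p G 1).1 : Subgroup G) : Set G) := by
      rw [sup_comm, hKS]
      exact hu
    rw [Subgroup.mul_normal] at hu'
    obtain ⟨s, hs, k, hk, rfl⟩ := Set.mem_mul.mp hu'
    exact ⟨n * s, Subgroup.mul_mem _ hn (Subgroup.le_normalizer hs), k, hk, by group⟩

end Cfsg.Agent.Helper20.PLen
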