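import Mathlib
import Cfsg.Agent.Helper20.PLength
import Cfsg.Agent.S1462

set_option autoImplicit false

namespace Cfsg.Agent.Helper20.PLen

open Cfsg

universe u

/-- A group with a normal Sylow `p`-subgroup has `p`-length at most one. -/
theorem pLengthLE_one_of_normal_sylow {X : Type*} [Group X] [Finite X] (p : ℕ) [Fact p.Prime]
    (P : Subgroup X) [P.Normal] (hP : IsPGroup p P) (hi : P.index.Coprime p) :
    PLengthLE p 1 X := by
  have h1 : PLengthLE p 1 ↥P := pLengthLE_one_of_isPGroup p hP
  have h2 : PLengthLE p 0 (X ⧸ P) := by
    apply pLengthLE_zero_of_coprime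
    rw [← Subgroup.index_eq_card]
    exact hi
  exact pLengthLE_ext p P 1 0 h1 h2

/-- A finite solvable group has finite `p`-length. -/
theorem exists_pLengthLE_of_isSolvable (p : ℕ) [hp : Fact p.Prime] :
    ∀ (n : ℕ) (G : Type u) [Group G] [Finite G], Group.IsSolvable G → Nat.card G = n →
      ∃ k, PLengthLE p k G := by
  intro n
  induction n using Nat.strong_induction_on with
  | _ n ih =>
    intro G _ _ hsol hn
    haveI := hsol
    by_cases hsub : Subsingleton G
    · refine ⟨0, pLengthLE_zero_of_coprime p ?_⟩
      rw [Nat.card_of_subsingleton (1 : G)]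
      exact Nat.coprime_one_left p
    · haveI : Nontrivial G := not_subsingleton_iff_nontrivial.mp hsub
      have hlt : commutator G < ⊤ := Group.IsSolvable.commutator_lt_top_of_nontrivial G
      have hcard : Nat.card ↥(commutator G) < n := by
        rw [← hn]
        have h1 := Subgroup.card_mul_index (commutator G)
        have h2 : (commutator G).index ≠ 1 := by
          intro h
          exact (ne_of_lt hlt) (Subgroup.index_eq_one.mp h)
        have h3 : (commutator G).index ≠ 0 := Subgroup.index_ne_zero_of_finite
        have h4 : 0 < Nat.card ↥(commutator G) := Nat.card_pos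
        have h5 : 2 ≤ (commutator G).index := by omega
        nlinarith
      obtain ⟨a, ha⟩ := ih _ hcard ↥(commutator G) inferInstance rfl
      have hcomm : ∀ x y : G ⧸ commutator G, x * y = y * x :=
        fun x y => mul_comm (G := Abelianization G) x y
      obtain ⟨P⟩ := (Sylow.nonempty : Nonempty (Sylow p (G ⧸ commutator G)))
      haveI hPn : (P : Subgroup (G ⧸ commutator G)).Normal := ⟨fun y hy g => by
        have h1 : g * y * g⁻¹ = y := by rw [hcomm g y, mul_assoc, mul_inv_cancel, mul_one]
        rw [h1]
        exact hy⟩
      have hb : PLengthLE p 1 (G ⧸ commutator G) :=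
        pLengthLE_one_of_normal_sylow p (P : Subgroup (G ⧸ commutator G)) P.2
          (Nat.Coprime.symm ((Nat.Prime.coprime_iff_not_dvd hp.out).mpr P.not_dvd_index))
      exact ⟨a + 1, pLengthLE_ext p (commutator G) a 1 ha hb⟩

/-- A finite solvable group is `p`-solvable for every prime `p`. -/
theorem isPSolvable_of_isSolvable {G : Type u} [Group G] [Finite G] [hs : Group.IsSolvable G]
    (p : ℕ) [Fact p.Prime] : IsPSolvable p G := by
  obtain ⟨k, hk⟩ := exists_pLengthLE_of_isSolvable p (Nat.card G) G hs rfl
  exact Cfsg.Agent.S1462.isPSolvable_of_pLengthLE p k hk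

end Cfsg.Agent.Helper20.PLen
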