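import Mathlib
import Cfsg.Agent.Helper20.Conj
import Cfsg.Agent.S0027

namespace Cfsg.Agent.Helper20

open scoped commutatorElement

/-- Hypotheses for the Baer trick: odd exponent `2n+1` and nilpotency class at most two. -/
structure BaerHyp (H : Type*) [Group H] where
  n : ℕ
  hn : ∀ x : H, x ^ (2 * n + 1) = 1
  hc : ∀ x y z : H, ⁅x, y⁆ * z = z * ⁅x, y⁆

/-- The underlying set of `H` with the Baer multiplication `x + y = x y [y,x]^(1/2)`. -/
@[ext] structure Baer (H : Type*) [Group H] (d : BaerHyp H) where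
  val : H

section
variable {H : Type*} [Group H]

theorem BaerHyp.comm_mul_left (d : BaerHyp H) (x y z : H) : ⁅x * y, z⁆ = ⁅x, z⁆ * ⁅y, z⁆ := by
  have h := d.hc y z (z * x⁻¹ * z⁻¹)
  calc ⁅x * y, z⁆ = x * (⁅y, z⁆ * (z * x⁻¹ * z⁻¹)) := by
        rw [commutatorElement_def, commutatorElement_def]; group
    _ = x * ((z * x⁻¹ * z⁻¹) * ⁅y, z⁆) := by rw [h]
    _ = ⁅x, z⁆ * ⁅y, z⁆ := by rw [commutatorElement_def x z]; group

theorem BaerHyp.comm_mul_right (d : BaerHyp H) (x y z : H) : ⁅x, y * z⁆ = ⁅x, y⁆ * ⁅x, z⁆ := by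
  calc ⁅x, y * z⁆ = ⁅y * z, x⁆⁻¹ := (commutatorElement_inv _ _).symm
    _ = (⁅y, x⁆ * ⁅z, x⁆)⁻¹ := by rw [d.comm_mul_left]
    _ = ⁅z, x⁆⁻¹ * ⁅y, x⁆⁻¹ := mul_inv_rev _ _
    _ = ⁅x, z⁆ * ⁅x, y⁆ := by rw [commutatorElement_inv, commutatorElement_inv]
    _ = ⁅x, y⁆ * ⁅x, z⁆ := d.hc x z ⁅x, y⁆

/-- the correction term -/
def BaerHyp.kap (d : BaerHyp H) (x y : H) : H := ⁅y, x⁆ ^ (d.n + 1)

theorem BaerHyp.kap_comm (d : BaerHyp H) (x y z : H) : d.kap x y * z = z * d.kap x y :=
  ((show Commute ⁅y, x⁆ z from d.hc y x z).pow_left (d.n + 1)).eq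

theorem BaerHyp.kap_mul_left (d : BaerHyp H) (x x' y : H) :
    d.kap (x * x') y = d.kap x y * d.kap x' y := by
  unfold BaerHyp.kap
  rw [d.comm_mul_right, (show Commute ⁅y, x⁆ ⁅y, x'⁆ from d.hc y x _).mul_pow]

theorem BaerHyp.kap_mul_right (d : BaerHyp H) (x y y' : H) :
    d.kap x (y * y') = d.kap x y * d.kap x y' := by
  unfold BaerHyp.kap
  rw [d.comm_mul_left, (show Commute ⁅y, x⁆ ⁅y', x⁆ from d.hc y x _).mul_pow]

theorem BaerHyp.kap_central_left (d : BaerHyp H) (k y : H) (hk : ∀ w, k * w = w * k) :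
    d.kap k y = 1 := by
  unfold BaerHyp.kap
  rw [commutatorElement_eq_one_iff_mul_comm.mpr (hk y).symm, one_pow]

theorem BaerHyp.kap_central_right (d : BaerHyp H) (x k : H) (hk : ∀ w, k * w = w * k) :
    d.kap x k = 1 := by
  unfold BaerHyp.kap
  rw [commutatorElement_eq_one_iff_mul_comm.mpr (hk x), one_pow]

theorem BaerHyp.smul_kap {Γ : Type*} [Monoid Γ] [MulDistribMulAction Γ H] (d : BaerHyp H)
    (g : Γ) (x y : H) : g • d.kap x y = d.kap (g • x) (g • y) := by
  simp only [BaerHyp.kap, commutatorElement_def, smul_pow', smul_mul', smul_inv']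

theorem BaerHyp.assoc_aux (d : BaerHyp H) (a b c : H) :
    a * b * d.kap a b * c * d.kap (a * b * d.kap a b) c
      = a * (b * c * d.kap b c) * d.kap a (b * c * d.kap b c) := by
  have e1 : d.kap (a * b * d.kap a b) c = d.kap a c * d.kap b c := by
    rw [d.kap_mul_left, d.kap_mul_left, d.kap_central_left _ _ (d.kap_comm a b), mul_one]
  have e2 : d.kap a (b * c * d.kap b c) = d.kap a b * d.kap a c := by
    rw [d.kap_mul_right, d.kap_mul_right, d.kap_central_right _ _ (d.kap_comm b c), mul_one]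
  rw [e1, e2]
  have h1 := d.kap_comm a b
  have h3 := d.kap_comm b c
  generalize d.kap a b = k1 at h1 ⊢
  generalize d.kap a c = k2
  generalize d.kap b c = k3 at h3 ⊢
  have s1 : a * b * k1 * c = a * b * c * k1 := by
    rw [mul_assoc (a * b) k1 c, h1 c, ← mul_assoc]
  have s2 : k1 * (k2 * k3) = k3 * (k1 * k2) := by rw [h3 (k1 * k2), mul_assoc]
  calc a * b * k1 * c * (k2 * k3) = a * b * c * (k1 * (k2 * k3)) := by
        rw [s1, mul_assoc (a * b * c)]
    _ = a * b * c * (k3 * (k1 * k2)) := by rw [s2]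
    _ = a * (b * c * k3) * (k1 * k2) := by simp only [mul_assoc]

theorem BaerHyp.comm_aux (d : BaerHyp H) (x y : H) :
    x * y * d.kap x y = y * x * d.kap y x := by
  unfold BaerHyp.kap
  have hyx : ⁅y, x⁆ = ⁅x, y⁆⁻¹ := (commutatorElement_inv _ _).symm
  have hxy : x * y = ⁅x, y⁆ * (y * x) := by rw [commutatorElement_def]; group
  have hcc : ⁅x, y⁆ * (y * x) = (y * x) * ⁅x, y⁆ := d.hc x y (y * x)
  have hc2 : ⁅x, y⁆ ^ (d.n + 1) * ⁅x, y⁆ ^ (d.n + 1) = ⁅x, y⁆ := by
    rw [← pow_add]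
    have : d.n + 1 + (d.n + 1) = (2 * d.n + 1) + 1 := by ring
    rw [this, pow_succ, d.hn, one_mul]
  generalize ⁅x, y⁆ = c at hyx hxy hcc hc2 ⊢
  calc x * y * ⁅y, x⁆ ^ (d.n + 1) = c * (y * x) * (c⁻¹) ^ (d.n + 1) := by rw [hyx, hxy]
    _ = (y * x) * c * (c ^ (d.n + 1))⁻¹ := by rw [hcc, inv_pow]
    _ = (y * x) * (c ^ (d.n + 1) * c ^ (d.n + 1)) * (c ^ (d.n + 1))⁻¹ := by rw [hc2]
    _ = y * x * c ^ (d.n + 1) := by rw [← mul_assoc, mul_inv_cancel_right]

instance Baer.instMul (d : BaerHyp H) : Mul (Baer H d) :=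
  ⟨fun a b => ⟨a.val * b.val * d.kap a.val b.val⟩⟩

instance Baer.instOne (d : BaerHyp H) : One (Baer H d) := ⟨⟨1⟩⟩

instance Baer.instInv (d : BaerHyp H) : Inv (Baer H d) := ⟨fun a => ⟨a.val⁻¹⟩⟩

theorem Baer.mul_val (d : BaerHyp H) (a b : Baer H d) :
    (a * b).val = a.val * b.val * d.kap a.val b.val := rfl

theorem Baer.one_val (d : BaerHyp H) : (1 : Baer H d).val = 1 := rfl

theorem Baer.inv_val (d : BaerHyp H) (a : Baer H d) : (a⁻¹).val = a.val⁻¹ := rfl

instance Baer.instCommGroup (d : BaerHyp H) : CommGroup (Baer H d) where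
  mul := (· * ·)
  one := 1
  inv := (·⁻¹)
  mul_assoc a b c := by
    apply Baer.ext
    rw [Baer.mul_val, Baer.mul_val, Baer.mul_val, Baer.mul_val]
    exact d.assoc_aux a.val b.val c.val
  one_mul a := by
    apply Baer.ext
    rw [Baer.mul_val, Baer.one_val]
    simp [BaerHyp.kap]
  mul_one a := by
    apply Baer.ext
    rw [Baer.mul_val, Baer.one_val]
    simp [BaerHyp.kap]
  inv_mul_cancel a := by
    apply Baer.ext
    rw [Baer.mul_val, Baer.inv_val, Baer.one_val]
    simp [BaerHyp.kap, commutatorElement_def]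
  mul_comm a b := by
    apply Baer.ext
    rw [Baer.mul_val, Baer.mul_val]
    exact d.comm_aux a.val b.val

instance Baer.instMulDistribMulAction {Γ : Type*} [Monoid Γ] [MulDistribMulAction Γ H]
    (d : BaerHyp H) : MulDistribMulAction Γ (Baer H d) where
  smul g a := ⟨g • a.val⟩
  one_smul a := by
    apply Baer.ext
    exact one_smul Γ a.val
  mul_smul g g' a := by
    apply Baer.ext
    exact mul_smul g g' a.val
  smul_mul g a b := by
    apply Baer.ext
    show g • (a.val * b.val * d.kap a.val b.val) = g • a.val * g • b.val * d.kap (g • a.val) (g • b.val)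
    rw [smul_mul', smul_mul', d.smul_kap]
  smul_one g := by
    apply Baer.ext
    show g • (1 : H) = 1
    exact smul_one g

theorem Baer.smul_val {Γ : Type*} [Monoid Γ] [MulDistribMulAction Γ H] (d : BaerHyp H)
    (g : Γ) (a : Baer H d) : (g • a).val = g • a.val := rfl

/-- the underlying bijection -/
def Baer.equiv (d : BaerHyp H) : Baer H d ≃ H := ⟨Baer.val, Baer.mk, fun _ => rfl, fun _ => rfl⟩

instance Baer.instFinite [Finite H] (d : BaerHyp H) : Finite (Baer H d) :=
  Finite.of_equiv H (Baer.equiv d).symm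

theorem Baer.card (d : BaerHyp H) : Nat.card (Baer H d) = Nat.card H :=
  Nat.card_congr (Baer.equiv d)

end

/-- abelian case: a `p`-group `P` normalising a `p'`-group `Q`, both acting on an abelian
`p`-group `L`; if all `P`-fixed points are `Q`-fixed then `Q` acts trivially. -/
theorem coprime_fixed_abelian {L : Type*} [CommGroup L] [Finite L] {Γ : Type*} [Group Γ]
    [MulDistribMulAction Γ L] (p : ℕ) [Fact p.Prime] (hL : IsPGroup p L) (P Q : Subgroup Γ)
    [Finite ↥Q] (hP : IsPGroup p ↥P) (hQ : (Nat.card ↥Q).Coprime p)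
    (hPQ : P ≤ Subgroup.normalizer (Q : Set Γ))
    (hfix : ∀ x : L, (∀ a ∈ P, a • x = x) → ∀ q ∈ Q, q • x = x) :
    ∀ q ∈ Q, ∀ x : L, q • x = x := by
  classical
  haveI : Fintype ↥Q := Fintype.ofFinite _
  let N : L →* L :=
    { toFun := fun x => ∏ q : ↥Q, (q : Γ) • x
      map_one' := by simp
      map_mul' := fun x y => by simp only [smul_mul']; exact Finset.prod_mul_distrib }
  have hN : ∀ x, N x = ∏ q : ↥Q, (q : Γ) • x := fun x => rfl
  have n1 : ∀ q₀ ∈ Q, ∀ x, N (q₀ • x) = N x := by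
    intro q₀ hq₀ x
    rw [hN, hN]
    exact Fintype.prod_equiv (Equiv.mulRight (⟨q₀, hq₀⟩ : ↥Q)) _ _ (fun q => by
      show (q : Γ) • q₀ • x = ((q * ⟨q₀, hq₀⟩ : ↥Q) : Γ) • x
      rw [Subgroup.coe_mul, mul_smul])
  have n2 : ∀ a ∈ P, ∀ x, N (a • x) = a • N x := by
    intro a ha x
    have haN := Subgroup.mem_normalizer_iff.mp (hPQ ha)
    let e : ↥Q ≃ ↥Q :=
      { toFun := fun q => ⟨a * q.1 * a⁻¹, (haN q.1).mp q.2⟩
        invFun := fun q => ⟨a⁻¹ * q.1 * a, (haN (a⁻¹ * q.1 * a)).mpr (by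
            have : a * (a⁻¹ * q.1 * a) * a⁻¹ = q.1 := by group
            rw [this]; exact q.2)⟩
        left_inv := fun q => by
          apply Subtype.ext
          show a⁻¹ * (a * q.1 * a⁻¹) * a = q.1
          group
        right_inv := fun q => by
          apply Subtype.ext
          show a * (a⁻¹ * q.1 * a) * a⁻¹ = q.1
          group }
    rw [hN, hN, Finset.smul_prod']
    symm
    exact Fintype.prod_equiv e _ _ (fun q => by
      show a • (q : Γ) • x = (a * (q : Γ) * a⁻¹) • a • x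
      rw [← mul_smul, ← mul_smul]
      congr 1
      group)
  have n3 : ∀ x : L, (∀ q ∈ Q, q • x = x) → N x = x ^ Nat.card ↥Q := by
    intro x hx
    have h1 : ∏ q : ↥Q, (q : Γ) • x = ∏ _q : ↥Q, x :=
      Finset.prod_congr rfl (fun q _ => hx q.1 q.2)
    rw [hN, h1, Finset.prod_const, Finset.card_univ, Nat.card_eq_fintype_card]
  have hker : N.ker = ⊥ := by
    by_contra hne
    have hKp : IsPGroup p ↥N.ker := hL.to_subgroup N.ker
    have hdvd : p ∣ Nat.card ↥N.ker := by
      rcases hKp.card_eq_or_dvd with h1 | h1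
      · exact absurd (Subgroup.card_eq_one.mp h1) hne
      · exact h1
    letI : MulAction ↥P ↥N.ker :=
      { smul := fun a x => ⟨(a : Γ) • x.1, by
            rw [MonoidHom.mem_ker, n2 a.1 a.2, MonoidHom.mem_ker.mp x.2, smul_one]⟩
        one_smul := fun x => by
          apply Subtype.ext
          show ((1 : ↥P) : Γ) • x.1 = x.1
          rw [Subgroup.coe_one, one_smul]
        mul_smul := fun a b x => by
          apply Subtype.ext
          show ((a * b : ↥P) : Γ) • x.1 = (a : Γ) • (b : Γ) • x.1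
          rw [Subgroup.coe_mul, mul_smul] }
    have h1fix : (1 : ↥N.ker) ∈ MulAction.fixedPoints ↥P ↥N.ker := by
      intro a
      apply Subtype.ext
      show (a : Γ) • ((1 : ↥N.ker) : L) = ((1 : ↥N.ker) : L)
      rw [Subgroup.coe_one, smul_one]
    obtain ⟨b, hb, hb1⟩ :=
      hP.exists_fixed_point_of_prime_dvd_card_of_fixed_point ↥N.ker hdvd h1fix
    apply hb1
    have hbP : ∀ a ∈ P, a • b.1 = b.1 := by
      intro a ha
      have h := hb ⟨a, ha⟩
      have h' := congrArg Subtype.val h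
      exact h'
    have hbQ := hfix b.1 hbP
    have hNb : N b.1 = b.1 ^ Nat.card ↥Q := n3 b.1 hbQ
    have hb0 : b.1 ^ Nat.card ↥Q = 1 := by rw [← hNb]; exact MonoidHom.mem_ker.mp b.2
    obtain ⟨k, hk⟩ := hL b.1
    have h1 : orderOf b.1 ∣ Nat.card ↥Q := orderOf_dvd_of_pow_eq_one hb0
    have h2 : orderOf b.1 ∣ p ^ k := orderOf_dvd_of_pow_eq_one hk
    have h3 : orderOf b.1 = 1 :=
      Nat.Coprime.eq_one_of_dvd (Nat.Coprime.coprime_dvd_left h1 (Nat.Coprime.pow_right k hQ)) h2
    have hb1' : b.1 = 1 := orderOf_eq_one_iff.mp h3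
    apply Subtype.ext
    rw [hb1']
    rfl
  have hinj : Function.Injective N := (MonoidHom.ker_eq_bot_iff N).mp hker
  intro q hq x
  exact hinj (n1 q hq x)

/-- class-two case of Thompson's strengthened `P × Q` lemma, by the Baer trick -/
theorem centralizes_of_class_two {X : Type*} [Group X] [Finite X] {p : ℕ} [Fact p.Prime]
    (hp : p ≠ 2) (P Q G : Subgroup X) (hP : IsPGroup p P) (hQ : (Nat.card Q).Coprime p)
    (hPQ : P ≤ Subgroup.normalizer (Q : Set X)) (hG : IsPGroup p G)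
    (hPG : P ≤ Subgroup.normalizer (G : Set X)) (hQG : Q ≤ Subgroup.normalizer (G : Set X))
    (hC : G ⊓ Subgroup.centralizer (P : Set X) ≤ Subgroup.centralizer (Q : Set X))
    (hcl : ∀ x ∈ G, ∀ y ∈ G, ∀ z ∈ G, ⁅x, y⁆ * z = z * ⁅x, y⁆) :
    Q ≤ Subgroup.centralizer (G : Set X) := by
  obtain ⟨k, hk⟩ := IsPGroup.iff_card.mp hG
  have hodd : Odd (Nat.card G) := by
    rw [hk]; exact ((Fact.out : p.Prime).odd_of_ne_two hp).pow
  obtain ⟨n, hn⟩ := hodd
  let d : BaerHyp ↥G :=
    { n := n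
      hn := fun x => by rw [← hn]; exact pow_card_eq_one'
      hc := fun x y z => by
        apply Subtype.ext
        have h := hcl x.1 x.2 y.1 y.2 z.1 z.2
        simp only [commutatorElement_def] at h
        simp only [commutatorElement_def, Subgroup.coe_mul, Subgroup.coe_inv]
        exact h }
  have hLp : IsPGroup p (Baer ↥G d) := IsPGroup.of_card (n := k) (by rw [Baer.card, hk])
  have key := coprime_fixed_abelian (L := Baer ↥G d)
    (Γ := ↥(Subgroup.normalizer (G : Set X))) p hLp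
    (P.subgroupOf (Subgroup.normalizer (G : Set X)))
    (Q.subgroupOf (Subgroup.normalizer (G : Set X)))
    (hP.comap_of_injective _ (Subgroup.subtype_injective _))
    (by rw [Nat.card_congr (Subgroup.subgroupOfEquivOfLe hQG).toEquiv]; exact hQ)
    (by
      intro a ha
      rw [Subgroup.mem_normalizer_iff]
      intro q
      rw [Subgroup.mem_subgroupOf, Subgroup.mem_subgroupOf]
      exact Subgroup.mem_normalizer_iff.mp (hPQ (Subgroup.mem_subgroupOf.mp ha)) (q : X))
    (by
      intro x hx q hq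
      have hxC : (x.val : X) ∈ G ⊓ Subgroup.centralizer (P : Set X) := by
        refine ⟨x.val.2, ?_⟩
        show (x.val : X) ∈ Subgroup.centralizer (P : Set X)
        rw [Subgroup.mem_centralizer_iff]
        intro b hb
        have h1 := hx ⟨b, hPG hb⟩ (Subgroup.mem_subgroupOf.mpr hb)
        have h2 : b * (x.val : X) * b⁻¹ = (x.val : X) :=
          congrArg (fun t : Baer ↥G d => (t.val : X)) h1
        calc b * (x.val : X) = b * (x.val : X) * b⁻¹ * b := by group
          _ = (x.val : X) * b := by rw [h2]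
      have hxQ := hC hxC
      rw [Subgroup.mem_centralizer_iff] at hxQ
      have hq' : (q : X) ∈ Q := Subgroup.mem_subgroupOf.mp hq
      have h3 := hxQ (q : X) hq'
      apply Baer.ext
      apply Subtype.ext
      show (q : X) * (x.val : X) * (q : X)⁻¹ = (x.val : X)
      rw [h3]; group)
  intro q hq
  rw [Subgroup.mem_centralizer_iff]
  intro g hg
  have h1 := key ⟨q, hQG hq⟩ (Subgroup.mem_subgroupOf.mpr hq) ⟨⟨g, hg⟩⟩
  have h2 : q * g * q⁻¹ = g := congrArg (fun t : Baer ↥G d => (t.val : X)) h1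
  calc g * q = q * g * q⁻¹ * q := by rw [h2]
    _ = q * g := by group

theorem normalizer_commutator_mem {X : Type*} [Group X] (A B : Subgroup X) {x : X}
    (hA : x ∈ Subgroup.normalizer (A : Set X)) (hB : x ∈ Subgroup.normalizer (B : Set X)) :
    x ∈ Subgroup.normalizer ((⁅A, B⁆ : Subgroup X) : Set X) := by
  rw [mem_normalizer_iff_map_conj] at hA hB ⊢
  rw [Subgroup.map_commutator, hA, hB]

/-- Thompson's strengthening of the `P × Q` lemma for odd primes (`P` normalises `Q`). -/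
theorem thompson_pq_semidirect {X : Type*} [Group X] [Finite X] {p : ℕ} [Fact p.Prime]
    (hp : p ≠ 2) (P Q : Subgroup X) (hP : IsPGroup p P) (hQ : (Nat.card Q).Coprime p)
    (hPQ : P ≤ Subgroup.normalizer (Q : Set X)) :
    ∀ n : ℕ, ∀ G : Subgroup X, Nat.card G = n → IsPGroup p G →
      P ≤ Subgroup.normalizer (G : Set X) → Q ≤ Subgroup.normalizer (G : Set X) →
      G ⊓ Subgroup.centralizer (P : Set X) ≤ Subgroup.centralizer (Q : Set X) →
      Q ≤ Subgroup.centralizer (G : Set X) := by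
  intro n
  induction n using Nat.strong_induction_on with
  | _ n ih =>
  intro G hn hG hPG hQG hC
  have hKle : ⁅G, Q⁆ ≤ G := by
    rw [Subgroup.commutator_le]
    intro g hg q hq
    have h1 : q * g⁻¹ * q⁻¹ ∈ G :=
      (Subgroup.mem_normalizer_iff.mp (hQG hq) g⁻¹).mp (G.inv_mem hg)
    have h2 : ⁅g, q⁆ = g * (q * g⁻¹ * q⁻¹) := by rw [commutatorElement_def]; group
    rw [h2]; exact G.mul_mem hg h1
  have hG'le : ⁅G, G⁆ ≤ G := by
    rw [Subgroup.commutator_le]
    intro g hg g' hg'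
    rw [commutatorElement_def]
    exact G.mul_mem (G.mul_mem (G.mul_mem hg hg') (G.inv_mem hg)) (G.inv_mem hg')
  have hlt : ∀ K : Subgroup X, K < G → Nat.card K < n := by
    intro K hK
    rw [← hn]
    by_contra hcon
    exact hK.ne (Subgroup.eq_of_le_of_card_ge hK.le (not_lt.mp hcon))
  have hIH : ∀ K : Subgroup X, K < G → P ≤ Subgroup.normalizer (K : Set X) →
      Q ≤ Subgroup.normalizer (K : Set X) → Q ≤ Subgroup.centralizer (K : Set X) := by
    intro K hK hPK hQK
    exact ih (Nat.card K) (hlt K hK) K rfl (hG.to_le hK.le) hPK hQK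
      (le_trans (inf_le_inf_right _ hK.le) hC)
  by_cases hK : ⁅G, Q⁆ = G
  · by_cases hbot : G = ⊥
    · intro q _
      rw [Subgroup.mem_centralizer_iff]
      intro g hg
      have hg' : g ∈ G := hg
      rw [hbot] at hg'
      rw [Subgroup.mem_bot.mp hg', one_mul, mul_one]
    · have hne : ⁅G, G⁆ ≠ G := by
        intro hperf
        haveI : Nontrivial ↥G := (Subgroup.nontrivial_iff_ne_bot G).mpr hbot
        haveI := hG.isNilpotent
        have h1 : commutator ↥G < ⊤ := Group.IsSolvable.commutator_lt_top_of_nontrivial ↥G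
        have h2 : (commutator ↥G).map G.subtype = (⊤ : Subgroup ↥G).map G.subtype := by
          rw [Subgroup.map_subtype_commutator, hperf, ← MonoidHom.range_eq_map,
            Subgroup.range_subtype]
        exact h1.ne (Subgroup.map_injective (Subgroup.subtype_injective G) h2)
      have hG'lt : ⁅G, G⁆ < G := lt_of_le_of_ne hG'le hne
      have hQG' : Q ≤ Subgroup.centralizer ((⁅G, G⁆ : Subgroup X) : Set X) :=
        hIH _ hG'lt (fun a ha => normalizer_commutator_mem G G (hPG ha) (hPG ha))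
          (fun a ha => normalizer_commutator_mem G G (hQG ha) (hQG ha))
      have h1 : ⁅⁅G, G⁆, Q⁆ = ⊥ := by
        rw [Subgroup.commutator_comm, Subgroup.commutator_eq_bot_iff_le_centralizer]
        exact hQG'
      have h2 : ⁅⁅⁅G, G⁆, Q⁆, G⁆ = ⊥ := by rw [h1, Subgroup.commutator_bot_left]
      have h3 : ⁅⁅G, ⁅G, G⁆⁆, Q⁆ = ⊥ := by
        have : ⁅⁅G, ⁅G, G⁆⁆, Q⁆ ≤ ⁅⁅G, G⁆, Q⁆ :=
          Subgroup.commutator_mono (Subgroup.commutator_mono le_rfl hG'le) le_rfl
        rw [h1] at this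
        exact le_bot_iff.mp this
      have h4 : ⁅⁅Q, G⁆, ⁅G, G⁆⁆ = ⊥ := Subgroup.commutator_commutator_eq_bot_of_rotate h3 h2
      rw [Subgroup.commutator_comm Q G, hK] at h4
      have h5 : G ≤ Subgroup.centralizer ((⁅G, G⁆ : Subgroup X) : Set X) :=
        Subgroup.commutator_eq_bot_iff_le_centralizer.mp h4
      exact centralizes_of_class_two hp P Q G hP hQ hPQ hG hPG hQG hC (fun x hx y hy z hz => by
        have h6 := h5 hz
        rw [Subgroup.mem_centralizer_iff] at h6
        exact h6 ⁅x, y⁆ (Subgroup.commutator_mem_commutator hx hy))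
  · have hKlt : ⁅G, Q⁆ < G := lt_of_le_of_ne hKle hK
    have hQK : Q ≤ Subgroup.centralizer ((⁅G, Q⁆ : Subgroup X) : Set X) :=
      hIH _ hKlt (fun a ha => normalizer_commutator_mem G Q (hPG ha) (hPQ ha))
        (fun a ha => normalizer_commutator_mem G Q (hQG ha) (Subgroup.le_normalizer ha))
    have h2 : ⁅⁅G, Q⁆, Q⁆ = ⊥ := by
      rw [Subgroup.commutator_eq_bot_iff_le_centralizer, Subgroup.le_centralizer_iff]
      exact hQK
    obtain ⟨k, hk⟩ := IsPGroup.iff_card.mp hG
    haveI := hG.isNilpotent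
    have h3 := Cfsg.Agent.S0027.result Q G hQG
      (by rw [hk]; exact Nat.Coprime.pow_right k hQ) (Or.inr inferInstance)
    rw [h2] at h3
    have h4 : G ≤ Subgroup.centralizer (Q : Set X) :=
      Subgroup.commutator_eq_bot_iff_le_centralizer.mp h3.symm
    exact Subgroup.le_centralizer_iff.mp h4

end Cfsg.Agent.Helper20
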