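import Mathlib
import Cfsg.Agent.Helper20.Baer
import Cfsg.Agent.Helper1.CharSub
import Cfsg.Agent.Lead.PGroup
import Cfsg.Agent.Helper24.Class2
import Cfsg.Prelude.Def_Transfer

namespace Cfsg.Agent.Helper20

open scoped commutatorElement

/-- Coprime action with `[P, A] = P`: the fixed points lie in the derived subgroup
(norm map into the abelianization). -/
theorem fixed_le_commutator {X : Type*} [Group X] [Finite X] (P A : Subgroup X)
    (hAP : A ≤ Subgroup.normalizer (P : Set X)) (hcop : (Nat.card A).Coprime (Nat.card P))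
    (hPA : ⁅P, A⁆ = P) : P ⊓ Subgroup.centralizer (A : Set X) ≤ ⁅P, P⁆ := by
  classical
  haveI : Fintype ↥A := Fintype.ofFinite _
  have hconj : ∀ (a : ↥A) (y : ↥P), (a : X) * (y : X) * (a : X)⁻¹ ∈ P := fun a y =>
    (Subgroup.mem_normalizer_iff.mp (hAP a.2) y.1).mp y.2
  let c : ↥A → ↥P → ↥P := fun a y => ⟨(a : X) * (y : X) * (a : X)⁻¹, hconj a y⟩
  have c_mul : ∀ a y z, c a (y * z) = c a y * c a z := by
    intro a y z
    apply Subtype.ext
    show (a : X) * ((y : X) * (z : X)) * (a : X)⁻¹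
      = (a : X) * (y : X) * (a : X)⁻¹ * ((a : X) * (z : X) * (a : X)⁻¹)
    group
  have c_one : ∀ a, c a 1 = 1 := by
    intro a
    apply Subtype.ext
    show (a : X) * (1 : X) * (a : X)⁻¹ = 1
    group
  have c_comp : ∀ a a₀ y, c a (c a₀ y) = c (a * a₀) y := by
    intro a a₀ y
    apply Subtype.ext
    show (a : X) * ((a₀ : X) * (y : X) * (a₀ : X)⁻¹) * (a : X)⁻¹
      = ((a : X) * (a₀ : X)) * (y : X) * ((a : X) * (a₀ : X))⁻¹
    group
  let ν : ↥P →* Abelianization ↥P :=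
    { toFun := fun y => ∏ a : ↥A, Abelianization.of (c a y)
      map_one' := by simp only [c_one, map_one, Finset.prod_const_one]
      map_mul' := fun y z => by simp only [c_mul, map_mul]; exact Finset.prod_mul_distrib }
  have hν : ∀ y, ν y = ∏ a : ↥A, Abelianization.of (c a y) := fun y => rfl
  have n1 : ∀ (a₀ : ↥A) (y : ↥P), ν (c a₀ y) = ν y := by
    intro a₀ y
    rw [hν, hν]
    exact Fintype.prod_equiv (Equiv.mulRight a₀) _ _ (fun a => by
      show Abelianization.of (c a (c a₀ y)) = Abelianization.of (c (a * a₀) y)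
      rw [c_comp])
  have n3 : ∀ y : ↥P, ν y = 1 := by
    have hle : ⁅P, A⁆ ≤ ν.ker.map P.subtype := by
      rw [Subgroup.commutator_le]
      intro y hy a ha
      have e : ⁅y, a⁆ = y * (a * y * a⁻¹)⁻¹ := by rw [commutatorElement_def]; group
      exact Subgroup.mem_map.mpr ⟨(⟨y, hy⟩ : ↥P) * (c ⟨a, ha⟩ ⟨y, hy⟩)⁻¹,
        MonoidHom.mem_ker.mpr (by rw [map_mul, map_inv, n1, mul_inv_cancel]), by rw [e]; rfl⟩
    intro y
    have hy : (y : X) ∈ ⁅P, A⁆ := by rw [hPA]; exact y.2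
    obtain ⟨z, hz, hzy⟩ := Subgroup.mem_map.mp (hle hy)
    have hzy' : z = y := Subtype.ext hzy
    rw [← hzy']
    exact MonoidHom.mem_ker.mp hz
  intro x hx
  obtain ⟨hxP, hxC⟩ := Subgroup.mem_inf.mp hx
  have hfix : ∀ a : ↥A, c a ⟨x, hxP⟩ = ⟨x, hxP⟩ := by
    intro a
    apply Subtype.ext
    show (a : X) * x * (a : X)⁻¹ = x
    have h := Subgroup.mem_centralizer_iff.mp hxC a.1 a.2
    rw [h]; group
  have h1 : ν ⟨x, hxP⟩ = Abelianization.of ((⟨x, hxP⟩ : ↥P) ^ Nat.card ↥A) := by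
    rw [hν]
    have h2 : ∏ a : ↥A, Abelianization.of (c a ⟨x, hxP⟩)
        = ∏ _a : ↥A, Abelianization.of (⟨x, hxP⟩ : ↥P) :=
      Finset.prod_congr rfl (fun a _ => by rw [hfix a])
    rw [h2, Finset.prod_const, Finset.card_univ, Nat.card_eq_fintype_card, map_pow]
  rw [n3] at h1
  have h3 : (⟨x, hxP⟩ : ↥P) ^ Nat.card ↥A ∈ commutator ↥P := by
    rw [← Abelianization.ker_of]
    exact MonoidHom.mem_ker.mpr h1.symm
  have hco : (Nat.card ↥A).Coprime (orderOf (⟨x, hxP⟩ : ↥P)) :=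
    Nat.Coprime.coprime_dvd_right (orderOf_dvd_natCard _) hcop
  obtain ⟨m, hm⟩ := exists_pow_eq_self_of_coprime hco
  have h4 : (⟨x, hxP⟩ : ↥P) ∈ commutator ↥P := by
    rw [← hm]; exact Subgroup.pow_mem _ h3 m
  rw [← Subgroup.map_subtype_commutator]
  exact Subgroup.mem_map.mpr ⟨⟨x, hxP⟩, h4, rfl⟩

/-- Hall–Higman reduction for a minimal nontrivial action. -/
theorem min_action {X : Type*} [Group X] [Finite X] {p : ℕ} [Fact p.Prime] (B A P : Subgroup X)
    (hP : IsPGroup p P) (hBP : B ≤ Subgroup.normalizer (P : Set X)) (hAB : A ≤ B)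
    (hAn : B ≤ Subgroup.normalizer (A : Set X)) (hAp : (Nat.card A).Coprime p)
    (hnt : ⁅P, A⁆ ≠ ⊥)
    (hmin : ∀ U : Subgroup X, U < P → B ≤ Subgroup.normalizer (U : Set X) → ⁅U, A⁆ = ⊥) :
    ⁅P, A⁆ = P ∧ (Cfsg.IsElementaryAbelian p P ∨ Cfsg.IsSpecial p ↥P) ∧
      (∀ U : Subgroup X, (frattini ↥P).map P.subtype ≤ U → U ≤ P →
        B ≤ Subgroup.normalizer (U : Set X) → U = (frattini ↥P).map P.subtype ∨ U = P) ∧
      (p ≠ 2 → ∀ x ∈ P, x ^ p = 1) := by
  have hp : p.Prime := Fact.out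
  have hAP : A ≤ Subgroup.normalizer (P : Set X) := hAB.trans hBP
  obtain ⟨k, hk⟩ := IsPGroup.iff_card.mp hP
  have hcop : (Nat.card A).Coprime (Nat.card P) := by
    rw [hk]; exact Nat.Coprime.pow_right k hAp
  haveI := hP.isNilpotent
  have hKle : ⁅P, A⁆ ≤ P := by
    rw [Subgroup.commutator_le]
    intro g hg q hq
    have h1 : q * g⁻¹ * q⁻¹ ∈ P :=
      (Subgroup.mem_normalizer_iff.mp (hAP hq) g⁻¹).mp (P.inv_mem hg)
    have h2 : ⁅g, q⁆ = g * (q * g⁻¹ * q⁻¹) := by rw [commutatorElement_def]; group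
    rw [h2]; exact P.mul_mem hg h1
  have h1 : ⁅P, A⁆ = P := by
    by_contra hne
    have hlt : ⁅P, A⁆ < P := lt_of_le_of_ne hKle hne
    have hB : B ≤ Subgroup.normalizer ((⁅P, A⁆ : Subgroup X) : Set X) :=
      fun b hb => normalizer_commutator_mem P A (hBP hb) (hAn hb)
    have h2 := hmin _ hlt hB
    have h3 := Cfsg.Agent.S0027.result A P hAP hcop (Or.inr inferInstance)
    rw [h2] at h3
    exact hnt h3.symm
  have hPbot : P ≠ ⊥ := by
    intro h
    apply hnt
    rw [h, Subgroup.commutator_bot_left]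
  haveI : Nontrivial ↥P := (Subgroup.nontrivial_iff_ne_bot P).mpr hPbot
  obtain ⟨Φ, hΦdef⟩ : ∃ Φ : Subgroup X, Φ = (frattini ↥P).map P.subtype := ⟨_, rfl⟩
  have hΦlt : Φ < P := by
    rw [hΦdef]
    refine lt_of_le_of_ne (Subgroup.map_subtype_le _) ?_
    intro h
    have h' : frattini ↥P = ⊤ := by
      apply Subgroup.map_injective (Subgroup.subtype_injective P)
      rw [h, ← MonoidHom.range_eq_map, Subgroup.range_subtype]
    have h'' : (⊥ : Subgroup ↥P) = ⊤ := frattini_nongenerating (by rw [h', bot_sup_eq])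
    exact bot_ne_top h''
  have hNΦ : Subgroup.normalizer (P : Set X) ≤ Subgroup.normalizer (Φ : Set X) := by
    rw [hΦdef]
    exact Cfsg.Agent.Helper1.normalizer_le_normalizer_map_char P (frattini ↥P)
  have hBΦ : B ≤ Subgroup.normalizer (Φ : Set X) := hBP.trans hNΦ
  have hΦA : ⁅Φ, A⁆ = ⊥ := hmin _ hΦlt hBΦ
  have hΦP : Φ ≤ P := hΦlt.le
  have hPΦle : ⁅P, Φ⁆ ≤ Φ := by
    rw [Subgroup.commutator_le]
    intro g hg z hz
    have hgN : g ∈ Subgroup.normalizer (Φ : Set X) := hNΦ (Subgroup.le_normalizer hg)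
    have h2 : g * z * g⁻¹ ∈ Φ := (Subgroup.mem_normalizer_iff.mp hgN z).mp hz
    rw [commutatorElement_def]
    exact Φ.mul_mem h2 (Φ.inv_mem hz)
  have h3a : ⁅⁅Φ, A⁆, P⁆ = ⊥ := by rw [hΦA, Subgroup.commutator_bot_left]
  have h3b : ⁅⁅P, Φ⁆, A⁆ = ⊥ := by
    have h := Subgroup.commutator_mono hPΦle (le_refl A)
    rw [hΦA] at h
    exact le_bot_iff.mp h
  have h3c : ⁅⁅A, P⁆, Φ⁆ = ⊥ := Subgroup.commutator_commutator_eq_bot_of_rotate h3b h3a
  rw [Subgroup.commutator_comm A P, h1] at h3c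
  have hΦcent : P ≤ Subgroup.centralizer (Φ : Set X) :=
    Subgroup.commutator_eq_bot_iff_le_centralizer.mp h3c
  have hΦAcent : Φ ≤ Subgroup.centralizer (A : Set X) :=
    Subgroup.commutator_eq_bot_iff_le_centralizer.mp hΦA
  have hC : P ⊓ Subgroup.centralizer (A : Set X) ≤ ⁅P, P⁆ := fixed_le_commutator P A hAP hcop h1
  have hP'Φ : ⁅P, P⁆ ≤ Φ := by
    rw [hΦdef, ← Subgroup.map_subtype_commutator]
    exact Subgroup.map_mono (Cfsg.Agent.Lead.commutator_le_frattini hP)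
  have hΦC : Φ ≤ P ⊓ Subgroup.centralizer (A : Set X) := le_inf hΦP hΦAcent
  have hCΦ : P ⊓ Subgroup.centralizer (A : Set X) = Φ := le_antisymm (hC.trans hP'Φ) hΦC
  have hP'eq : ⁅P, P⁆ = Φ := le_antisymm hP'Φ (hΦC.trans hC)
  have hpowΦ : ∀ v ∈ P, v ^ p ∈ Φ := by
    intro v hv
    have h5 : (⟨v, hv⟩ : ↥P) ^ p ∈ frattini ↥P := Cfsg.Agent.Lead.pow_mem_frattini hP _
    rw [hΦdef]
    exact Subgroup.mem_map.mpr ⟨_, h5, rfl⟩
  have part3 : ∀ U : Subgroup X, Φ ≤ U → U ≤ P → B ≤ Subgroup.normalizer (U : Set X) →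
      U = Φ ∨ U = P := by
    intro U hΦU hUP hBU
    by_cases hUP' : U = P
    · exact Or.inr hUP'
    · left
      have hUA := hmin U (lt_of_le_of_ne hUP hUP') hBU
      have hUC : U ≤ P ⊓ Subgroup.centralizer (A : Set X) :=
        le_inf hUP (Subgroup.commutator_eq_bot_iff_le_centralizer.mp hUA)
      rw [hCΦ] at hUC
      exact le_antisymm hUC hΦU
  have part2 : Cfsg.IsElementaryAbelian p P ∨ Cfsg.IsSpecial p ↥P := by
    by_cases hab : ⁅P, P⁆ = ⊥
    · left
      refine ⟨Subgroup.commutator_self_eq_bot_iff.mp hab, ?_⟩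
      intro x hx
      have h6 := hpowΦ x hx
      rw [← hP'eq, hab] at h6
      exact Subgroup.mem_bot.mp h6
    · right
      have hZlt : (Subgroup.center ↥P).map P.subtype < P := by
        refine lt_of_le_of_ne (Subgroup.map_subtype_le _) ?_
        intro h
        have h' : Subgroup.center ↥P = ⊤ := by
          apply Subgroup.map_injective (Subgroup.subtype_injective P)
          rw [h, ← MonoidHom.range_eq_map, Subgroup.range_subtype]
        have hcomm : IsMulCommutative ↥P := Subgroup.center_eq_top_iff.mp h'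
        exact hab (Subgroup.commutator_self_eq_bot_iff.mpr hcomm)
      have hBZ : B ≤ Subgroup.normalizer
          (((Subgroup.center ↥P).map P.subtype : Subgroup X) : Set X) :=
        hBP.trans (Cfsg.Agent.Helper1.normalizer_le_normalizer_map_char P (Subgroup.center ↥P))
      have hZA := hmin _ hZlt hBZ
      have hZC : (Subgroup.center ↥P).map P.subtype ≤ P ⊓ Subgroup.centralizer (A : Set X) :=
        le_inf hZlt.le (Subgroup.commutator_eq_bot_iff_le_centralizer.mp hZA)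
      rw [hCΦ] at hZC
      have hΦZ : Φ ≤ (Subgroup.center ↥P).map P.subtype := by
        intro z hz
        refine Subgroup.mem_map.mpr ⟨⟨z, hΦP hz⟩, ?_, rfl⟩
        rw [Subgroup.mem_center_iff]
        intro y
        apply Subtype.ext
        have h7 := Subgroup.mem_centralizer_iff.mp (hΦcent y.2) z hz
        exact h7.symm
      have hZeq : (Subgroup.center ↥P).map P.subtype = Φ := le_antisymm hZC hΦZ
      refine ⟨hP, ?_, ?_⟩
      · apply Subgroup.map_injective (Subgroup.subtype_injective P)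
        rw [hZeq, hΦdef]
      · apply Subgroup.map_injective (Subgroup.subtype_injective P)
        rw [hZeq, Subgroup.map_subtype_commutator, hP'eq]
  have part4 : p ≠ 2 → ∀ x ∈ P, x ^ p = 1 := by
    intro hp2
    have hmulpow : ∀ u ∈ P, ∀ v ∈ P, (u * v) ^ p = u ^ p * v ^ p := by
      intro u hu v hv
      have hc : ⁅v, u⁆ ∈ Φ := by
        rw [← hP'eq]; exact Subgroup.commutator_mem_commutator hv hu
      have hcu : Commute ⁅v, u⁆ u := Subgroup.mem_centralizer_iff.mp (hΦcent hu) _ hc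
      have hcv : Commute ⁅v, u⁆ v := Subgroup.mem_centralizer_iff.mp (hΦcent hv) _ hc
      have hvp : v ^ p ∈ Φ := hpowΦ v hv
      have h7 : ⁅v, u⁆ ^ p = 1 := by
        rw [← Cfsg.Agent.Helper24.commutator_pow_left v u hcv p]
        exact commutatorElement_eq_one_iff_mul_comm.mpr
          (Subgroup.mem_centralizer_iff.mp (hΦcent hu) _ hvp)
      have h8 : ⁅v, u⁆ ^ (p.choose 2) = 1 := by
        obtain ⟨m, hm⟩ := hp.dvd_choose_self (by norm_num)
          (lt_of_le_of_ne hp.two_le (Ne.symm hp2))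
        rw [hm, pow_mul, h7, one_pow]
      rw [Cfsg.Agent.Helper24.mul_pow_of_commutator_central u v hcu hcv p, h8, mul_one]
    have hΩex : ∃ Ω : Subgroup X, ∀ x, x ∈ Ω ↔ (x ∈ P ∧ x ^ p = 1) :=
      ⟨{ carrier := {x | x ∈ P ∧ x ^ p = 1}
         mul_mem' := fun {a b} ha hb => ⟨P.mul_mem ha.1 hb.1, by
           rw [hmulpow a ha.1 b hb.1, ha.2, hb.2, one_mul]⟩
         one_mem' := ⟨P.one_mem, one_pow p⟩
         inv_mem' := fun {a} ha => ⟨P.inv_mem ha.1, by rw [inv_pow, ha.2, inv_one]⟩ },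
       fun x => Iff.rfl⟩
    obtain ⟨Ω, hΩmem⟩ := hΩex
    have hΩ : ⁅P, A⁆ ≤ Ω := by
      rw [Subgroup.commutator_le]
      intro y hy a ha
      have hw : (a * y * a⁻¹)⁻¹ ∈ P :=
        P.inv_mem ((Subgroup.mem_normalizer_iff.mp (hAP ha) y).mp hy)
      have e : ⁅y, a⁆ = y * (a * y * a⁻¹)⁻¹ := by rw [commutatorElement_def]; group
      have hya : a * y ^ p = y ^ p * a :=
        Subgroup.mem_centralizer_iff.mp (hΦAcent (hpowΦ y hy)) a ha
      have e2 : (a * y * a⁻¹) ^ p = y ^ p := by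
        rw [conj_pow, hya, mul_inv_cancel_right]
      rw [hΩmem, e]
      refine ⟨P.mul_mem hy hw, ?_⟩
      rw [hmulpow y hy _ hw, inv_pow, e2, mul_inv_cancel]
    intro x hx
    have hx' : x ∈ ⁅P, A⁆ := by rw [h1]; exact hx
    exact ((hΩmem x).mp (hΩ hx')).2
  subst hΦdef
  exact ⟨h1, part2, part3, part4⟩

end Cfsg.Agent.Helper20
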