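import Mathlib

set_option autoImplicit false
set_option maxHeartbeats 1000000

namespace Cfsg.Agent.Helper20.ExpMod

/-- coefficient sequence used to kill the terms of `∑ Xⁱ` one at a time -/
def cseq {E : Type*} [Ring E] (d : ℕ → ℕ → E) : ℕ → ℕ → E
  | 0, _ => 1
  | m + 1, i => cseq d m i * (d (m + 1) i - d (m + 1) (m + 1))

theorem cseq_zero {E : Type*} [Ring E] (d : ℕ → ℕ → E) (i : ℕ) : cseq d 0 i = 1 := rfl

theorem cseq_succ {E : Type*} [Ring E] (d : ℕ → ℕ → E) (m i : ℕ) :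
    cseq d (m + 1) i = cseq d m i * (d (m + 1) i - d (m + 1) (m + 1)) := rfl

theorem cseq_comm {E : Type*} [Ring E] (d : ℕ → ℕ → E)
    (hcomm : ∀ m i m' j, d m i * d m' j = d m' j * d m i) :
    ∀ m i m' j, cseq d m i * d m' j = d m' j * cseq d m i := by
  intro m
  induction m with
  | zero =>
    intro i m' j
    rw [cseq_zero, one_mul, mul_one]
  | succ m ih =>
    intro i m' j
    rw [cseq_succ, mul_assoc, sub_mul, hcomm (m + 1) i m' j, hcomm (m + 1) (m + 1) m' j,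
      ← mul_sub, ← mul_assoc, ih i m' j, mul_assoc]

theorem cseq_sum {E : Type*} [Ring E] (N : ℕ) (X : E) (d : ℕ → ℕ → E)
    (hX : ∀ m i, X ^ i * d m 0 = d m i * X ^ i)
    (hcomm : ∀ m i m' j, d m i * d m' j = d m' j * d m i)
    (hsum : ∑ i ∈ Finset.range N, X ^ i = 0) :
    ∀ m, ∑ i ∈ Finset.range N, cseq d m i * X ^ i = 0 := by
  intro m
  induction m with
  | zero =>
    rw [← hsum]
    apply Finset.sum_congr rfl
    intro i _
    rw [cseq_zero, one_mul]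
  | succ m ih =>
    have hterm : ∀ i ∈ Finset.range N, cseq d (m + 1) i * X ^ i =
        (cseq d m i * X ^ i) * d (m + 1) 0 - d (m + 1) (m + 1) * (cseq d m i * X ^ i) := by
      intro i _
      rw [cseq_succ, mul_sub, sub_mul, mul_assoc (cseq d m i) (d (m + 1) i) (X ^ i),
        ← hX (m + 1) i, ← mul_assoc (cseq d m i) (X ^ i) (d (m + 1) 0),
        cseq_comm d hcomm m i (m + 1) (m + 1),
        mul_assoc (d (m + 1) (m + 1)) (cseq d m i) (X ^ i)]
    rw [Finset.sum_congr rfl hterm, Finset.sum_sub_distrib, ← Finset.sum_mul, ← Finset.mul_sum,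
      ih, zero_mul, mul_zero, sub_zero]

theorem cseq_vanish {E : Type*} [Ring E] (d : ℕ → ℕ → E) :
    ∀ m i, 1 ≤ i → i ≤ m → cseq d m i = 0 := by
  intro m
  induction m with
  | zero =>
    intro i h1 h2
    omega
  | succ m ih =>
    intro i h1 h2
    rw [cseq_succ]
    rcases Nat.lt_or_ge i (m + 1) with h | h
    · rw [ih i h1 (by omega), zero_mul]
    · have e : i = m + 1 := by omega
      rw [e, sub_self, mul_zero]

theorem cseq_last {E : Type*} [Ring E] (N : ℕ) (hN : 1 ≤ N) (X : E) (d : ℕ → ℕ → E)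
    (hX : ∀ m i, X ^ i * d m 0 = d m i * X ^ i)
    (hcomm : ∀ m i m' j, d m i * d m' j = d m' j * d m i)
    (hsum : ∑ i ∈ Finset.range N, X ^ i = 0) : cseq d (N - 1) 0 = 0 := by
  have h := cseq_sum N X d hX hcomm hsum (N - 1)
  rw [Finset.sum_eq_single 0] at h
  · rwa [pow_zero, mul_one] at h
  · intro i hi hi0
    have hi' := Finset.mem_range.mp hi
    rw [cseq_vanish d (N - 1) i (by omega) (by omega), zero_mul]
  · intro h0
    exact absurd (Finset.mem_range.mpr (by omega)) h0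

theorem exists_mul_mod (p n m : ℕ) (hp : p.Prime) (hm1 : 1 ≤ m) (hmN : m < p ^ (n + 1)) :
    ∃ t : ℕ, (m * t) % p ^ (n + 1) = p ^ n % p ^ (n + 1) := by
  obtain ⟨a, m', hm', rfl⟩ := Nat.exists_eq_pow_mul_and_not_dvd (by omega : m ≠ 0) p hp.ne_one
  have hm'0 : 0 < m' := by
    rcases Nat.eq_zero_or_pos m' with h | h
    · rw [h, mul_zero] at hm1
      omega
    · exact h
  have ha : a ≤ n := by
    by_contra h
    have h1 : p ^ (n + 1) ≤ p ^ a := Nat.pow_le_pow_right hp.pos (by omega)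
    have h2 : p ^ a ≤ p ^ a * m' := Nat.le_mul_of_pos_right _ hm'0
    omega
  have hcop : Nat.Coprime m' (p ^ (n + 1)) :=
    Nat.Coprime.pow_right _ ((Nat.Prime.coprime_iff_not_dvd hp).mpr hm').symm
  have hN1 : 1 < p ^ (n + 1) := Nat.one_lt_pow (by omega) hp.one_lt
  obtain ⟨t', -, ht'⟩ := Nat.exists_mul_mod_eq_one_of_coprime hcop hN1
  refine ⟨p ^ (n - a) * t', ?_⟩
  have e : p ^ a * m' * (p ^ (n - a) * t') = p ^ n * (m' * t') := by
    have e1 : p ^ n = p ^ a * p ^ (n - a) := by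
      rw [← pow_add]
      congr 1
      omega
    rw [e1]
    ring
  rw [e, Nat.mul_mod, ht', mul_one, Nat.mod_mod]

theorem conj_pow_mem {Γ : Type*} [Group Γ] (R : Subgroup Γ) (x : Γ)
    (hxR : ∀ r ∈ R, x * r * x⁻¹ ∈ R) : ∀ (i : ℕ), ∀ r ∈ R, x ^ i * r * (x ^ i)⁻¹ ∈ R := by
  intro i
  induction i with
  | zero =>
    intro r hr
    simpa using hr
  | succ i ih =>
    intro r hr
    have e : x ^ (i + 1) * r * (x ^ (i + 1))⁻¹ = x * (x ^ i * r * (x ^ i)⁻¹) * x⁻¹ := by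
      rw [pow_succ']
      generalize x ^ i = g
      group
    rw [e]
    exact hxR _ (ih r hr)

theorem conj_comm_step {Γ : Type*} [Group Γ] (g r : Γ) (t : ℕ) :
    g ^ (t + 1) * r * (g ^ (t + 1))⁻¹ * r⁻¹ =
      (g * (g ^ t * r * (g ^ t)⁻¹) * g⁻¹ * (g ^ t * r * (g ^ t)⁻¹)⁻¹) *
        (g ^ t * r * (g ^ t)⁻¹ * r⁻¹) := by
  rw [pow_succ']
  generalize g ^ t = h
  group

/-- subgroup of fixed points of `f` inside `W` -/
def fixSub {V : Type*} [AddCommGroup V] (W : AddSubgroup V) (f : AddMonoid.End V) :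
    AddSubgroup V where
  carrier := {w | w ∈ W ∧ f w = w}
  zero_mem' := ⟨W.zero_mem, map_zero f⟩
  add_mem' := by
    rintro a b ⟨ha, ha'⟩ ⟨hb, hb'⟩
    exact ⟨W.add_mem ha hb, by rw [map_add, ha', hb']⟩
  neg_mem' := by
    rintro a ⟨ha, ha'⟩
    exact ⟨W.neg_mem ha, by rw [map_neg, ha']⟩

theorem mem_fixSub {V : Type*} [AddCommGroup V] (W : AddSubgroup V) (f : AddMonoid.End V) (w : V) :
    w ∈ fixSub W f ↔ w ∈ W ∧ f w = w := Iff.rfl

/-- the image of `f - 1` -/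
def imSub {V : Type*} [AddCommGroup V] (f : AddMonoid.End V) : AddSubgroup V where
  carrier := {w | ∃ v : V, w = f v - v}
  zero_mem' := ⟨0, by rw [map_zero, sub_zero]⟩
  add_mem' := by
    rintro a b ⟨va, rfl⟩ ⟨vb, rfl⟩
    exact ⟨va + vb, by rw [map_add]; abel⟩
  neg_mem' := by
    rintro a ⟨va, rfl⟩
    exact ⟨-va, by rw [map_neg]; abel⟩

theorem mem_imSub {V : Type*} [AddCommGroup V] (f : AddMonoid.End V) (w : V) :
    w ∈ imSub f ↔ ∃ v : V, w = f v - v := Iff.rfl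

/-- The module-theoretic heart of the Hall–Higman exponent argument (abelian case). -/
theorem module_contra {V : Type*} [AddCommGroup V] [Finite V] {Γ : Type*} [Group Γ]
    (p n : ℕ) [hp : Fact p.Prime]
    (hV : ∀ v : V, ∃ k : ℕ, p ^ k • v = 0)
    (θ : Γ →* AddMonoid.End V) (R : Subgroup Γ)
    (hRab : ∀ a ∈ R, ∀ b ∈ R, a * b = b * a)
    (hRp : ∀ r ∈ R, ∃ o : ℕ, o.Coprime p ∧ r ^ o = 1)
    (x : Γ) (hxR : ∀ r ∈ R, x * r * x⁻¹ ∈ R)
    (hxN : x ^ p ^ (n + 1) = 1)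
    (hsum : ∑ i ∈ Finset.range (p ^ (n + 1)), θ x ^ i = 0)
    (r₀ : Γ) (hr₀ : r₀ ∈ R) (hs₀ : θ (x ^ p ^ n * r₀ * (x ^ p ^ n)⁻¹ * r₀⁻¹) ≠ 1) : False := by
  classical
  have hpp : p.Prime := hp.out
  have hθmul : ∀ (a b : Γ) (v : V), θ (a * b) v = θ a (θ b v) := by
    intro a b v
    rw [map_mul]
    rfl
  have hθone : ∀ v : V, θ 1 v = v := by
    intro v
    rw [map_one]
    rfl
  have hxiR := conj_pow_mem R x hxR
  have hθcomm : ∀ a ∈ R, ∀ b ∈ R, ∀ v : V, θ a (θ b v) = θ b (θ a v) := by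
    intro a ha b hb v
    rw [← hθmul, ← hθmul, hRab a ha b hb]
  obtain ⟨s₀, hs₀def⟩ : ∃ s : Γ, s = x ^ p ^ n * r₀ * (x ^ p ^ n)⁻¹ * r₀⁻¹ := ⟨_, rfl⟩
  rw [← hs₀def] at hs₀
  have hs₀R : s₀ ∈ R := by
    rw [hs₀def]
    exact R.mul_mem (hxiR (p ^ n) r₀ hr₀) (R.inv_mem hr₀)
  -- the family of nonzero `R`-invariant subgroups inside the image of `θ s₀ - 1`
  obtain ⟨S, hSdef⟩ : ∃ S : Set (AddSubgroup V), S = {W | W ≠ ⊥ ∧ W ≤ imSub (θ s₀) ∧
      ∀ r ∈ R, ∀ w ∈ W, θ r w ∈ W} := ⟨_, rfl⟩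
  have hmemS : ∀ W : AddSubgroup V, W ∈ S ↔ (W ≠ ⊥ ∧ W ≤ imSub (θ s₀) ∧
      ∀ r ∈ R, ∀ w ∈ W, θ r w ∈ W) := by
    intro W
    rw [hSdef]
    exact Iff.rfl
  have hV₁S : imSub (θ s₀) ∈ S := by
    rw [hmemS]
    refine ⟨?_, le_rfl, ?_⟩
    · intro hbot
      apply hs₀
      refine DFunLike.ext _ _ (fun v => ?_)
      have h1 : θ s₀ v - v ∈ imSub (θ s₀) := (mem_imSub _ _).mpr ⟨v, rfl⟩
      rw [hbot, AddSubgroup.mem_bot] at h1
      exact sub_eq_zero.mp h1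
    · intro r hr w hw
      obtain ⟨v, rfl⟩ := (mem_imSub _ _).mp hw
      refine (mem_imSub _ _).mpr ⟨θ r v, ?_⟩
      rw [map_sub, hθcomm r hr s₀ hs₀R]
  obtain ⟨W, hWmin⟩ := (Set.toFinite S).exists_minimal ⟨_, hV₁S⟩
  obtain ⟨hW0, hWV₁, hWR⟩ := (hmemS W).mp hWmin.prop
  -- each element of `R` acts trivially or fixed-point-freely on `W`
  have hdich : ∀ s ∈ R, (∀ w ∈ W, θ s w = w) ∨ (∀ w ∈ W, θ s w = w → w = 0) := by
    intro s hs
    by_cases hfp : ∀ w ∈ W, θ s w = w → w = 0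
    · exact Or.inr hfp
    · left
      have hCS : fixSub W (θ s) ∈ S := by
        rw [hmemS]
        refine ⟨?_, fun w hw => hWV₁ ((mem_fixSub _ _ _).mp hw).1, ?_⟩
        · intro hC
          apply hfp
          intro w hw hfix
          have h1 : w ∈ fixSub W (θ s) := (mem_fixSub _ _ _).mpr ⟨hw, hfix⟩
          rw [hC] at h1
          exact AddSubgroup.mem_bot.mp h1
        · intro r hr w hw
          obtain ⟨hw1, hw2⟩ := (mem_fixSub _ _ _).mp hw
          exact (mem_fixSub _ _ _).mpr ⟨hWR r hr w hw1, by rw [hθcomm s hs r hr, hw2]⟩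
      have hWC : W ≤ fixSub W (θ s) :=
        hWmin.le_of_le hCS (fun w hw => ((mem_fixSub _ _ _).mp hw).1)
      intro w hw
      exact ((mem_fixSub _ _ _).mp (hWC hw)).2
  -- `s₀` acts fixed-point-freely on `W`
  have hs₀fpf : ∀ w ∈ W, θ s₀ w = w → w = 0 := by
    intro w hw hfix
    obtain ⟨v, hv⟩ := (mem_imSub _ _).mp (hWV₁ hw)
    obtain ⟨o, hoc, hoo⟩ := hRp s₀ hs₀R
    obtain ⟨k, hk⟩ := hV w
    have hsv : θ s₀ v = v + w := by
      rw [hv]
      abel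
    have hiter : ∀ j : ℕ, θ (s₀ ^ j) v = v + j • w := by
      intro j
      induction j with
      | zero => rw [pow_zero, hθone, zero_smul, add_zero]
      | succ j ih =>
        rw [pow_succ', hθmul, ih, map_add, map_nsmul, hfix, hsv, succ_nsmul]
        abel
    have h1 : o • w = 0 := by
      have h := hiter o
      rw [hoo, hθone] at h
      exact add_left_cancel (a := v) (by rw [add_zero]; exact h.symm)
    have h2 : addOrderOf w ∣ o := addOrderOf_dvd_of_nsmul_eq_zero h1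
    have h3 : addOrderOf w ∣ p ^ k := addOrderOf_dvd_of_nsmul_eq_zero hk
    have h4 : addOrderOf w ∣ 1 := by
      have h := Nat.dvd_gcd h2 h3
      rwa [Nat.Coprime.gcd_eq_one (Nat.Coprime.pow_right k hoc)] at h
    exact AddMonoid.addOrderOf_eq_one_iff.mp (Nat.dvd_one.mp h4)
  have hW1 : ∃ w ∈ W, w ≠ 0 := by
    by_contra h
    push Not at h
    apply hW0
    rw [eq_bot_iff]
    intro w hw
    exact AddSubgroup.mem_bot.mpr (h w hw)
  obtain ⟨w₁, hw₁W, hw₁0⟩ := hW1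
  have htriv_mul : ∀ a b : Γ, (∀ w ∈ W, θ a w = w) → (∀ w ∈ W, θ b w = w) →
      ∀ w ∈ W, θ (a * b) w = w := by
    intro a b ha hb w hw
    rw [hθmul, hb w hw, ha w hw]
  -- for every `1 ≤ m < p^(n+1)` some commutator `[x^m, r]` acts nontrivially on `W`
  have hkey : ∀ m : ℕ, 1 ≤ m → m < p ^ (n + 1) →
      ∃ r ∈ R, ¬ ∀ w ∈ W, θ (x ^ m * r * (x ^ m)⁻¹ * r⁻¹) w = w := by
    intro m hm1 hmN
    by_contra hcon
    push Not at hcon
    have hiter : ∀ t : ℕ, ∀ r ∈ R, ∀ w ∈ W,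
        θ ((x ^ m) ^ t * r * ((x ^ m) ^ t)⁻¹ * r⁻¹) w = w := by
      intro t
      induction t with
      | zero =>
        intro r hr w hw
        have e : (x ^ m) ^ 0 * r * ((x ^ m) ^ 0)⁻¹ * r⁻¹ = 1 := by simp
        rw [e, hθone]
      | succ t ih =>
        intro r hr w hw
        have hr' : (x ^ m) ^ t * r * ((x ^ m) ^ t)⁻¹ ∈ R := by
          rw [← pow_mul]
          exact hxiR (m * t) r hr
        rw [conj_comm_step (x ^ m) r t]
        exact htriv_mul _ _ (hcon _ hr') (ih r hr) w hw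
    obtain ⟨t, ht⟩ := exists_mul_mod p n m hpp hm1 hmN
    have hpow : (x ^ m) ^ t = x ^ p ^ n := by
      rw [← pow_mul, pow_eq_pow_mod (m * t) hxN, ht, ← pow_eq_pow_mod (p ^ n) hxN]
    have h := hiter t r₀ hr₀
    rw [hpow, ← hs₀def] at h
    exact hw₁0 (hs₀fpf w₁ hw₁W (h w₁ hw₁W))
  choose! rr hrrR hrr using hkey
  obtain ⟨r, hrR, hrr'⟩ : ∃ r : ℕ → Γ, (∀ m, r m ∈ R) ∧
      ∀ m, 1 ≤ m → m < p ^ (n + 1) → r m = rr m := by
    refine ⟨fun m => if 1 ≤ m ∧ m < p ^ (n + 1) then rr m else 1, ?_, ?_⟩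
    · intro m
      show (if 1 ≤ m ∧ m < p ^ (n + 1) then rr m else 1) ∈ R
      split_ifs with h
      · exact hrrR m h.1 h.2
      · exact R.one_mem
    · intro m h1 h2
      show (if 1 ≤ m ∧ m < p ^ (n + 1) then rr m else 1) = rr m
      rw [if_pos ⟨h1, h2⟩]
  obtain ⟨d, hd⟩ : ∃ d : ℕ → ℕ → AddMonoid.End V,
      ∀ m i, d m i = θ (x ^ i * r m * (x ^ i)⁻¹) :=
    ⟨fun m i => θ (x ^ i * r m * (x ^ i)⁻¹), fun _ _ => rfl⟩
  have hdX : ∀ m i, θ x ^ i * d m 0 = d m i * θ x ^ i := by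
    intro m i
    rw [hd m 0, hd m i, ← map_pow, ← map_mul, ← map_mul]
    congr 1
    simp
  have hdcomm : ∀ m i m' j, d m i * d m' j = d m' j * d m i := by
    intro m i m' j
    rw [hd m i, hd m' j, ← map_mul, ← map_mul,
      hRab _ (hxiR i _ (hrR m)) _ (hxiR j _ (hrR m'))]
  have hlast := cseq_last (p ^ (n + 1)) (Nat.one_le_pow _ _ hpp.pos) (θ x) d hdX hdcomm hsum
  have hD : ∀ m, 1 ≤ m → m < p ^ (n + 1) → ∀ w ∈ W,
      (d m 0 - d m m) w ∈ W ∧ ((d m 0 - d m m) w = 0 → w = 0) := by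
    intro m h1 h2 w hw
    have hrm : r m ∈ R := hrR m
    have hgr : x ^ m * r m * (x ^ m)⁻¹ ∈ R := hxiR m _ hrm
    have hval : (d m 0 - d m m) w = θ (r m) w - θ (x ^ m * r m * (x ^ m)⁻¹) w := by
      rw [hd m 0, hd m m]
      have e : x ^ 0 * r m * (x ^ 0)⁻¹ = r m := by simp
      rw [e]
      rfl
    rw [hval]
    refine ⟨W.sub_mem (hWR _ hrm w hw) (hWR _ hgr w hw), ?_⟩
    intro h0
    have hsR : x ^ m * r m * (x ^ m)⁻¹ * (r m)⁻¹ ∈ R := R.mul_mem hgr (R.inv_mem hrm)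
    have hfix : θ (x ^ m * r m * (x ^ m)⁻¹ * (r m)⁻¹) (θ (r m) w) = θ (r m) w := by
      rw [← hθmul, inv_mul_cancel_right]
      exact (sub_eq_zero.mp h0).symm
    have hnt : ¬ ∀ w ∈ W, θ (x ^ m * r m * (x ^ m)⁻¹ * (r m)⁻¹) w = w := by
      rw [hrr' m h1 h2]
      exact hrr m h1 h2
    have hf := (hdich _ hsR).resolve_left hnt
    have hz : θ (r m) w = 0 := hf _ (hWR _ hrm w hw) hfix
    have e2 : w = θ (r m)⁻¹ (θ (r m) w) := by
      rw [← hθmul, inv_mul_cancel, hθone]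
    rw [e2, hz, map_zero]
  have hinj : ∀ m, m < p ^ (n + 1) → ∀ w ∈ W,
      (cseq d m 0) w ∈ W ∧ ((cseq d m 0) w = 0 → w = 0) := by
    intro m
    induction m with
    | zero =>
      intro _ w hw
      rw [cseq_zero]
      exact ⟨hw, fun h => h⟩
    | succ m ih =>
      intro hm w hw
      rw [cseq_succ]
      obtain ⟨h1, h2⟩ := hD (m + 1) (by omega) hm w hw
      obtain ⟨h3, h4⟩ := ih (by omega) _ h1
      exact ⟨h3, fun h => h2 (h4 h)⟩
  have hN1 : p ^ (n + 1) - 1 < p ^ (n + 1) := by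
    have := Nat.one_le_pow (n + 1) p hpp.pos
    omega
  obtain ⟨-, hfin⟩ := hinj (p ^ (n + 1) - 1) hN1 w₁ hw₁W
  apply hw₁0
  apply hfin
  rw [hlast]
  rfl

end Cfsg.Agent.Helper20.ExpMod
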