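import Mathlib
import Cfsg.Agent.Helper20.HallHigman

set_option autoImplicit false
set_option maxHeartbeats 1000000

namespace Cfsg.Agent.Helper20.PLen

universe u

open Cfsg

theorem pCore_quot_pCore_eq_bot {G : Type*} [Group G] [Finite G] (p : ℕ) [Fact p.Prime] :
    Cfsg.pCore p (G ⧸ Cfsg.pCore p G) = ⊥ := by
  have hp1 : IsPGroup p ↥((Cfsg.pCore p (G ⧸ Cfsg.pCore p G)).comap
      (QuotientGroup.mk' (Cfsg.pCore p G))) := by
    apply IsPGroup.comap_of_ker_isPGroup (Cfsg.Agent.Helper9.pCore_isPGroup p)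
    rw [QuotientGroup.ker_mk']
    exact Cfsg.Agent.Helper9.pCore_isPGroup p
  have hle := Cfsg.Agent.Helper9.le_pCore (Subgroup.Normal.comap inferInstance _) hp1
  rw [eq_bot_iff]
  intro q hq
  obtain ⟨g, rfl⟩ := QuotientGroup.mk'_surjective _ q
  have hg : g ∈ Cfsg.pCore p G := hle hq
  rw [Subgroup.mem_bot]
  exact (QuotientGroup.eq_one_iff g).mpr hg

/-- Dual of Hall–Higman Lemma 1.2.3: in a `p`-solvable group with `O_p = 1`, the subgroup
`O_{p'}` contains its centralizer. -/
theorem centralizer_pPrimeCore_le_of_psolvable {K : Type u} [Group K] [Finite K] (p : ℕ)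
    [hp : Fact p.Prime] (hsol : Cfsg.IsPSolvable p K) (hO : Cfsg.pCore p K = ⊥) :
    Subgroup.centralizer (Cfsg.pPrimeCore p K : Set K) ≤ Cfsg.pPrimeCore p K := by
  by_contra hC
  have hMn : (Cfsg.pPrimeCore p K).Normal := inferInstance
  have hCn : (Subgroup.centralizer (Cfsg.pPrimeCore p K : Set K)).Normal := inferInstance
  have hMc : (Nat.card ↥(Cfsg.pPrimeCore p K)).Coprime p :=
    Cfsg.Agent.Helper9.pPrimeCore_coprime p
  have hCbar : (Subgroup.centralizer (Cfsg.pPrimeCore p K : Set K)).map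
      (QuotientGroup.mk' (Cfsg.pPrimeCore p K)) ≠ ⊥ := by
    intro h
    rw [Subgroup.map_eq_bot_iff, QuotientGroup.ker_mk'] at h
    exact hC h
  haveI hCbn : ((Subgroup.centralizer (Cfsg.pPrimeCore p K : Set K)).map
      (QuotientGroup.mk' (Cfsg.pPrimeCore p K))).Normal :=
    hCn.map _ (QuotientGroup.mk'_surjective _)
  obtain ⟨B, hBC, hBn, hB1, hB⟩ := psolvable_normal_setup p
    (Cfsg.Agent.Helper20.isPSolvable_quotient p hsol (Cfsg.pPrimeCore p K)) _ hCbar
  have hAn : (B.comap (QuotientGroup.mk' (Cfsg.pPrimeCore p K))).Normal := hBn.comap _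
  have hMA : Cfsg.pPrimeCore p K ≤ B.comap (QuotientGroup.mk' (Cfsg.pPrimeCore p K)) :=
    le_comap_mk _ _
  have hmapA : (B.comap (QuotientGroup.mk' (Cfsg.pPrimeCore p K))).map
      (QuotientGroup.mk' (Cfsg.pPrimeCore p K)) = B :=
    Subgroup.map_comap_eq_self_of_surjective (QuotientGroup.mk'_surjective _) B
  have hrel : (Cfsg.pPrimeCore p K).relIndex
      (B.comap (QuotientGroup.mk' (Cfsg.pPrimeCore p K))) = Nat.card B := by
    rw [← card_map_mk_eq_relIndex, hmapA]
  have hsuff : ¬ B.comap (QuotientGroup.mk' (Cfsg.pPrimeCore p K)) ≤ Cfsg.pPrimeCore p K := by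
    intro hle
    apply hB1
    rw [eq_bot_iff, ← hmapA, ← QuotientGroup.map_mk'_self (Cfsg.pPrimeCore p K)]
    exact Subgroup.map_mono hle
  apply hsuff
  rcases hB with hBp | hBc
  · -- `A / M` is a `p`-group
    have hDn : (B.comap (QuotientGroup.mk' (Cfsg.pPrimeCore p K)) ⊓
        Subgroup.centralizer (Cfsg.pPrimeCore p K : Set K)).Normal := inferInstance
    obtain ⟨D, hDdef⟩ : ∃ D : Subgroup K, D = B.comap (QuotientGroup.mk' (Cfsg.pPrimeCore p K)) ⊓
        Subgroup.centralizer (Cfsg.pPrimeCore p K : Set K) := ⟨_, rfl⟩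
    rw [← hDdef] at hDn
    haveI := hDn
    have hDA : D ≤ B.comap (QuotientGroup.mk' (Cfsg.pPrimeCore p K)) := by
      rw [hDdef]
      exact inf_le_left
    have hDC : D ≤ Subgroup.centralizer (Cfsg.pPrimeCore p K : Set K) := by
      rw [hDdef]
      exact inf_le_right
    obtain ⟨e, he⟩ := hBp.exists_card_eq
    have hZidx : ∃ j, ((Cfsg.pPrimeCore p K).subgroupOf D).index = p ^ j := by
      have h1 : (Cfsg.pPrimeCore p K).relIndex D ∣ Nat.card B := by
        rw [← hrel]
        exact relIndex_dvd_of_le_right _ hDA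
      rw [he] at h1
      obtain ⟨j, -, hj⟩ := (Nat.dvd_prime_pow hp.out).mp h1
      exact ⟨j, hj⟩
    obtain ⟨j, hj⟩ := hZidx
    obtain ⟨P⟩ : Nonempty (Sylow p ↥D) := inferInstance
    have hsup : (P : Subgroup ↥D) ⊔ (Cfsg.pPrimeCore p K).subgroupOf D = ⊤ := by
      rw [← Subgroup.index_eq_one]
      have h1 : ((P : Subgroup ↥D) ⊔ (Cfsg.pPrimeCore p K).subgroupOf D).index ∣
          (P : Subgroup ↥D).index := Subgroup.index_dvd_of_le le_sup_left
      have h2 : ((P : Subgroup ↥D) ⊔ (Cfsg.pPrimeCore p K).subgroupOf D).index ∣ p ^ j := by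
        rw [← hj]
        exact Subgroup.index_dvd_of_le le_sup_right
      obtain ⟨i, -, hi⟩ := (Nat.dvd_prime_pow hp.out).mp h2
      rcases Nat.eq_zero_or_pos i with h0 | hpos
      · rw [hi, h0, pow_zero]
      · exfalso
        apply P.not_dvd_index
        refine dvd_trans ?_ h1
        rw [hi]
        exact dvd_pow_self p (by omega)
    have hZcen : ∀ z ∈ (Cfsg.pPrimeCore p K).subgroupOf D, ∀ c : ↥D, z * c = c * z := by
      intro z hz c
      apply Subtype.ext
      have hzM : (z : K) ∈ Cfsg.pPrimeCore p K := Subgroup.mem_subgroupOf.mp hz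
      exact Subgroup.mem_centralizer_iff.mp (hDC c.2) z hzM
    have hPn : (P : Subgroup ↥D).Normal := by
      rw [← Subgroup.normalizer_eq_top_iff, eq_top_iff, ← hsup]
      apply sup_le Subgroup.le_normalizer
      intro z hz
      rw [Subgroup.mem_normalizer_iff]
      intro h
      have e1 : z * h * z⁻¹ = h := by rw [hZcen z hz h, mul_inv_cancel_right]
      rw [e1]
    haveI hPc : (P : Subgroup ↥D).Characteristic := Sylow.characteristic_of_normal P hPn
    have hPKn : ((P : Subgroup ↥D).map D.subtype).Normal := inferInstance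
    have hPbot : (P : Subgroup ↥D).map D.subtype = ⊥ := by
      have h1 := Cfsg.Agent.Helper9.le_pCore hPKn (P.isPGroup'.map D.subtype)
      rw [hO] at h1
      exact le_bot_iff.mp h1
    have hPbot' : (P : Subgroup ↥D) = ⊥ :=
      (Subgroup.map_eq_bot_iff_of_injective _ (Subgroup.subtype_injective _)).mp hPbot
    have hZtop : (Cfsg.pPrimeCore p K).subgroupOf D = ⊤ := by
      rw [hPbot', bot_sup_eq] at hsup
      exact hsup
    have hDM : D ≤ Cfsg.pPrimeCore p K := by
      intro c hc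
      have h1 : (⟨c, hc⟩ : ↥D) ∈ (Cfsg.pPrimeCore p K).subgroupOf D := by
        rw [hZtop]
        exact Subgroup.mem_top _
      exact Subgroup.mem_subgroupOf.mp h1
    intro x hx
    have hxB : QuotientGroup.mk' (Cfsg.pPrimeCore p K) x ∈ B := Subgroup.mem_comap.mp hx
    obtain ⟨c, hc, hcx⟩ := Subgroup.mem_map.mp (hBC hxB)
    have hz : c⁻¹ * x ∈ Cfsg.pPrimeCore p K := by
      rw [← QuotientGroup.eq_one_iff, QuotientGroup.mk_mul, QuotientGroup.mk_inv]
      have h2 : ((c : K) : K ⧸ Cfsg.pPrimeCore p K) = ((x : K) : K ⧸ Cfsg.pPrimeCore p K) := hcx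
      rw [h2, inv_mul_cancel]
    have hcA : c ∈ B.comap (QuotientGroup.mk' (Cfsg.pPrimeCore p K)) := by
      have h3 : c = x * (c⁻¹ * x)⁻¹ := by group
      rw [h3]
      exact Subgroup.mul_mem _ hx (Subgroup.inv_mem _ (hMA hz))
    have hcM : c ∈ Cfsg.pPrimeCore p K := by
      apply hDM
      rw [hDdef]
      exact Subgroup.mem_inf.mpr ⟨hcA, hc⟩
    have h4 : x = c * (c⁻¹ * x) := by group
    rw [h4]
    exact Subgroup.mul_mem _ hcM hz
  · -- `A / M` is a `p'`-group, so `A` is a normal `p'`-subgroup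
    have h1 := Subgroup.relIndex_mul_relIndex ⊥ (Cfsg.pPrimeCore p K)
      (B.comap (QuotientGroup.mk' (Cfsg.pPrimeCore p K))) bot_le hMA
    rw [Subgroup.relIndex_bot_left, Subgroup.relIndex_bot_left, hrel] at h1
    apply Cfsg.Agent.Helper9.le_pPrimeCore hAn
    rw [← h1]
    exact Nat.Coprime.mul_left hMc hBc

end Cfsg.Agent.Helper20.PLen
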