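import Mathlib
import Cfsg.Agent.Helper20.ExpModule
import Cfsg.Agent.Helper20.HHDual
import Cfsg.Agent.Helper1.Coprime2
import Cfsg.Agent.Helper11.TI2
import Cfsg.Agent.Lead.PGroup

set_option autoImplicit false
set_option maxHeartbeats 1000000

namespace Cfsg.Agent.Helper20.PLen

universe u

open Cfsg Cfsg.Agent.Helper20.ExpMod

/-- all `q`-subgroups are abelian -/
def AbQ (q : ℕ) (G : Type*) [Group G] : Prop :=
  ∀ P : Subgroup G, IsPGroup q P → ∀ x ∈ P, ∀ y ∈ P, x * y = y * x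

theorem abQ_of_surjective {q : ℕ} [Fact q.Prime] {G Q : Type*} [Group G] [Finite G] [Group Q]
    (f : G →* Q) (hf : Function.Surjective f) (h : AbQ q G) : AbQ q Q := by
  intro P hP x hx y hy
  obtain ⟨T, hT⟩ := hP.exists_le_sylow
  obtain ⟨S, hS⟩ := Sylow.mapSurjective_surjective hf q T
  have hTS : (T : Subgroup Q) = (S : Subgroup G).map f := by
    rw [← hS]
    rfl
  have hx' : x ∈ (S : Subgroup G).map f := by
    rw [← hTS]
    exact hT hx
  have hy' : y ∈ (S : Subgroup G).map f := by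
    rw [← hTS]
    exact hT hy
  obtain ⟨s, hs, rfl⟩ := hx'
  obtain ⟨t, ht, rfl⟩ := hy'
  rw [← map_mul, ← map_mul, h (S : Subgroup G) S.isPGroup' s hs t ht]

theorem abQ_of_sylow {q : ℕ} {G : Type*} [Group G]
    (h : ∀ S : Sylow q G, IsMulCommutative ↥(S : Subgroup G)) : AbQ q G := by
  intro P hP x hx y hy
  obtain ⟨S, hS⟩ := hP.exists_le_sylow
  haveI := h S
  exact setLike_mul_comm (hS hx) (hS hy)

section AbAct

variable {H : Type*} [Group H] (Q : Subgroup H) [Q.Normal]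

/-- the conjugation action of `H` on the abelianization of a normal subgroup, additively -/
noncomputable def abAct : H →* AddMonoid.End (Additive (Abelianization ↥Q)) where
  toFun h := MonoidHom.toAdditive (Abelianization.map (MulAut.conjNormal h : MulAut ↥Q).toMonoidHom)
  map_one' := by
    have e : (MulAut.conjNormal (1 : H) : MulAut ↥Q).toMonoidHom = MonoidHom.id ↥Q := by
      rw [map_one]
      rfl
    rw [e, Abelianization.map_id]
    rfl
  map_mul' a b := by
    have e : (MulAut.conjNormal (a * b) : MulAut ↥Q).toMonoidHom =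
        ((MulAut.conjNormal a : MulAut ↥Q).toMonoidHom).comp
          (MulAut.conjNormal b : MulAut ↥Q).toMonoidHom := by
      rw [map_mul]
      rfl
    rw [e, ← Abelianization.map_comp]
    rfl

theorem abAct_apply (h : H) (u : ↥Q) :
    abAct Q h (Additive.ofMul (Abelianization.of u)) =
      Additive.ofMul (Abelianization.of (MulAut.conjNormal h u)) := rfl

theorem abAct_exists_rep (v : Additive (Abelianization ↥Q)) :
    ∃ u : ↥Q, v = Additive.ofMul (Abelianization.of u) := by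
  obtain ⟨v', rfl⟩ := Additive.ofMul.surjective v
  obtain ⟨u, rfl⟩ := QuotientGroup.mk_surjective v'
  exact ⟨u, rfl⟩

theorem abAct_ker_ge : Q ≤ (abAct Q).ker := by
  intro u hu
  rw [MonoidHom.mem_ker]
  refine DFunLike.ext _ _ (fun v => ?_)
  obtain ⟨w, rfl⟩ := abAct_exists_rep Q v
  rw [abAct_apply]
  show Additive.ofMul (Abelianization.of (MulAut.conjNormal u w)) =
    Additive.ofMul (Abelianization.of w)
  have e : MulAut.conjNormal u w = (⟨u, hu⟩ : ↥Q) * w * (⟨u, hu⟩ : ↥Q)⁻¹ := by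
    apply Subtype.ext
    rw [MulAut.conjNormal_apply]
    rfl
  apply congrArg Additive.ofMul
  rw [e, map_mul, map_mul, map_inv,
    mul_comm (Abelianization.of (⟨u, hu⟩ : ↥Q)) (Abelianization.of w), mul_inv_cancel_right]

theorem abAct_torsion {p : ℕ} (hQp : IsPGroup p ↥Q) (v : Additive (Abelianization ↥Q)) :
    ∃ k : ℕ, p ^ k • v = 0 := by
  obtain ⟨u, rfl⟩ := abAct_exists_rep Q v
  obtain ⟨k, hk⟩ := hQp u
  refine ⟨k, ?_⟩
  rw [← ofMul_pow, ← map_pow, hk, map_one]
  rfl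

theorem abAct_sum {N : ℕ} (x : H) (hx : ∀ u ∈ Q, (u * x) ^ N = 1) :
    ∑ i ∈ Finset.range N, abAct Q x ^ i = 0 := by
  have hxN : x ^ N = 1 := by
    have h := hx 1 (Subgroup.one_mem _)
    rwa [one_mul] at h
  refine DFunLike.ext _ _ (fun v => ?_)
  obtain ⟨u, rfl⟩ := abAct_exists_rep Q v
  obtain ⟨P, hP0, hPs⟩ : ∃ P : ℕ → ↥Q, P 0 = 1 ∧
      ∀ k, P (k + 1) = P k * MulAut.conjNormal (x ^ k) u :=
    ⟨fun k => Nat.rec 1 (fun k Pk => Pk * MulAut.conjNormal (x ^ k) u) k, rfl, fun k => rfl⟩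
  have h1 : ∀ k : ℕ, ((u : H) * x) ^ k = (P k : H) * x ^ k := by
    intro k
    induction k with
    | zero => rw [pow_zero, pow_zero, hP0, Subgroup.coe_one, one_mul]
    | succ k ih =>
      rw [pow_succ ((u : H) * x) k, ih, hPs, Subgroup.coe_mul, MulAut.conjNormal_apply,
        pow_succ x k]
      generalize x ^ k = g
      group
  have h2 : ∀ k : ℕ, (∑ i ∈ Finset.range k, abAct Q x ^ i)
      (Additive.ofMul (Abelianization.of u)) = Additive.ofMul (Abelianization.of (P k)) := by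
    intro k
    induction k with
    | zero =>
      rw [Finset.sum_range_zero, hP0, map_one]
      rfl
    | succ k ih =>
      have e : (∑ i ∈ Finset.range (k + 1), abAct Q x ^ i)
          (Additive.ofMul (Abelianization.of u)) =
          (∑ i ∈ Finset.range k, abAct Q x ^ i) (Additive.ofMul (Abelianization.of u)) +
            (abAct Q x ^ k) (Additive.ofMul (Abelianization.of u)) := by
        rw [Finset.sum_range_succ]
        rfl
      rw [e, ih, hPs, map_mul, ofMul_mul, ← map_pow, abAct_apply]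
  have h3 : P N = 1 := by
    apply Subtype.ext
    have h := h1 N
    rw [hx u u.2, hxN, mul_one] at h
    rw [← h]
    rfl
  rw [h2 N, h3, map_one]
  rfl

theorem abAct_ker_isPGroup [Finite H] {p : ℕ} [Fact p.Prime] (hQp : IsPGroup p ↥Q)
    (hC : Subgroup.centralizer (Q : Set H) ≤ Q) : IsPGroup p ↥(abAct Q).ker := by
  apply Cfsg.Agent.Helper11.isPGroup_of_frattini_action Q inferInstance hQp hC
  intro k hk q hq
  have hk1 : abAct Q k = 1 := MonoidHom.mem_ker.mp hk
  have h2 := abAct_apply Q k (⟨q, hq⟩ : ↥Q)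
  rw [hk1] at h2
  have h2' : Additive.ofMul (Abelianization.of (⟨q, hq⟩ : ↥Q)) =
      Additive.ofMul (Abelianization.of (MulAut.conjNormal k (⟨q, hq⟩ : ↥Q))) := h2
  have h3 : Abelianization.of (MulAut.conjNormal k (⟨q, hq⟩ : ↥Q)) =
      Abelianization.of (⟨q, hq⟩ : ↥Q) := (Additive.ofMul.injective h2').symm
  have h1 : Abelianization.of ((⟨q, hq⟩ : ↥Q)⁻¹ * MulAut.conjNormal k (⟨q, hq⟩ : ↥Q)) = 1 := by
    rw [map_mul, map_inv, h3, inv_mul_cancel]
  have h4 : (⟨q, hq⟩ : ↥Q)⁻¹ * MulAut.conjNormal k (⟨q, hq⟩ : ↥Q) ∈ commutator ↥Q := by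
    rw [← Abelianization.ker_of, MonoidHom.mem_ker]
    exact h1
  have h5 := Cfsg.Agent.Lead.commutator_le_frattini hQp h4
  refine ⟨_, h5, ?_⟩
  show (((⟨q, hq⟩ : ↥Q)⁻¹ * MulAut.conjNormal k (⟨q, hq⟩ : ↥Q) : ↥Q) : H) = q⁻¹ * k * q * k⁻¹
  rw [Subgroup.coe_mul, MulAut.conjNormal_apply]
  simp [mul_assoc]

end AbAct

/-- Key step: in a `p`-solvable group `H` with `O_{p'}(H) = 1` and abelian Sylow `q`-subgroups
for `q ≠ p`, if all elements of the coset `O_p(H) x` have order dividing `p^(n+1)` then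
`x^(p^n) ∈ O_p(H)`. -/
theorem exp_step {H : Type u} [Group H] [Finite H] (p : ℕ) [hp : Fact p.Prime] (n : ℕ)
    (hsol : Cfsg.IsPSolvable p H) (hO : Cfsg.pPrimeCore p H = ⊥)
    (hab : ∀ (q : ℕ) [Fact q.Prime], q ≠ p → AbQ q H)
    (x : H) (hx : ∀ u ∈ Cfsg.pCore p H, (u * x) ^ p ^ (n + 1) = 1) :
    x ^ p ^ n ∈ Cfsg.pCore p H := by
  classical
  by_contra hy
  have hpp : p.Prime := hp.out
  have hQp : IsPGroup p ↥(Cfsg.pCore p H) := Cfsg.Agent.Helper9.pCore_isPGroup p
  have hCQ := centralizer_pCore_le_of_psolvable p hsol hO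
  have hxN : x ^ p ^ (n + 1) = 1 := by
    have h := hx 1 (Subgroup.one_mem _)
    rwa [one_mul] at h
  have hKsol : Cfsg.IsPSolvable p (H ⧸ Cfsg.pCore p H) :=
    Cfsg.Agent.Helper20.isPSolvable_quotient p hsol _
  have hKO : Cfsg.pCore p (H ⧸ Cfsg.pCore p H) = ⊥ := pCore_quot_pCore_eq_bot p
  have hdual := centralizer_pPrimeCore_le_of_psolvable p hKsol hKO
  have hMc : (Nat.card ↥(Cfsg.pPrimeCore p (H ⧸ Cfsg.pCore p H))).Coprime p :=
    Cfsg.Agent.Helper9.pPrimeCore_coprime p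
  obtain ⟨xb, hxb⟩ : ∃ xb : H ⧸ Cfsg.pCore p H, xb = QuotientGroup.mk' (Cfsg.pCore p H) x :=
    ⟨_, rfl⟩
  obtain ⟨yb, hyb⟩ : ∃ yb : H ⧸ Cfsg.pCore p H, yb = xb ^ p ^ n := ⟨_, rfl⟩
  have hyb1 : yb ≠ 1 := by
    intro h
    apply hy
    rw [← QuotientGroup.eq_one_iff]
    rw [hyb, hxb, ← map_pow] at h
    exact h
  have hxbN : xb ^ p ^ (n + 1) = 1 := by rw [hxb, ← map_pow, hxN, map_one]
  have hybp : yb ^ p = 1 := by rw [hyb, ← pow_mul, ← pow_succ, hxbN]
  have hybM : yb ∉ Cfsg.pPrimeCore p (H ⧸ Cfsg.pCore p H) := by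
    intro hmem
    apply hyb1
    have h1 : orderOf yb ∣ p := orderOf_dvd_of_pow_eq_one hybp
    have h2 : orderOf yb ∣ Nat.card ↥(Cfsg.pPrimeCore p (H ⧸ Cfsg.pCore p H)) := by
      have h := orderOf_dvd_natCard (⟨yb, hmem⟩ : ↥(Cfsg.pPrimeCore p (H ⧸ Cfsg.pCore p H)))
      rwa [Subgroup.orderOf_mk] at h
    have h3 : orderOf yb ∣ 1 := by
      have h := Nat.dvd_gcd h2 h1
      rwa [Nat.Coprime.gcd_eq_one hMc] at h
    exact orderOf_eq_one_iff.mp (Nat.dvd_one.mp h3)
  have hncen : ∃ m₀ ∈ Cfsg.pPrimeCore p (H ⧸ Cfsg.pCore p H), m₀ * yb ≠ yb * m₀ := by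
    by_contra hcon
    push Not at hcon
    apply hybM
    apply hdual
    rw [Subgroup.mem_centralizer_iff]
    exact hcon
  obtain ⟨m₀, hm₀M, hm₀⟩ := hncen
  have hAM : Subgroup.zpowers xb ≤ Subgroup.normalizer
      (Cfsg.pPrimeCore p (H ⧸ Cfsg.pCore p H) : Set (H ⧸ Cfsg.pCore p H)) := by
    rw [Subgroup.normalizer_eq_top]
    exact le_top
  have hAcard : Nat.card ↥(Subgroup.zpowers xb) ∣ p ^ (n + 1) := by
    rw [Nat.card_zpowers]
    exact orderOf_dvd_of_pow_eq_one hxbN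
  have hcop : (Nat.card ↥(Subgroup.zpowers xb)).Coprime
      (Nat.card ↥(Cfsg.pPrimeCore p (H ⧸ Cfsg.pCore p H))) := by
    apply Nat.Coprime.coprime_dvd_left hAcard
    exact (Nat.Coprime.pow_right (n + 1) hMc).symm
  have hAsolv : Group.IsSolvable ↥(Subgroup.zpowers xb) :=
    Group.isSolvable_of_comm (fun a b => mul_comm' a b)
  -- a prime `q` and an `xb`-invariant `q`-subgroup on which `yb` acts nontrivially
  have hex : ∃ (q : ℕ) (_ : Fact q.Prime) (R : Subgroup (H ⧸ Cfsg.pCore p H)), q ≠ p ∧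
      IsPGroup q ↥R ∧ (∀ r ∈ R, xb * r * xb⁻¹ ∈ R) ∧ ∃ r₀ ∈ R, r₀ * yb ≠ yb * r₀ := by
    by_contra hcon
    apply hm₀
    have hdvd : Nat.card ↥(Cfsg.pPrimeCore p (H ⧸ Cfsg.pCore p H)) ∣
        Nat.card ↥(Cfsg.pPrimeCore p (H ⧸ Cfsg.pCore p H) ⊓
          Subgroup.centralizer ({yb} : Set (H ⧸ Cfsg.pCore p H))) := by
      rw [Nat.dvd_iff_prime_pow_dvd_dvd]
      intro q k hq hqk
      by_cases hqp : q = p
      · have hk0 : k = 0 := by
          by_contra hk0
          have h1 : q ∣ Nat.card ↥(Cfsg.pPrimeCore p (H ⧸ Cfsg.pCore p H)) :=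
            (dvd_pow_self q hk0).trans hqk
          rw [hqp] at h1
          exact (Nat.Prime.coprime_iff_not_dvd hpp).mp hMc.symm h1
        rw [hk0, pow_zero]
        exact one_dvd _
      · haveI : Fact q.Prime := ⟨hq⟩
        obtain ⟨R, hRM, hRcard, hRA⟩ := Cfsg.Agent.Helper1.inv_sylow_exists
          (Subgroup.zpowers xb) (Cfsg.pPrimeCore p (H ⧸ Cfsg.pCore p H)) hAM hcop
          (Or.inl hAsolv) q
        have hk : k ≤ (Nat.card ↥(Cfsg.pPrimeCore p (H ⧸ Cfsg.pCore p H))).factorization q :=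
          (hq.pow_dvd_iff_le_factorization Nat.card_pos.ne').mp hqk
        have hRle : R ≤ Cfsg.pPrimeCore p (H ⧸ Cfsg.pCore p H) ⊓
            Subgroup.centralizer ({yb} : Set (H ⧸ Cfsg.pCore p H)) := by
          refine le_inf hRM ?_
          intro r hr
          rw [Subgroup.mem_centralizer_iff]
          intro h hh
          rw [Set.mem_singleton_iff] at hh
          rw [hh]
          by_contra hne
          exact hcon ⟨q, ⟨hq⟩, R, hqp, IsPGroup.of_card hRcard,
            fun r' hr' => (Subgroup.mem_normalizer_iff.mp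
              (hRA (Subgroup.mem_zpowers xb)) r').mp hr',
            r, hr, fun e => hne e.symm⟩
        refine (pow_dvd_pow q hk).trans ?_
        rw [← hRcard]
        exact Subgroup.card_dvd_of_le hRle
    have hEq := Subgroup.eq_of_le_of_card_ge
      (inf_le_left : Cfsg.pPrimeCore p (H ⧸ Cfsg.pCore p H) ⊓
        Subgroup.centralizer ({yb} : Set (H ⧸ Cfsg.pCore p H)) ≤
        Cfsg.pPrimeCore p (H ⧸ Cfsg.pCore p H)) (Nat.le_of_dvd Nat.card_pos hdvd)
    have hm₀' : m₀ ∈ Cfsg.pPrimeCore p (H ⧸ Cfsg.pCore p H) ⊓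
        Subgroup.centralizer ({yb} : Set (H ⧸ Cfsg.pCore p H)) := by
      rw [hEq]
      exact hm₀M
    exact (Subgroup.mem_centralizer_iff.mp (Subgroup.mem_inf.mp hm₀').2 yb
      (Set.mem_singleton yb)).symm
  obtain ⟨q, hqF, R, hqp, hRq, hRx, r₀, hr₀R, hr₀⟩ := hex
  haveI := hqF
  have hqq : q.Prime := hqF.out
  have hRab : ∀ a ∈ R, ∀ b ∈ R, a * b = b * a :=
    (abQ_of_surjective (QuotientGroup.mk' (Cfsg.pCore p H)) (QuotientGroup.mk'_surjective _)
      (hab q hqp)) R hRq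
  obtain ⟨θb, hθb⟩ : ∃ θb : (H ⧸ Cfsg.pCore p H) →*
      AddMonoid.End (Additive (Abelianization ↥(Cfsg.pCore p H))),
      ∀ h : H, θb (QuotientGroup.mk' (Cfsg.pCore p H) h) = abAct (Cfsg.pCore p H) h :=
    ⟨QuotientGroup.lift (Cfsg.pCore p H) (abAct (Cfsg.pCore p H)) (abAct_ker_ge _),
      fun h => rfl⟩
  have hRpow : ∀ r ∈ R, ∃ k : ℕ, r ^ q ^ k = 1 := by
    intro r hr
    obtain ⟨k, hk⟩ := hRq ⟨r, hr⟩
    refine ⟨k, ?_⟩
    have h := congrArg Subtype.val hk
    rwa [Subgroup.coe_pow, Subgroup.coe_one] at h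
  apply module_contra (V := Additive (Abelianization ↥(Cfsg.pCore p H))) p n
    (abAct_torsion _ hQp) θb R hRab ?_ xb hRx hxbN ?_ r₀ hr₀R ?_
  · intro r hr
    obtain ⟨k, hk⟩ := hRpow r hr
    exact ⟨q ^ k, Nat.Coprime.pow_left k ((Nat.coprime_primes hqq hpp).mpr hqp), hk⟩
  · rw [hxb, hθb]
    exact abAct_sum _ x hx
  · intro hθ1
    obtain ⟨sb, hsbdef⟩ : ∃ sb : H ⧸ Cfsg.pCore p H,
        sb = xb ^ p ^ n * r₀ * (xb ^ p ^ n)⁻¹ * r₀⁻¹ := ⟨_, rfl⟩
    rw [← hsbdef] at hθ1
    have hsbR : sb ∈ R := by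
      rw [hsbdef]
      exact R.mul_mem (conj_pow_mem R xb hRx (p ^ n) r₀ hr₀R) (R.inv_mem hr₀R)
    have hsb1 : sb ≠ 1 := by
      intro h1
      apply hr₀
      rw [hsbdef, ← hyb, mul_inv_eq_one, mul_inv_eq_iff_eq_mul] at h1
      exact h1.symm
    apply hsb1
    obtain ⟨s, hs⟩ := QuotientGroup.mk'_surjective (Cfsg.pCore p H) sb
    have hsker : s ∈ (abAct (Cfsg.pCore p H)).ker := by
      rw [MonoidHom.mem_ker, ← hθb, hs]
      exact hθ1
    obtain ⟨k, hk⟩ := abAct_ker_isPGroup (Cfsg.pCore p H) hQp hCQ ⟨s, hsker⟩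
    have hk' : s ^ p ^ k = 1 := by
      have h := congrArg Subtype.val hk
      rwa [Subgroup.coe_pow, Subgroup.coe_one] at h
    have hsbp : sb ^ p ^ k = 1 := by rw [← hs, ← map_pow, hk', map_one]
    obtain ⟨j, hj⟩ := hRpow sb hsbR
    have h1 : orderOf sb ∣ p ^ k := orderOf_dvd_of_pow_eq_one hsbp
    have h2 : orderOf sb ∣ q ^ j := orderOf_dvd_of_pow_eq_one hj
    have h3 : orderOf sb ∣ 1 := by
      have h := Nat.dvd_gcd h1 h2
      rwa [Nat.Coprime.gcd_eq_one (Nat.Coprime.pow _ _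
        ((Nat.coprime_primes hpp hqq).mpr (Ne.symm hqp)))] at h
    exact orderOf_eq_one_iff.mp (Nat.dvd_one.mp h3)

/-- A `p`-solvable group whose Sylow `q`-subgroups (`q ≠ p`) are abelian and whose Sylow
`p`-subgroups have exponent dividing `p^n` has `p`-length at most `n`. -/
theorem plength_le_exp (p : ℕ) [hp : Fact p.Prime] :
    ∀ (n : ℕ) (G : Type u) [Group G] [Finite G], Cfsg.IsPSolvable p G →
      (∀ (q : ℕ) [Fact q.Prime], q ≠ p → AbQ q G) →
      (∀ (P : Sylow p G), ∀ x ∈ (P : Subgroup G), x ^ p ^ n = 1) → Cfsg.PLengthLE p n G := by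
  intro n
  induction n with
  | zero =>
    intro G _ _ hsol hab hexp
    apply pLengthLE_zero_of_coprime
    obtain ⟨S⟩ : Nonempty (Sylow p G) := inferInstance
    have h1 : Nat.card ↥(S : Subgroup G) = 1 := by
      rw [Subgroup.card_eq_one, eq_bot_iff]
      intro x hx
      have h := hexp S x hx
      rw [pow_zero, pow_one] at h
      exact Subgroup.mem_bot.mpr h
    have h2 := Subgroup.card_mul_index (S : Subgroup G)
    rw [h1, one_mul] at h2
    rw [← h2]
    exact ((Nat.Prime.coprime_iff_not_dvd hp.out).mpr S.not_dvd_index).symm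
  | succ n ih =>
    intro G _ _ hsol hab hexp
    apply pLengthLE_of_quot_upper_two
    apply ih (G ⧸ (upperPSeries p G 2).1) (Cfsg.Agent.Helper20.isPSolvable_quotient p hsol _)
    · intro q _ hqp
      exact abQ_of_surjective (QuotientGroup.mk' _) (QuotientGroup.mk'_surjective _) (hab q hqp)
    · intro P xb hxb
      obtain ⟨S, hS⟩ := Sylow.mapSurjective_surjective
        (QuotientGroup.mk'_surjective (upperPSeries p G 2).1) p P
      have hPS : (P : Subgroup (G ⧸ (upperPSeries p G 2).1)) =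
          (S : Subgroup G).map (QuotientGroup.mk' (upperPSeries p G 2).1) := by
        rw [← hS]
        rfl
      rw [hPS] at hxb
      obtain ⟨x, hxS, rfl⟩ := hxb
      rw [← map_pow]
      apply (QuotientGroup.eq_one_iff _).mpr
      have hodd : ¬ Even 1 := Nat.not_even_one
      have hU2 : (upperPSeries p G 2).1 = (Cfsg.pCore p (G ⧸ (upperPSeries p G 1).1)).comap
          (QuotientGroup.mk' (upperPSeries p G 1).1) := upper_succ_odd p hodd
      rw [hU2, Subgroup.mem_comap, map_pow]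
      apply exp_step p n (Cfsg.Agent.Helper20.isPSolvable_quotient p hsol (upperPSeries p G 1).1)
        (pPrimeCore_quot_upper_odd p 1 hodd)
      · intro q _ hqp
        exact abQ_of_surjective (QuotientGroup.mk' _) (QuotientGroup.mk'_surjective _)
          (hab q hqp)
      · intro u hu
        have hQp := Cfsg.Agent.Helper9.pCore_isPGroup (G := G ⧸ (upperPSeries p G 1).1) p
        have hsupp : IsPGroup p ↥(((S.mapSurjective
            (QuotientGroup.mk'_surjective (upperPSeries p G 1).1) :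
              Sylow p (G ⧸ (upperPSeries p G 1).1)) :
              Subgroup (G ⧸ (upperPSeries p G 1).1)) ⊔
            Cfsg.pCore p (G ⧸ (upperPSeries p G 1).1)) :=
          IsPGroup.to_sup_of_normal_right
            (S.mapSurjective (QuotientGroup.mk'_surjective (upperPSeries p G 1).1)).isPGroup' hQp
        have heq := (S.mapSurjective
          (QuotientGroup.mk'_surjective (upperPSeries p G 1).1)).is_maximal' hsupp le_sup_left
        have hu' : u ∈ ((S.mapSurjective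
            (QuotientGroup.mk'_surjective (upperPSeries p G 1).1) :
              Sylow p (G ⧸ (upperPSeries p G 1).1)) :
              Subgroup (G ⧸ (upperPSeries p G 1).1)) ⊔
            Cfsg.pCore p (G ⧸ (upperPSeries p G 1).1) := Subgroup.mem_sup_right hu
        rw [heq] at hu'
        have hu'' : u ∈ (S : Subgroup G).map (QuotientGroup.mk' (upperPSeries p G 1).1) := hu'
        have hmem : u * QuotientGroup.mk' (upperPSeries p G 1).1 x ∈
            (S : Subgroup G).map (QuotientGroup.mk' (upperPSeries p G 1).1) :=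
          Subgroup.mul_mem _ hu'' (Subgroup.mem_map_of_mem _ hxS)
        obtain ⟨s, hs, hsx⟩ := hmem
        rw [← hsx, ← map_pow, hexp S s hs, map_one]

end Cfsg.Agent.Helper20.PLen
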