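import Mathlib

set_option autoImplicit false

namespace Cfsg.Agent.Helper20

section GenRank

variable {A : Type*} [AddCommGroup A]

/-- View an endomorphism as an additive homomorphism. -/
def endHom (g : AddMonoid.End A) : A →+ A := g

theorem endHom_apply (g : AddMonoid.End A) (x : A) : endHom g x = g x := rfl

theorem end_sub_one_pow_apply (p : ℕ) (hp : p.Prime) (a : AddMonoid.End A) (ha : a ^ p = 1)
    (x : A) (hx : p • x = 0) : ((a - 1) ^ p) x = 0 := by
  obtain ⟨r, hr⟩ := Commute.exists_add_pow_prime_eq hp (Commute.one_right (a - 1))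
  rw [sub_add_cancel, ha, one_pow] at hr
  have h3 : (a - 1) ^ p + (p : AddMonoid.End A) * (a - 1) * 1 * r = 0 := by
    apply add_right_cancel (b := (1 : AddMonoid.End A))
    rw [zero_add, add_right_comm]
    exact hr.symm
  have h4 : (a - 1) ^ p = -((p : AddMonoid.End A) * ((a - 1) * (1 * r))) := by
    rw [← mul_assoc, ← mul_assoc]
    exact eq_neg_of_add_eq_zero_left h3
  rw [h4, ← nsmul_eq_mul]
  show -(p • (((a - 1) * (1 * r)) x)) = 0
  rw [← map_nsmul, hx, map_zero, neg_zero]

theorem card_ker_pow_le (p : ℕ) [Finite A] (N : AddMonoid.End A) (k : ℕ) :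
    Nat.card ↥((endHom (N ^ k)).ker ⊓ (nsmulAddMonoidHom p : A →+ A).ker) ≤
      Nat.card ↥((endHom N).ker ⊓ (nsmulAddMonoidHom p : A →+ A).ker) ^ k := by
  induction k with
  | zero =>
    have h0 : (endHom (N ^ 0)).ker ⊓ (nsmulAddMonoidHom p : A →+ A).ker = ⊥ := by
      rw [eq_bot_iff]
      intro x hx
      have h1 : (N ^ 0) x = 0 := hx.1
      rw [pow_zero] at h1
      exact h1
    rw [h0, pow_zero, AddSubgroup.card_bot]
  | succ k ih =>
    let g : ↥((endHom (N ^ (k + 1))).ker ⊓ (nsmulAddMonoidHom p : A →+ A).ker) →+ A :=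
      (endHom (N ^ k)).comp (AddSubgroup.subtype _)
    have hrange : g.range ≤ (endHom N).ker ⊓ (nsmulAddMonoidHom p : A →+ A).ker := by
      rintro _ ⟨⟨x, hx⟩, rfl⟩
      refine ⟨?_, ?_⟩
      · show N ((N ^ k) x) = 0
        have h1 : (N ^ (k + 1)) x = 0 := hx.1
        rw [pow_succ'] at h1
        exact h1
      · show p • ((N ^ k) x) = 0
        have h2 : p • x = 0 := hx.2
        rw [← map_nsmul, h2, map_zero]
    have hmem : ∀ y : g.ker,
        ((y : ↥((endHom (N ^ (k + 1))).ker ⊓ (nsmulAddMonoidHom p : A →+ A).ker)) : A) ∈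
          (endHom (N ^ k)).ker ⊓ (nsmulAddMonoidHom p : A →+ A).ker := by
      intro y
      exact ⟨y.2, y.1.2.2⟩
    have hker : Nat.card g.ker ≤
        Nat.card ↥((endHom (N ^ k)).ker ⊓ (nsmulAddMonoidHom p : A →+ A).ker) := by
      apply Nat.card_le_card_of_injective (fun y : g.ker => (⟨_, hmem y⟩ :
        ↥((endHom (N ^ k)).ker ⊓ (nsmulAddMonoidHom p : A →+ A).ker)))
      intro y z hyz
      apply Subtype.ext
      apply Subtype.ext
      have h := Subtype.ext_iff.1 hyz
      exact h
    have h1 := AddSubgroup.card_mul_index g.ker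
    rw [AddSubgroup.index_ker] at h1
    calc Nat.card ↥((endHom (N ^ (k + 1))).ker ⊓ (nsmulAddMonoidHom p : A →+ A).ker)
        = Nat.card g.ker * Nat.card g.range := h1.symm
      _ ≤ Nat.card ↥((endHom (N ^ k)).ker ⊓ (nsmulAddMonoidHom p : A →+ A).ker) *
            Nat.card ↥((endHom N).ker ⊓ (nsmulAddMonoidHom p : A →+ A).ker) :=
          Nat.mul_le_mul hker (AddSubgroup.card_le_of_le hrange)
      _ ≤ Nat.card ↥((endHom N).ker ⊓ (nsmulAddMonoidHom p : A →+ A).ker) ^ k *
            Nat.card ↥((endHom N).ker ⊓ (nsmulAddMonoidHom p : A →+ A).ker) :=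
          Nat.mul_le_mul_right _ ih
      _ = Nat.card ↥((endHom N).ker ⊓ (nsmulAddMonoidHom p : A →+ A).ker) ^ (k + 1) :=
          (pow_succ _ _).symm

theorem index_range_eq_card_ker [Finite A] (f : A →+ A) : f.range.index = Nat.card f.ker := by
  have h1 := AddSubgroup.card_mul_index f.ker
  have h2 := AddSubgroup.card_mul_index f.range
  rw [AddSubgroup.index_ker] at h1
  have hpos : 0 < Nat.card f.range := Nat.card_pos
  have : Nat.card f.range * f.range.index = Nat.card f.range * Nat.card f.ker := by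
    rw [h2, mul_comm, h1]
  exact Nat.eq_of_mul_eq_mul_left hpos this

theorem exists_gens_of_index_le [Finite A] (p : ℕ) (hp : p.Prime) (e : ℕ)
    (hcard : Nat.card A = p ^ e) :
    ∀ (d : ℕ) (K : AddSubgroup A), K.index ≤ p ^ d →
      ∃ S : Finset A, S.card ≤ d ∧ K ⊔ AddSubgroup.closure (S : Set A) = ⊤ := by
  classical
  intro d
  induction d with
  | zero =>
    intro K hK
    refine ⟨∅, le_rfl, ?_⟩
    have h1 : K.index = 1 := by
      have : K.index ≠ 0 := AddSubgroup.index_ne_zero_of_finite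
      rw [pow_zero] at hK
      omega
    rw [AddSubgroup.index_eq_one] at h1
    rw [h1, top_sup_eq]
  | succ d ih =>
    intro K hK
    by_cases hKtop : K = ⊤
    · exact ⟨∅, Nat.zero_le _, by rw [hKtop, top_sup_eq]⟩
    · obtain ⟨x, hx⟩ : ∃ x, x ∉ K := by
        by_contra h
        exact hKtop (eq_top_iff.2 fun y _ => Classical.by_contradiction fun hy => h ⟨y, hy⟩)
      have hle : K ≤ K ⊔ AddSubgroup.closure {x} := le_sup_left
      have hxK' : x ∈ K ⊔ AddSubgroup.closure {x} :=
        (le_sup_right : AddSubgroup.closure {x} ≤ K ⊔ AddSubgroup.closure {x})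
          (AddSubgroup.subset_closure rfl)
      have hrel : K.relIndex (K ⊔ AddSubgroup.closure {x}) * (K ⊔ AddSubgroup.closure {x}).index
          = K.index := AddSubgroup.relIndex_mul_index hle
      have hrel1 : K.relIndex (K ⊔ AddSubgroup.closure {x}) ≠ 1 := by
        intro h
        rw [AddSubgroup.relIndex_eq_one] at h
        exact hx (h hxK')
      have hdvd : K.relIndex (K ⊔ AddSubgroup.closure {x}) ∣ p ^ e := by
        rw [← hcard]
        exact (Dvd.intro _ hrel).trans (AddSubgroup.index_dvd_card K)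
      obtain ⟨j, -, hj⟩ := (Nat.dvd_prime_pow hp).1 hdvd
      have hj0 : j ≠ 0 := by
        intro h
        rw [h, pow_zero] at hj
        exact hrel1 hj
      have hple : p ≤ K.relIndex (K ⊔ AddSubgroup.closure {x}) := by
        rw [hj]
        calc p = p ^ 1 := (pow_one p).symm
          _ ≤ p ^ j := Nat.pow_le_pow_right hp.pos (Nat.one_le_iff_ne_zero.2 hj0)
      have hK'idx : (K ⊔ AddSubgroup.closure {x}).index ≤ p ^ d := by
        have h1 : p * (K ⊔ AddSubgroup.closure {x}).index ≤ p * p ^ d := by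
          calc p * (K ⊔ AddSubgroup.closure {x}).index
              ≤ K.relIndex (K ⊔ AddSubgroup.closure {x}) * (K ⊔ AddSubgroup.closure {x}).index :=
                Nat.mul_le_mul_right _ hple
            _ = K.index := hrel
            _ ≤ p ^ (d + 1) := hK
            _ = p * p ^ d := pow_succ' p d
        exact Nat.le_of_mul_le_mul_left h1 hp.pos
      obtain ⟨S', hS'card, hS'⟩ := ih (K ⊔ AddSubgroup.closure {x}) hK'idx
      refine ⟨insert x S', (Finset.card_insert_le x S').trans (Nat.succ_le_succ hS'card), ?_⟩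
      rw [Finset.coe_insert, Set.insert_eq, AddSubgroup.closure_union, ← sup_assoc]
      exact hS'

theorem eq_top_of_range_nsmul_sup [Finite A] (p e : ℕ) (hcard : Nat.card A = p ^ e)
    (H : AddSubgroup A) (hH : (nsmulAddMonoidHom p : A →+ A).range ⊔ H = ⊤) : H = ⊤ := by
  have key : ∀ k : ℕ, ∀ x : A, ∃ z ∈ H, ∃ u : A, x = p ^ k • u + z := by
    intro k
    induction k with
    | zero =>
      intro x
      exact ⟨0, H.zero_mem, x, by simp⟩
    | succ k ih =>
      intro x
      obtain ⟨z, hz, u, hu⟩ := ih x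
      have hu' : u ∈ (nsmulAddMonoidHom p : A →+ A).range ⊔ H := by
        rw [hH]
        exact AddSubgroup.mem_top u
      obtain ⟨y, ⟨u', hu'y⟩, z', hz', hyz⟩ := AddSubgroup.mem_sup.1 hu'
      refine ⟨p ^ k • z' + z, H.add_mem (H.nsmul_mem hz' _) hz, u', ?_⟩
      rw [hu, ← hyz, ← hu'y, nsmulAddMonoidHom_apply, nsmul_add, ← mul_nsmul', ← pow_succ,
        add_assoc]
  rw [eq_top_iff]
  intro x _
  obtain ⟨z, hz, u, hu⟩ := key e x
  have h0 : p ^ e • u = 0 := by
    rw [← hcard]
    exact card_nsmul_eq_zero'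
  rw [hu, h0, zero_add]
  exact hz

/-- An abelian group of order `p ^ e` with an endomorphism `a`, `a ^ p = 1`, having at most
`p ^ n` fixed points is generated by `p * n` elements. -/
theorem add_gen_bound [Finite A] (p : ℕ) [Fact p.Prime] (e : ℕ) (hcard : Nat.card A = p ^ e)
    (a : AddMonoid.End A) (ha : a ^ p = 1) (n : ℕ)
    (hfix : Nat.card {x : A // a x = x} ≤ p ^ n) :
    ∃ S : Finset A, S.card ≤ p * n ∧ AddSubgroup.closure (S : Set A) = ⊤ := by
  have hp := (Fact.out : p.Prime)
  have hfixmem : ∀ y : ↥((endHom (a - 1)).ker ⊓ (nsmulAddMonoidHom p : A →+ A).ker),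
      a (y : A) = (y : A) := by
    intro y
    have h1 : (a - 1) (y : A) = 0 := y.2.1
    have h2 : (a - 1) (y : A) = a (y : A) - (y : A) := rfl
    rw [h2, sub_eq_zero] at h1
    exact h1
  have hW1 : Nat.card ↥((endHom (a - 1)).ker ⊓ (nsmulAddMonoidHom p : A →+ A).ker) ≤ p ^ n := by
    refine le_trans ?_ hfix
    apply Nat.card_le_card_of_injective
      (fun y : ↥((endHom (a - 1)).ker ⊓ (nsmulAddMonoidHom p : A →+ A).ker) =>
        (⟨(y : A), hfixmem y⟩ : {x : A // a x = x}))
    intro y z hyz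
    apply Subtype.ext
    have h := Subtype.ext_iff.1 hyz
    exact h
  have hT : (nsmulAddMonoidHom p : A →+ A).ker ≤
      (endHom ((a - 1) ^ p)).ker ⊓ (nsmulAddMonoidHom p : A →+ A).ker := by
    intro x hx
    refine ⟨?_, hx⟩
    exact end_sub_one_pow_apply p hp a ha x hx
  have hcardT : Nat.card (nsmulAddMonoidHom p : A →+ A).ker ≤ p ^ (p * n) := by
    calc Nat.card (nsmulAddMonoidHom p : A →+ A).ker
        ≤ Nat.card ↥((endHom ((a - 1) ^ p)).ker ⊓ (nsmulAddMonoidHom p : A →+ A).ker) :=
          AddSubgroup.card_le_of_le hT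
      _ ≤ Nat.card ↥((endHom (a - 1)).ker ⊓ (nsmulAddMonoidHom p : A →+ A).ker) ^ p :=
          card_ker_pow_le p (a - 1) p
      _ ≤ (p ^ n) ^ p := Nat.pow_le_pow_left hW1 p
      _ = p ^ (p * n) := by rw [← pow_mul, mul_comm]
  have hidx : (nsmulAddMonoidHom p : A →+ A).range.index ≤ p ^ (p * n) := by
    rw [index_range_eq_card_ker]
    exact hcardT
  obtain ⟨S, hS, hsup⟩ := exists_gens_of_index_le p hp e hcard (p * n) _ hidx
  exact ⟨S, hS, eq_top_of_range_nsmul_sup p e hcard _ hsup⟩

end GenRank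

/-- The endomorphism of `Additive V` induced by an automorphism of `V`. -/
def mulAutToEnd (V : Type*) [CommGroup V] : MulAut V →* AddMonoid.End (Additive V) where
  toFun α := MonoidHom.toAdditive α.toMonoidHom
  map_one' := rfl
  map_mul' := fun _ _ => rfl

theorem mulAutToEnd_apply (V : Type*) [CommGroup V] (α : MulAut V) (x : Additive V) :
    mulAutToEnd V α x = Additive.ofMul (α (Additive.toMul x)) := rfl

end Cfsg.Agent.Helper20
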