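import Mathlib
import Cfsg.Prelude.Def_Transfer
import Cfsg.Agent.Helper20.GenRank

set_option autoImplicit false

namespace Cfsg.Agent.Helper20

theorem card_le_of_pow_eq_self (S : Type*) [CommRing S] [IsDomain S] [Finite S]
    (n : ℕ) (hn : 1 < n) (h : ∀ x : S, x ^ n = x) : Nat.card S ≤ n := by
  classical
  haveI : Fintype S := Fintype.ofFinite S
  have hdeg : (Polynomial.X ^ n - Polynomial.X : Polynomial S).natDegree = n := by
    have h1 : (Polynomial.X : Polynomial S).natDegree <
        (Polynomial.X ^ n : Polynomial S).natDegree := by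
      rw [Polynomial.natDegree_X_pow, Polynomial.natDegree_X]
      exact hn
    rw [Polynomial.natDegree_sub_eq_left_of_natDegree_lt h1, Polynomial.natDegree_X_pow]
  have hf0 : (Polynomial.X ^ n - Polynomial.X : Polynomial S) ≠ 0 := by
    apply Polynomial.ne_zero_of_natDegree_gt (n := 0)
    rw [hdeg]
    omega
  have hroots : (Finset.univ : Finset S).val ⊆
      (Polynomial.X ^ n - Polynomial.X : Polynomial S).roots := by
    intro r _
    rw [Polynomial.mem_roots hf0, Polynomial.IsRoot.def, Polynomial.eval_sub, Polynomial.eval_pow,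
      Polynomial.eval_X, h r, sub_self]
  have h1 := Polynomial.card_le_degree_of_subset_roots hroots
  rw [hdeg, Finset.card_univ] at h1
  rw [Nat.card_eq_fintype_card]
  exact h1

section Irr

variable {W : Type*} [AddCommGroup W]

theorem natCast_end_eq_zero (q : ℕ) (hq : ∀ w : W, q • w = 0) : (q : AddMonoid.End W) = 0 := by
  rw [← nsmul_one]
  refine AddMonoidHom.ext fun w => ?_
  show q • ((1 : AddMonoid.End W) w) = 0
  exact hq w

open scoped IsMulCommutative in
/-- An elementary abelian `q`-group on which an endomorphism `T` with `T ^ p = 1`, `T ≠ 1`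
acts irreducibly has order `q ^ e`, `e` the order of `q` modulo `p`. -/
theorem card_of_irreducible (p q : ℕ) [Fact p.Prime] [Fact q.Prime] [Finite W]
    (hq : ∀ w : W, q • w = 0) (T : AddMonoid.End W) (hTp : T ^ p = 1) (hT1 : T ≠ 1)
    (hirr : ∀ B : AddSubgroup W, (∀ w ∈ B, T w ∈ B) → B = ⊥ ∨ B = ⊤) :
    Nat.card W = q ^ orderOf (q : ZMod p) := by
  classical
  have hp := (Fact.out : p.Prime)
  have hqp := (Fact.out : q.Prime)
  have hq0 : (q : AddMonoid.End W) = 0 := natCast_end_eq_zero q hq
  -- fixed points are trivial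
  have hfix : ∀ w : W, T w = w → w = 0 := by
    have hF : ∀ w ∈ (endHom (T - 1)).ker, T w ∈ (endHom (T - 1)).ker := by
      intro w hw
      have h2 : T w - w = 0 := hw
      have h3 : T w = w := sub_eq_zero.1 h2
      show T (T w) - T w = 0
      rw [h3, h3, sub_self]
    rcases hirr _ hF with h | h
    · intro w hw
      have h1 : w ∈ (endHom (T - 1)).ker := by
        show T w - w = 0
        rw [hw, sub_self]
      rw [h] at h1
      exact AddSubgroup.mem_bot.1 h1
    · exfalso
      apply hT1
      refine AddMonoidHom.ext fun w => ?_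
      have h1 : w ∈ (endHom (T - 1)).ker := by rw [h]; exact AddSubgroup.mem_top w
      have h2 : T w - w = 0 := h1
      exact sub_eq_zero.1 h2
  obtain ⟨v, hv⟩ : ∃ v : W, v ≠ 0 := by
    by_contra h
    apply hT1
    refine AddMonoidHom.ext fun w => ?_
    have hw : w = 0 := Classical.by_contradiction fun hw => h ⟨w, hw⟩
    rw [hw]
    exact (map_zero T).trans (map_zero (1 : AddMonoid.End W)).symm
  haveI : Nontrivial W := ⟨⟨v, 0, hv⟩⟩
  -- the order of `W` is a power of `q`
  obtain ⟨d, hd⟩ : ∃ d, Nat.card W = q ^ d := by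
    have hPG : IsPGroup q (Multiplicative W) := by
      intro g
      refine ⟨1, ?_⟩
      rw [pow_one]
      exact congrArg Multiplicative.ofAdd (hq (Multiplicative.toAdd g))
    obtain ⟨d, hd⟩ := (IsPGroup.iff_card).1 hPG
    exact ⟨d, (Nat.card_congr (Multiplicative.ofAdd : W ≃ Multiplicative W)).trans hd⟩
  have hcard1 : 1 < Nat.card W := Finite.one_lt_card
  have hd0 : d ≠ 0 := by
    intro h
    rw [hd, h, pow_zero] at hcard1
    exact lt_irrefl _ hcard1
  -- `|W| ≡ 1 mod p`
  haveI : Fintype W := Fintype.ofFinite W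
  have hmod : Nat.card W ≡ 1 [MOD p] := by
    let f : Function.End W := fun w => T w
    have hf : f ^ p ^ 1 = 1 := by
      rw [pow_one]
      have h1 : (⇑(T ^ p) : W → W) = (⇑T)^[p] := AddMonoid.End.coe_pow W T p
      have h2 : f ^ p = (⇑T)^[p] := rfl
      rw [h2, ← h1, hTp]
      rfl
    have h3 := Equiv.Perm.card_fixedPoints_modEq (p := p) hf
    have h4 : Fintype.card (Function.fixedPoints f) = 1 := by
      rw [Fintype.card_eq_one_iff]
      refine ⟨⟨0, map_zero T⟩, ?_⟩
      intro y
      apply Subtype.ext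
      exact hfix y.1 y.2
    rw [h4, ← Nat.card_eq_fintype_card] at h3
    exact h3
  -- the order `e` of `q` mod `p` divides `d`
  have hed : orderOf (q : ZMod p) ∣ d := by
    apply orderOf_dvd_of_pow_eq_one
    have h1 : ((q ^ d : ℕ) : ZMod p) = ((1 : ℕ) : ZMod p) := by
      rw [ZMod.natCast_eq_natCast_iff, ← hd]
      exact hmod
    rw [Nat.cast_pow, Nat.cast_one] at h1
    exact h1
  have he0 : orderOf (q : ZMod p) ≠ 0 := by
    intro h
    rw [h, zero_dvd_iff] at hed
    exact hd0 hed
  have hele : orderOf (q : ZMod p) ≤ d := Nat.le_of_dvd (Nat.pos_of_ne_zero hd0) hed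
  obtain ⟨e, he⟩ : ∃ e, e = orderOf (q : ZMod p) := ⟨_, rfl⟩
  rw [← he] at hed he0 hele ⊢
  have hqe1 : 1 < q ^ e := Nat.one_lt_pow he0 hqp.one_lt
  -- `T ^ (q ^ e) = T`
  have hTq : T ^ (q ^ e) = T := by
    have h1 : ((q ^ e : ℕ) : ZMod p) = ((1 : ℕ) : ZMod p) := by
      rw [Nat.cast_pow, Nat.cast_one, he]
      exact pow_orderOf_eq_one _
    rw [ZMod.natCast_eq_natCast_iff] at h1
    have h2 : p ∣ q ^ e - 1 := (Nat.modEq_iff_dvd' hqe1.le).1 h1.symm
    obtain ⟨t, ht⟩ := h2
    have h3 : q ^ e = p * t + 1 := by omega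
    rw [h3, pow_succ, pow_mul, hTp, one_pow, one_mul]
  -- the subring generated by `T`
  obtain ⟨R, hRdef⟩ : ∃ R : Subring (AddMonoid.End W), R = Subring.closure {T} := ⟨_, rfl⟩
  have hTR : T ∈ R := by rw [hRdef]; exact Subring.subset_closure rfl
  haveI hRc : IsMulCommutative ↥R := by
    rw [hRdef]
    apply Subring.isMulCommutative_closure
    intro x hx y hy
    rw [Set.mem_singleton_iff] at hx hy
    rw [hx, hy]
  have hcomm : ∀ r ∈ R, ∀ s ∈ R, r * s = s * r := by
    intro r hr s hs
    have h1 := hRc.is_comm.comm ⟨r, hr⟩ ⟨s, hs⟩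
    have h2 := congrArg Subtype.val h1
    exact h2
  have hinj : ∀ r ∈ R, r v = 0 → r = 0 := by
    intro r hr hrv
    have hinv : ∀ w ∈ (endHom r).ker, T w ∈ (endHom r).ker := by
      intro w hw
      have h1 : r w = 0 := hw
      show r (T w) = 0
      have h := hcomm r hr T hTR
      have h' : r (T w) = T (r w) := congrArg (fun g : AddMonoid.End W => g w) h
      rw [h', h1, map_zero]
    rcases hirr _ hinv with h | h
    · exfalso
      have h1 : v ∈ (endHom r).ker := hrv
      rw [h] at h1
      exact hv (AddSubgroup.mem_bot.1 h1)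
    · refine AddMonoidHom.ext fun w => ?_
      have h1 : w ∈ (endHom r).ker := by rw [h]; exact AddSubgroup.mem_top w
      exact h1
  have hsurj : ∀ s ∈ R, s ≠ 0 → ∀ w : W, ∃ u, s u = w := by
    intro s hs hs0 w
    have hinv : ∀ w ∈ (endHom s).range, T w ∈ (endHom s).range := by
      rintro _ ⟨u, rfl⟩
      refine ⟨T u, ?_⟩
      show s (T u) = T (s u)
      have h := hcomm s hs T hTR
      exact congrArg (fun g : AddMonoid.End W => g u) h
    rcases hirr _ hinv with h | h
    · exfalso
      apply hs0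
      refine AddMonoidHom.ext fun u => ?_
      have h1 : s u ∈ (endHom s).range := ⟨u, rfl⟩
      rw [h] at h1
      exact AddSubgroup.mem_bot.1 h1
    · have h1 : w ∈ (endHom s).range := by rw [h]; exact AddSubgroup.mem_top w
      exact h1
  -- Frobenius
  have hfrob : ∀ r ∈ R, r ^ (q ^ e) = r := by
    intro r hr
    rw [hRdef] at hr
    induction hr using Subring.closure_induction with
    | mem x hx =>
      rw [Set.mem_singleton_iff] at hx
      rw [hx]
      exact hTq
    | zero => exact zero_pow (by omega)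
    | one => exact one_pow _
    | add x y hx hy ihx ihy =>
      have hc : Commute x y := hcomm x (by rw [hRdef]; exact hx) y (by rw [hRdef]; exact hy)
      obtain ⟨c, hc'⟩ := hc.exists_add_pow_prime_pow_eq hqp e
      rw [hc', ihx, ihy, hq0, zero_mul, zero_mul, zero_mul, add_zero]
    | neg x hx ih =>
      have hneg : (-1 : AddMonoid.End W) ^ (q ^ e) = -1 := by
        rcases hqp.eq_two_or_odd' with h2 | hodd
        · have h2' : ((2 : ℕ) : AddMonoid.End W) = 0 := by rw [← h2]; exact hq0
          have h3 : (1 : AddMonoid.End W) + 1 = 0 := by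
            rw [one_add_one_eq_two]
            exact_mod_cast h2'
          have h4 : (-1 : AddMonoid.End W) = 1 := (eq_neg_of_add_eq_zero_left h3).symm
          rw [h4, one_pow]
        · exact (hodd.pow).neg_one_pow
      rw [neg_pow, ih, hneg, neg_one_mul]
    | mul x y hx hy ihx ihy =>
      have hc : Commute x y := hcomm x (by rw [hRdef]; exact hx) y (by rw [hRdef]; exact hy)
      rw [hc.mul_pow, ihx, ihy]
  -- domain structure
  haveI : Nontrivial ↥R := by
    refine ⟨⟨0, 1, ?_⟩⟩
    intro h
    apply hv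
    have h1 := congrArg (fun r : ↥R => (r : AddMonoid.End W) v) h
    exact h1.symm
  haveI : NoZeroDivisors ↥R := by
    refine ⟨?_⟩
    intro r s hrs
    by_cases hs : s = 0
    · exact Or.inr hs
    · left
      have hs' : (s : AddMonoid.End W) ≠ 0 := fun h => hs (Subtype.ext h)
      apply Subtype.ext
      refine AddMonoidHom.ext fun w => ?_
      obtain ⟨u, hu⟩ := hsurj s.1 s.2 hs' w
      have h1 := congrArg (fun g : ↥R => (g : AddMonoid.End W) u) hrs
      rw [← hu]
      exact h1
  haveI : IsDomain ↥R := NoZeroDivisors.to_isDomain _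
  haveI : Finite ↥R := by
    apply Finite.of_injective (fun r : ↥R => (r : AddMonoid.End W) v)
    intro r s hrs
    have h1 : ((r : AddMonoid.End W) - (s : AddMonoid.End W)) v = 0 := by
      show (r : AddMonoid.End W) v - (s : AddMonoid.End W) v = 0
      rw [sub_eq_zero]
      exact hrs
    have h2 := hinj _ (R.sub_mem r.2 s.2) h1
    exact Subtype.ext (sub_eq_zero.1 h2)
  have hRcard : Nat.card ↥R ≤ q ^ e := by
    apply card_le_of_pow_eq_self ↥R (q ^ e) hqe1
    intro x
    apply Subtype.ext
    rw [SubmonoidClass.coe_pow]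
    exact hfrob x.1 x.2
  -- the orbit map is surjective
  have hWR : Nat.card W ≤ Nat.card ↥R := by
    apply Nat.card_le_card_of_surjective (fun r : ↥R => (r : AddMonoid.End W) v)
    let ev : AddMonoid.End W →+ W :=
      { toFun := fun g => g v, map_zero' := rfl, map_add' := fun _ _ => rfl }
    have hB : ∀ w ∈ (R.toAddSubgroup.map ev), T w ∈ (R.toAddSubgroup.map ev) := by
      rintro _ ⟨r, hr, rfl⟩
      exact ⟨T * r, R.mul_mem hTR hr, rfl⟩
    rcases hirr _ hB with h | h
    · exfalso
      have h1 : v ∈ R.toAddSubgroup.map ev := ⟨1, R.one_mem, rfl⟩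
      rw [h] at h1
      exact hv (AddSubgroup.mem_bot.1 h1)
    · intro w
      have h1 : w ∈ R.toAddSubgroup.map ev := by rw [h]; exact AddSubgroup.mem_top w
      obtain ⟨r, hr, hrw⟩ := h1
      exact ⟨⟨r, hr⟩, hrw⟩
  -- conclusion
  have h1 : q ^ d ≤ q ^ e := by rw [← hd]; exact hWR.trans hRcard
  have h2 : d ≤ e := (Nat.pow_le_pow_iff_right hqp.one_lt).1 h1
  rw [hd, le_antisymm h2 hele]

end Irr

/-- The subgroup of `V` corresponding to an additive subgroup of `Additive V`. -/
def subgroupOfAdd {V : Type*} [Group V] (B : AddSubgroup (Additive V)) : Subgroup V where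
  carrier := {v | Additive.ofMul v ∈ B}
  one_mem' := B.zero_mem
  mul_mem' := fun ha hb => B.add_mem ha hb
  inv_mem' := fun ha => B.neg_mem ha

/-- Multiplicative form of `card_of_irreducible`. -/
theorem card_of_irreducible_mul {V : Type*} [CommGroup V] [Finite V] (p q : ℕ) [Fact p.Prime]
    [Fact q.Prime] (hq : ∀ v : V, v ^ q = 1) (α : MulAut V) (hαp : α ^ p = 1) (hα1 : α ≠ 1)
    (hirr : ∀ B : Subgroup V, (∀ v ∈ B, α v ∈ B) → B = ⊥ ∨ B = ⊤) :
    Nat.card V = q ^ orderOf (q : ZMod p) := by
  have hq' : ∀ w : Additive V, q • w = 0 :=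
    fun w => congrArg Additive.ofMul (hq (Additive.toMul w))
  have hTp : (mulAutToEnd V α) ^ p = 1 := by rw [← map_pow, hαp, map_one]
  have hT1 : mulAutToEnd V α ≠ 1 := by
    intro h1
    apply hα1
    refine MulEquiv.ext fun v => ?_
    have h2 := congrArg (fun g : AddMonoid.End (Additive V) =>
      Additive.toMul (g (Additive.ofMul v))) h1
    exact h2
  have hirr' : ∀ B : AddSubgroup (Additive V), (∀ w ∈ B, mulAutToEnd V α w ∈ B) →
      B = ⊥ ∨ B = ⊤ := by
    intro B hB
    rcases hirr (subgroupOfAdd B) (fun v hv => hB (Additive.ofMul v) hv) with h1 | h1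
    · left
      rw [eq_bot_iff]
      intro w hw
      have h2 : Additive.toMul w ∈ subgroupOfAdd B := hw
      rw [h1] at h2
      have h3 : Additive.toMul w = 1 := Subgroup.mem_bot.1 h2
      exact AddSubgroup.mem_bot.2 (congrArg Additive.ofMul h3)
    · right
      rw [eq_top_iff]
      intro w _
      have h2 : Additive.toMul w ∈ subgroupOfAdd B := by rw [h1]; exact Subgroup.mem_top _
      exact h2
  have h := card_of_irreducible (W := Additive V) p q hq' (mulAutToEnd V α) hTp hT1 hirr'
  rw [← h]
  exact Nat.card_congr Additive.ofMul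

end Cfsg.Agent.Helper20
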