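import Mathlib
import Cfsg.Agent.Helper20.SylowAux

set_option autoImplicit false

namespace Cfsg.Agent.Helper20

theorem mem_sup_of_commute {G : Type*} [Group G] (A B : Subgroup G)
    (hcomm : ∀ a ∈ A, ∀ b ∈ B, a * b = b * a) (x : G) (hx : x ∈ A ⊔ B) :
    ∃ a ∈ A, ∃ b ∈ B, x = a * b := by
  rw [Subgroup.sup_eq_closure] at hx
  refine Subgroup.closure_induction ?_ ?_ ?_ ?_ hx
  · rintro y (hy | hy)
    · exact ⟨y, hy, 1, B.one_mem, by simp⟩
    · exact ⟨1, A.one_mem, y, hy, by simp⟩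
  · exact ⟨1, A.one_mem, 1, B.one_mem, by simp⟩
  · rintro _ _ _ _ ⟨a₁, ha₁, b₁, hb₁, rfl⟩ ⟨a₂, ha₂, b₂, hb₂, rfl⟩
    refine ⟨a₁ * a₂, mul_mem ha₁ ha₂, b₁ * b₂, mul_mem hb₁ hb₂, ?_⟩
    have := hcomm a₂ ha₂ b₁ hb₁
    calc a₁ * b₁ * (a₂ * b₂) = a₁ * (b₁ * a₂) * b₂ := by group
      _ = a₁ * (a₂ * b₁) * b₂ := by rw [this]
      _ = a₁ * a₂ * (b₁ * b₂) := by group
  · rintro _ _ ⟨a, ha, b, hb, rfl⟩
    refine ⟨a⁻¹, inv_mem ha, b⁻¹, inv_mem hb, ?_⟩
    have := hcomm a⁻¹ (inv_mem ha) b⁻¹ (inv_mem hb)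
    rw [mul_inv_rev, this]

theorem le_normalizer_sup {G : Type*} [Group G] (A X Y : Subgroup G)
    (hX : A ≤ Subgroup.normalizer (X : Set G)) (hY : A ≤ Subgroup.normalizer (Y : Set G)) :
    A ≤ Subgroup.normalizer ((X ⊔ Y : Subgroup G) : Set G) := by
  intro a ha
  apply mem_normalizer_of_map_conj_eq
  rw [Subgroup.map_sup, map_conj_eq_of_mem_normalizer X a (hX ha),
    map_conj_eq_of_mem_normalizer Y a (hY ha)]

theorem le_normalizer_inf {G : Type*} [Group G] (A X Y : Subgroup G)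
    (hX : A ≤ Subgroup.normalizer (X : Set G)) (hY : A ≤ Subgroup.normalizer (Y : Set G)) :
    A ≤ Subgroup.normalizer ((X ⊓ Y : Subgroup G) : Set G) := by
  intro a ha
  have h1 := hX ha
  have h2 := hY ha
  rw [Subgroup.mem_normalizer_iff] at h1 h2 ⊢
  intro y
  rw [Subgroup.mem_inf, Subgroup.mem_inf, h1 y, h2 y]

theorem le_normalizer_of_normal {G : Type*} [Group G] (A X : Subgroup G) [hX : X.Normal] :
    A ≤ Subgroup.normalizer (X : Set G) := by
  rw [Subgroup.normalizer_eq_top_iff.mpr hX]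
  exact le_top

theorem le_normalizer_map_conj {G : Type*} [Group G] (A S : Subgroup G) (h : G)
    (hh : h ∈ Subgroup.normalizer (A : Set G)) (hS : A ≤ Subgroup.normalizer (S : Set G)) :
    A ≤ Subgroup.normalizer ((S.map (MulAut.conj h).toMonoidHom : Subgroup G) : Set G) := by
  intro a ha
  apply mem_normalizer_of_map_conj_eq
  have ha' : h⁻¹ * a * h ∈ A := by
    have := (Subgroup.mem_normalizer_iff''.mp hh a).mp ha
    exact this
  have e : a * h = h * (h⁻¹ * a * h) := by group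
  rw [map_conj_mul, e, ← map_conj_mul, map_conj_eq_of_mem_normalizer S _ (hS ha')]

theorem normalizer_map_conj {G : Type*} [Group G] (S : Subgroup G) (g : G) :
    Subgroup.normalizer ((S.map (MulAut.conj g).toMonoidHom : Subgroup G) : Set G)
      = (Subgroup.normalizer (S : Set G)).map (MulAut.conj g).toMonoidHom := by
  ext y
  rw [mem_normalizer_iff_map_conj, mem_map_conj, mem_normalizer_iff_map_conj, map_conj_mul]
  constructor
  · intro h
    have := congrArg (fun X => X.map (MulAut.conj g⁻¹).toMonoidHom) h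
    simp only [map_conj_mul] at this
    rw [inv_mul_cancel, map_conj_one] at this
    rw [← this]
    congr 2
    group
  · intro h
    have := congrArg (fun X => X.map (MulAut.conj g).toMonoidHom) h
    simp only [map_conj_mul] at this
    rw [← this]
    congr 2
    group

theorem relIndex_inf_eq_relIndex_sup {G : Type*} [Group G] [Finite G] (H N : Subgroup G)
    [N.Normal] : (H ⊓ N).relIndex N = H.relIndex (H ⊔ N) := by
  have h1 : Nat.card ↥(H ⊓ N) * (H ⊓ N).relIndex N = Nat.card N :=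
    card_mul_relIndex_of_le inf_le_right
  have h2 : Nat.card ↥(H ⊓ N) * (H ⊓ N).relIndex H = Nat.card H :=
    card_mul_relIndex_of_le inf_le_left
  have h3 : Nat.card N * N.relIndex (H ⊔ N) = Nat.card ↥(H ⊔ N) :=
    card_mul_relIndex_of_le le_sup_right
  have h4 : Nat.card H * H.relIndex (H ⊔ N) = Nat.card ↥(H ⊔ N) :=
    card_mul_relIndex_of_le le_sup_left
  have h5 : N.relIndex (H ⊔ N) = (H ⊓ N).relIndex H := by
    rw [Subgroup.relIndex_sup_right H N, inf_comm, Subgroup.inf_relIndex_right]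
  rw [h5] at h3
  have hpos : 0 < Nat.card ↥(H ⊓ N) * (H ⊓ N).relIndex H := by
    rw [h2]; exact Nat.card_pos
  have : (Nat.card ↥(H ⊓ N) * (H ⊓ N).relIndex H) * (H ⊓ N).relIndex N
      = (Nat.card ↥(H ⊓ N) * (H ⊓ N).relIndex H) * H.relIndex (H ⊔ N) := by
    calc (Nat.card ↥(H ⊓ N) * (H ⊓ N).relIndex H) * (H ⊓ N).relIndex N
        = (Nat.card ↥(H ⊓ N) * (H ⊓ N).relIndex N) * (H ⊓ N).relIndex H := by ring
      _ = Nat.card N * (H ⊓ N).relIndex H := by rw [h1]
      _ = Nat.card ↥(H ⊔ N) := h3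
      _ = Nat.card H * H.relIndex (H ⊔ N) := h4.symm
      _ = (Nat.card ↥(H ⊓ N) * (H ⊓ N).relIndex H) * H.relIndex (H ⊔ N) := by rw [h2]
  exact Nat.eq_of_mul_eq_mul_left hpos this

theorem sylow_inf_normal_not_dvd {G : Type*} [Group G] [Finite G] {r : ℕ} [Fact r.Prime]
    (R : Sylow r G) (T : Subgroup G) [T.Normal] : ¬ r ∣ ((R : Subgroup G) ⊓ T).relIndex T := by
  rw [relIndex_inf_eq_relIndex_sup]
  intro h
  exact R.not_dvd_index (h.trans (Subgroup.relIndex_dvd_index_of_le le_sup_left))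

theorem isPGroup_inf_left {G : Type*} [Group G] {r : ℕ} (R T : Subgroup G) (hR : IsPGroup r R) :
    IsPGroup r ↥(R ⊓ T) := hR.to_le inf_le_left

/-- Frattini argument for `R ⊓ T` with `R` a Sylow subgroup and `T` normal. -/
theorem frattini_inf {G : Type*} [Group G] [Finite G] {r : ℕ} [Fact r.Prime]
    (R : Sylow r G) (T : Subgroup G) [T.Normal] :
    Subgroup.normalizer (((R : Subgroup G) ⊓ T : Subgroup G) : Set G) ⊔ T = ⊤ := by
  have hP : IsPGroup r (((R : Subgroup G) ⊓ T).subgroupOf T) :=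
    (isPGroup_inf_left (R : Subgroup G) T R.isPGroup').comap_subtype
  have hidx : ¬ r ∣ (((R : Subgroup G) ⊓ T).subgroupOf T).index := sylow_inf_normal_not_dvd R T
  have key := Sylow.normalizer_sup_eq_top (hP.toSylow hidx)
  have e : ((hP.toSylow hidx : Sylow r T) : Subgroup T).map T.subtype = (R : Subgroup G) ⊓ T := by
    rw [IsPGroup.toSylow_coe, Subgroup.subgroupOf_map_subtype, inf_assoc, inf_idem]
  rw [e] at key
  exact key

theorem not_isPGroup_of_simple_nonabelian {T : Type*} [Group T] [Finite T] (hT : IsSimpleGroup T)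
    (hna : ¬ IsMulCommutative T) (r : ℕ) [Fact r.Prime] : ¬ IsPGroup r T := by
  intro hP
  have hnt : Nontrivial (Subgroup.center T) := hP.center_nontrivial
  have hc : Subgroup.center T = ⊤ := by
    rcases (Subgroup.center T).normal_of_characteristic.eq_bot_or_eq_top with h | h
    · exfalso
      rw [h] at hnt
      exact not_nontrivial _ hnt
    · exact h
  apply hna
  refine ⟨⟨fun a b => ?_⟩⟩
  have : b ∈ Subgroup.center T := by rw [hc]; trivial
  rw [Subgroup.mem_center_iff] at this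
  exact this a

theorem exists_coatom_ge {G : Type*} [Group G] [Finite G] {H : Subgroup G} (h : H ≠ ⊤) :
    ∃ M : Subgroup G, IsCoatom M ∧ H ≤ M := by
  rcases eq_top_or_exists_le_coatom H with h1 | h1
  · exact absurd h1 h
  · exact h1

theorem isCoatom_map_conj {G : Type*} [Group G] (M : Subgroup G) (g : G) (hM : IsCoatom M) :
    IsCoatom (M.map (MulAut.conj g).toMonoidHom) :=
  (OrderIso.isCoatom_iff (MulAut.conj g).mapSubgroup M).mpr hM

theorem index_map_conj {G : Type*} [Group G] (M : Subgroup G) (g : G) :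
    (M.map (MulAut.conj g).toMonoidHom).index = M.index :=
  Subgroup.index_map_equiv M (MulAut.conj g)

/-- A subgroup of `p'`-index contains a conjugate of every Sylow `p`-subgroup. -/
theorem exists_conj_le_of_not_dvd_index {G : Type*} [Group G] [Finite G] {r : ℕ} [Fact r.Prime]
    (R : Sylow r G) (M : Subgroup G) (h : ¬ r ∣ M.index) :
    ∃ g : G, (R : Subgroup G).map (MulAut.conj g).toMonoidHom ≤ M := by
  have h' : ¬ r ∣ Nat.card (G ⧸ M) := by rwa [← Subgroup.index_eq_card]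
  obtain ⟨x, hx⟩ := R.isPGroup'.nonempty_fixed_point_of_prime_not_dvd_card (G ⧸ M) h'
  obtain ⟨g, rfl⟩ := QuotientGroup.mk_surjective x
  refine ⟨g⁻¹, ?_⟩
  intro y hy
  rw [mem_map_conj, inv_inv] at hy
  have h1 := hx ⟨_, hy⟩
  have h2 : ((g * y * g⁻¹ * g : G) : G ⧸ M) = (g : G ⧸ M) := h1
  rw [QuotientGroup.eq] at h2
  have e : (g * y * g⁻¹ * g)⁻¹ * g = y⁻¹ := by group
  rw [e] at h2
  exact (inv_mem_iff).mp h2

theorem sylow_not_dvd_relIndex {G : Type*} [Group G] [Finite G] {r : ℕ} [Fact r.Prime]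
    (R : Sylow r G) (M : Subgroup G) (h : (R : Subgroup G) ≤ M) :
    ¬ r ∣ (R : Subgroup G).relIndex M := fun hd =>
  R.not_dvd_index (hd.trans (Subgroup.relIndex_dvd_index_of_le h))

end Cfsg.Agent.Helper20
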