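import Mathlib
import Cfsg.Agent.Helper20.Norm

set_option autoImplicit false

namespace Cfsg.Agent.Helper20

universe u

theorem mem_sup_of_le_normalizer {G : Type*} [Group G] (L M : Subgroup G)
    (hM : M ≤ Subgroup.normalizer (L : Set G)) (x : G) (hx : x ∈ L ⊔ M) :
    ∃ l ∈ L, ∃ m ∈ M, x = l * m := by
  rw [Subgroup.sup_eq_closure] at hx
  refine Subgroup.closure_induction ?_ ?_ ?_ ?_ hx
  · rintro y (hy | hy)
    · exact ⟨y, hy, 1, M.one_mem, by simp⟩
    · exact ⟨1, L.one_mem, y, hy, by simp⟩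
  · exact ⟨1, L.one_mem, 1, M.one_mem, by simp⟩
  · rintro _ _ _ _ ⟨l₁, hl₁, m₁, hm₁, rfl⟩ ⟨l₂, hl₂, m₂, hm₂, rfl⟩
    refine ⟨l₁ * (m₁ * l₂ * m₁⁻¹),
      mul_mem hl₁ ((Subgroup.mem_normalizer_iff.mp (hM hm₁) l₂).mp hl₂), m₁ * m₂,
      mul_mem hm₁ hm₂, by group⟩
  · rintro _ _ ⟨l, hl, m, hm, rfl⟩
    refine ⟨m⁻¹ * l⁻¹ * m⁻¹⁻¹,
      (Subgroup.mem_normalizer_iff.mp (hM (inv_mem hm)) l⁻¹).mp (inv_mem hl), m⁻¹,
      inv_mem hm, by group⟩

theorem le_normalizer_of_forall_conj_mem {G : Type*} [Group G] (L M : Subgroup G)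
    (h : ∀ m ∈ M, ∀ y ∈ L, m * y * m⁻¹ ∈ L) : M ≤ Subgroup.normalizer (L : Set G) := by
  intro m hm
  rw [Subgroup.mem_normalizer_iff]
  intro y
  constructor
  · exact h m hm y
  · intro hy
    have := h m⁻¹ (inv_mem hm) _ hy
    have e : m⁻¹ * (m * y * m⁻¹) * m⁻¹⁻¹ = y := by group
    rwa [e] at this

theorem subnormal_le_normalCore_aux (n : ℕ) :
    ∀ (G : Type u) [Group G] [Finite G], Nat.card G = n →
      ∀ (M N : Subgroup G), IsCoatom M → N.IsSubnormal → N ≤ M → N ≤ M.normalCore := by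
  induction n using Nat.strong_induction_on with
  | _ n ih =>
    intro G _ _ hn M N hM hN hNM
    by_cases hNtop : N = ⊤
    · exfalso
      rw [hNtop] at hNM
      exact hM.1 (top_le_iff.mp hNM)
    obtain ⟨H, hHn, hNH, hHlt⟩ := hN.exists_normal_and_le_and_lt_top_of_ne hNtop
    by_cases hHM : H ≤ M
    · exact hNH.trans (Subgroup.normal_le_normalCore.mpr hHM)
    have hsup : M ⊔ H = ⊤ :=
      hM.2 _ (lt_of_le_of_ne le_sup_left (fun h => hHM (by rw [h]; exact le_sup_right)))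
    have hD'ne : M.subgroupOf H ≠ ⊤ := by
      intro h
      rw [Subgroup.subgroupOf_eq_top] at h
      exact hHM h
    obtain ⟨L, hL, hD'L⟩ := exists_coatom_ge hD'ne
    let Lm : G → Subgroup H := fun m => L.map (MulAut.conjNormal m : MulAut H).toMonoidHom
    have hLm_coatom : ∀ m, IsCoatom (Lm m) := fun m =>
      (OrderIso.isCoatom_iff (MulAut.conjNormal m : MulAut H).mapSubgroup L).mpr hL
    have hD'Lm : ∀ m ∈ M, M.subgroupOf H ≤ Lm m := by
      intro m hm d hd
      refine ⟨(MulAut.conjNormal m⁻¹ : MulAut H) d, hD'L ?_, ?_⟩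
      · rw [Subgroup.mem_subgroupOf, MulAut.conjNormal_apply]
        exact mul_mem (mul_mem (inv_mem hm) (Subgroup.mem_subgroupOf.mp hd)) (by simpa using hm)
      · apply Subtype.ext
        simp only [MulEquiv.coe_toMonoidHom, MulAut.conjNormal_apply]
        group
    have hcardH : Nat.card H < n := by
      rw [← hn]
      exact lt_of_le_of_ne (Subgroup.card_le_card_group H)
        (fun h => hHlt.ne ((Subgroup.card_eq_iff_eq_top H).mp h))
    have hN' : (N.subgroupOf H).IsSubnormal := hN.subgroupOf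
    have hN'D' : N.subgroupOf H ≤ M.subgroupOf H := by
      intro x hx
      exact Subgroup.mem_subgroupOf.mpr (hNM (Subgroup.mem_subgroupOf.mp hx))
    have hcore : ∀ m ∈ M, N.subgroupOf H ≤ (Lm m).normalCore := fun m hm =>
      ih (Nat.card H) hcardH H rfl (Lm m) (N.subgroupOf H) (hLm_coatom m) hN'
        (hN'D'.trans (hD'Lm m hm))
    let Ls : Subgroup H := ⨅ m : M, Lm (m : G)
    have hconjN : ∀ x ∈ N, ∀ h ∈ H, ∀ (hh : h * x * h⁻¹ ∈ H), (⟨h * x * h⁻¹, hh⟩ : H) ∈ Ls := by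
      intro x hx h hh hh'
      rw [Subgroup.mem_iInf]
      intro m
      have hxN' : (⟨x, hNH hx⟩ : H) ∈ N.subgroupOf H := Subgroup.mem_subgroupOf.mpr hx
      have := hcore m m.2 hxN' ⟨h, hh⟩
      exact this
    have hLsinv : ∀ m ∈ M, ∀ z ∈ Ls, (MulAut.conjNormal m : MulAut H) z ∈ Ls := by
      intro m hm z hz
      rw [Subgroup.mem_iInf] at hz ⊢
      intro m'
      have h1 := hz ⟨m⁻¹ * m', mul_mem (inv_mem hm) m'.2⟩
      obtain ⟨l, hl, hle⟩ := h1
      refine ⟨l, hl, ?_⟩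
      rw [← hle]
      apply Subtype.ext
      simp only [MulEquiv.coe_toMonoidHom, MulAut.conjNormal_apply]
      group
    have hnormL0 : M ≤ Subgroup.normalizer ((Ls.map H.subtype : Subgroup G) : Set G) := by
      apply le_normalizer_of_forall_conj_mem
      rintro m hm _ ⟨z, hz, rfl⟩
      refine ⟨(MulAut.conjNormal m : MulAut H) z, hLsinv m hm z hz, ?_⟩
      simp [MulAut.conjNormal_apply]
    have hL0H : Ls.map H.subtype ≤ H := by
      rintro _ ⟨z, _, rfl⟩
      exact z.2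
    have hD'Ls : M.subgroupOf H ≤ Ls := le_iInf (fun m => hD'Lm m m.2)
    by_cases hL0M : Ls.map H.subtype ≤ M
    · intro x hx g
      have hg : g ∈ M ⊔ H := by rw [hsup]; trivial
      rw [Subgroup.mem_sup_of_normal_right] at hg
      obtain ⟨m, hm, h, hh, rfl⟩ := hg
      have hh' : h * x * h⁻¹ ∈ H := hHn.conj_mem x (hNH hx) h
      have h1 : h * x * h⁻¹ ∈ Ls.map H.subtype := ⟨_, hconjN x hx h hh hh', rfl⟩
      have h2 := hL0M h1
      have e : m * h * x * (m * h)⁻¹ = m * (h * x * h⁻¹) * m⁻¹ := by group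
      rw [e]
      exact mul_mem (mul_mem hm h2) (inv_mem hm)
    · exfalso
      have htop : Ls.map H.subtype ⊔ M = ⊤ :=
        hM.2 _ (lt_of_le_of_ne le_sup_right (fun h => hL0M (by rw [h]; exact le_sup_left)))
      have hHL0 : H ≤ Ls.map H.subtype := by
        intro h hh
        have hmem : h ∈ Ls.map H.subtype ⊔ M := by rw [htop]; trivial
        obtain ⟨l, hl, m, hm, rfl⟩ := mem_sup_of_le_normalizer _ _ hnormL0 h hmem
        have hmH : m ∈ H := by
          have : m = l⁻¹ * (l * m) := by group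
          rw [this]
          exact mul_mem (inv_mem (hL0H hl)) hh
        have hmD : (⟨m, hmH⟩ : H) ∈ M.subgroupOf H := Subgroup.mem_subgroupOf.mpr hm
        have hmL : m ∈ Ls.map H.subtype := ⟨_, hD'Ls hmD, rfl⟩
        exact mul_mem hl hmL
      have hLs_top : Ls = ⊤ := by
        rw [eq_top_iff]
        intro z _
        obtain ⟨w, hw, hwe⟩ := hHL0 z.2
        have : w = z := Subtype.ext hwe
        rw [← this]; exact hw
      have h1 : Ls ≤ Lm 1 := iInf_le (fun m : M => Lm (m : G)) (1 : M)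
      rw [hLs_top] at h1
      exact (hLm_coatom 1).1 (top_le_iff.mp h1)

/-- A subnormal subgroup contained in a maximal subgroup lies in its core. -/
theorem subnormal_le_normalCore {G : Type u} [Group G] [Finite G] (M N : Subgroup G)
    (hM : IsCoatom M) (hN : N.IsSubnormal) (hNM : N ≤ M) : N ≤ M.normalCore :=
  subnormal_le_normalCore_aux (Nat.card G) G rfl M N hM hN hNM

end Cfsg.Agent.Helper20
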