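import Mathlib
import Cfsg.Prelude.Def_Transfer
import Cfsg.Prelude.Def_LocalStructure
import Cfsg.Agent.Helper20.IrrCyclic
import Cfsg.Agent.Helper20.Subnormal

set_option autoImplicit false

namespace Cfsg.Agent.Helper20

section

variable {G : Type*} [Group G]

/-- A subgroup of prime index is maximal. -/
theorem eq_top_of_index_prime {p : ℕ} (hp : p.Prime) (A K : Subgroup G) (hidx : A.index = p)
    (hle : A ≤ K) {x : G} (hxK : x ∈ K) (hxA : x ∉ A) : K = ⊤ := by
  have h1 := Subgroup.relIndex_mul_index hle
  rw [hidx] at h1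
  have h2 : K.index ∣ p := Dvd.intro_left _ h1
  rcases (Nat.dvd_prime hp).1 h2 with h | h
  · exact Subgroup.index_eq_one.1 h
  · exfalso
    rw [h] at h1
    have h3 : A.relIndex K = 1 := by
      have : A.relIndex K * p = 1 * p := by rw [h1, one_mul]
      exact Nat.eq_of_mul_eq_mul_right hp.pos this
    rw [Subgroup.relIndex_eq_one] at h3
    exact hxA (h3 hxK)

/-- If `A` is abelian of prime index and some `x ∉ A` centralizes `A`, then `G` is abelian. -/
theorem isMulCommutative_of_centralizes {p : ℕ} (hp : p.Prime) (A : Subgroup G)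
    (hAc : ∀ a ∈ A, ∀ b ∈ A, a * b = b * a) (hidx : A.index = p) (x : G) (hxA : x ∉ A)
    (hx : ∀ a ∈ A, x * a = a * x) : IsMulCommutative G := by
  have h1 : Subgroup.centralizer (A : Set G) = ⊤ := by
    apply eq_top_of_index_prime hp A _ hidx _ _ hxA
    · intro a ha
      rw [Subgroup.mem_centralizer_iff]
      intro b hb
      exact hAc b hb a ha
    · rw [Subgroup.mem_centralizer_iff]
      intro a ha
      exact (hx a ha).symm
  have h2 : Subgroup.centralizer ({x} : Set G) = ⊤ := by
    apply eq_top_of_index_prime hp A _ hidx _ _ hxA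
    · intro a ha
      rw [Subgroup.mem_centralizer_iff]
      intro y hy
      rw [Set.mem_singleton_iff] at hy
      rw [hy]
      exact hx a ha
    · rw [Subgroup.mem_centralizer_iff]
      intro y hy
      rw [Set.mem_singleton_iff] at hy
      rw [hy]
  have h3 : Subgroup.center G = ⊤ := by
    apply eq_top_of_index_prime hp A _ hidx _ _ hxA
    · intro a ha
      rw [Subgroup.mem_center_iff]
      intro g
      have hg : g ∈ Subgroup.centralizer (A : Set G) := by rw [h1]; exact Subgroup.mem_top g
      rw [Subgroup.mem_centralizer_iff] at hg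
      exact (hg a ha).symm
    · rw [Subgroup.mem_center_iff]
      intro g
      have hg : g ∈ Subgroup.centralizer ({x} : Set G) := by rw [h2]; exact Subgroup.mem_top g
      rw [Subgroup.mem_centralizer_iff] at hg
      exact (hg x rfl).symm
  refine ⟨⟨fun a b => ?_⟩⟩
  have hb : b ∈ Subgroup.center G := by rw [h3]; exact Subgroup.mem_top b
  rw [Subgroup.mem_center_iff] at hb
  exact hb a

theorem isPGroup_of_card_dvd_prime {K : Type*} [Group K] {p : ℕ} (hp : p.Prime)
    (h : Nat.card K ∣ p) : IsPGroup p K := by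
  rcases (Nat.dvd_prime hp).1 h with h1 | h1
  · exact IsPGroup.of_card (n := 0) (by rw [h1, pow_zero])
  · exact IsPGroup.of_card (n := 1) (by rw [h1, pow_one])

theorem sylow_normal_of_isPGroup {K : Type*} [Group K] {p : ℕ} (hK : IsPGroup p K)
    (P : Sylow p K) : (P : Subgroup K).Normal := by
  have h1 : (⊤ : Subgroup K) = P := P.is_maximal' (hK.to_subgroup ⊤) le_top
  rw [← h1]
  infer_instance

theorem sylow_normal_of_isPGroup_ne {K : Type*} [Group K] {p q : ℕ} [Fact p.Prime]
    [Fact q.Prime] (hne : q ≠ p) (hK : IsPGroup q K) (P : Sylow p K) :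
    (P : Subgroup K).Normal := by
  have h1 : Disjoint (P : Subgroup K) (P : Subgroup K) :=
    IsPGroup.disjoint_of_ne p q hne.symm _ _ P.isPGroup' (hK.to_subgroup _)
  have h2 : (P : Subgroup K) = ⊥ := disjoint_self.1 h1
  rw [h2]
  infer_instance

open scoped IsMulCommutative in
/-- A minimal normal elementary abelian `q`-subgroup of prime index `p` in a non-abelian group
has order `q ^ e`, `e` the order of `q` modulo `p`. -/
theorem card_minNormal_of_index_prime [Finite G] {p q : ℕ} [Fact p.Prime]
    (hq : q.Prime) (hna : ¬ IsMulCommutative G) (A : Subgroup G) [A.Normal]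
    (hA : Cfsg.IsElementaryAbelian q A) (hidx : A.index = p)
    (hmin : ∀ B : Subgroup G, B.Normal → B ≤ A → B = ⊥ ∨ B = A) :
    Nat.card ↥A = q ^ orderOf (q : ZMod p) := by
  have hp := (Fact.out : p.Prime)
  haveI : Fact q.Prime := ⟨hq⟩
  haveI hAc : IsMulCommutative ↥A := hA.1
  have hAcomm : ∀ a ∈ A, ∀ b ∈ A, a * b = b * a := by
    intro a ha b hb
    have h1 := mul_comm (⟨a, ha⟩ : ↥A) ⟨b, hb⟩
    have h2 := congrArg Subtype.val h1
    exact h2
  obtain ⟨x, hxA⟩ : ∃ x : G, x ∉ A := by
    by_contra h
    have h1 : A = ⊤ := eq_top_iff.2 fun y _ => Classical.by_contradiction fun hy => h ⟨y, hy⟩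
    rw [h1, Subgroup.index_top] at hidx
    exact hp.one_lt.ne hidx
  have hxp : x ^ p ∈ A := by
    have h := Subgroup.pow_index_mem A x
    rw [hidx] at h
    exact h
  have hconjA : ∀ a ∈ A, MulAut.conjNormal (H := A) a = 1 := by
    intro a ha
    refine MulEquiv.ext fun b => Subtype.ext ?_
    rw [MulAut.conjNormal_apply]
    show a * (b : G) * a⁻¹ = (b : G)
    rw [hAcomm a ha b b.2, mul_inv_cancel_right]
  have hαp : (MulAut.conjNormal (H := A) x) ^ p = 1 := by
    rw [← map_pow]
    exact hconjA _ hxp
  have hα1 : MulAut.conjNormal (H := A) x ≠ 1 := by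
    intro h
    apply hna
    apply isMulCommutative_of_centralizes hp A hAcomm hidx x hxA
    intro a ha
    have h1 := congrArg (fun f : MulAut ↥A => ((f ⟨a, ha⟩ : ↥A) : G)) h
    have h2 : x * a * x⁻¹ = a := by
      have h3 := MulAut.conjNormal_apply (H := A) x ⟨a, ha⟩
      rw [← h3]
      exact h1
    calc x * a = x * a * x⁻¹ * x := by group
      _ = a * x := by rw [h2]
  have hirr : ∀ B : Subgroup ↥A, (∀ v ∈ B, MulAut.conjNormal (H := A) x v ∈ B) →
      B = ⊥ ∨ B = ⊤ := by
    intro B hB
    have hBpow : ∀ k : ℕ, ∀ v ∈ B, ((MulAut.conjNormal (H := A) x) ^ k) v ∈ B := by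
      intro k
      induction k with
      | zero =>
        intro v hv
        rw [pow_zero]
        exact hv
      | succ k ih =>
        intro v hv
        rw [pow_succ]
        exact ih _ (hB v hv)
    have hBinv : ∀ v ∈ B, (MulAut.conjNormal (H := A) x⁻¹) v ∈ B := by
      intro v hv
      have h1 : MulAut.conjNormal (H := A) x⁻¹ = (MulAut.conjNormal (H := A) x) ^ (p - 1) := by
        rw [map_inv]
        apply inv_eq_of_mul_eq_one_left
        rw [← pow_succ, Nat.sub_add_cancel hp.one_lt.le]
        exact hαp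
      rw [h1]
      exact hBpow _ v hv
    have hnorm : (B.map A.subtype).Normal := by
      rw [← Subgroup.normalizer_eq_top_iff]
      apply eq_top_of_index_prime hp A _ hidx _ _ hxA
      · apply le_normalizer_of_forall_conj_mem
        rintro a ha _ ⟨b, hb, rfl⟩
        have h1 : a * (A.subtype b) * a⁻¹ = A.subtype b := by
          show a * (b : G) * a⁻¹ = (b : G)
          rw [hAcomm a ha b b.2, mul_inv_cancel_right]
        rw [h1]
        exact ⟨b, hb, rfl⟩
      · rw [Subgroup.mem_normalizer_iff]
        intro y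
        constructor
        · rintro ⟨b, hb, rfl⟩
          exact ⟨_, hB b hb, (MulAut.conjNormal_apply (H := A) x b)⟩
        · rintro ⟨b, hb, hby⟩
          refine ⟨_, hBinv b hb, ?_⟩
          show ((MulAut.conjNormal (H := A) x⁻¹ b : ↥A) : G) = y
          rw [MulAut.conjNormal_apply]
          have hby' : (b : G) = x * y * x⁻¹ := hby
          rw [hby']
          group
    rcases hmin _ hnorm (Subgroup.map_subtype_le B) with h | h
    · left
      rw [eq_bot_iff]
      intro b hb
      have h1 : (b : G) ∈ B.map A.subtype := ⟨b, hb, rfl⟩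
      rw [h] at h1
      exact Subgroup.mem_bot.2 (Subtype.ext (Subgroup.mem_bot.1 h1))
    · right
      rw [eq_top_iff]
      intro a _
      have h1 : (a : G) ∈ B.map A.subtype := by rw [h]; exact a.2
      obtain ⟨b, hb, hba⟩ := h1
      have h2 : b = a := Subtype.ext hba
      rw [← h2]
      exact hb
  have hq' : ∀ v : ↥A, v ^ q = 1 := by
    intro v
    apply Subtype.ext
    rw [SubmonoidClass.coe_pow]
    exact hA.2 v v.2
  exact card_of_irreducible_mul p q hq' (MulAut.conjNormal (H := A) x) hαp hα1 hirr

end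

end Cfsg.Agent.Helper20
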