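import Mathlib
import Cfsg.Prelude.Def_Transfer
import Cfsg.Prelude.Def_LocalStructure
import Cfsg.Agent.Helper20.MinNonPClosed
import Cfsg.Agent.Helper20.Subnormal
import Cfsg.Agent.Helper1.Coprime2
import Cfsg.Agent.Helper9.Layer

set_option autoImplicit false

namespace Cfsg.Agent.Helper20

section

universe u

variable {G : Type u} [Group G]

/-- A Sylow subgroup lying in a normal subgroup that normalizes it is normal. -/
theorem sylow_normal_of_le_normal {p : ℕ} [Fact p.Prime] (P : Sylow p G) (M : Subgroup G)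
    [M.Normal] (hPM : (P : Subgroup G) ≤ M)
    (hMN : M ≤ Subgroup.normalizer ((P : Subgroup G) : Set G)) : (P : Subgroup G).Normal := by
  refine ⟨fun x hx g => ?_⟩
  have hR : IsPGroup p ↥((P : Subgroup G).map (MulAut.conj g).toMonoidHom) := P.isPGroup'.map _
  have hRM : (P : Subgroup G).map (MulAut.conj g).toMonoidHom ≤ M := by
    rintro _ ⟨y, hy, rfl⟩
    exact Subgroup.Normal.conj_mem inferInstance y (hPM hy) g
  have h1 : IsPGroup p ↥((P : Subgroup G).map (MulAut.conj g).toMonoidHom ⊔ (P : Subgroup G)) :=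
    hR.to_sup_of_normal_right' P.isPGroup' (hRM.trans hMN)
  have h2 := P.is_maximal' h1 le_sup_right
  have h3 : g * x * g⁻¹ ∈ (P : Subgroup G).map (MulAut.conj g).toMonoidHom := ⟨x, hx, rfl⟩
  have h4 : g * x * g⁻¹ ∈
      (P : Subgroup G).map (MulAut.conj g).toMonoidHom ⊔ (P : Subgroup G) :=
    (le_sup_left : (P : Subgroup G).map (MulAut.conj g).toMonoidHom ≤ _) h3
  rw [h2] at h4
  exact h4

/-- Let `P` act coprimely on the normal subgroup `A` with `G = P A`, `P` not normal. If every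
`P`-invariant subgroup `Q` of `A` with `P Q ≠ G` normalizes `P`, then `A` has prime power
order. -/
theorem exists_prime_card_of_inv_sylow [Finite G] (P A : Subgroup G) [A.Normal]
    (hcop : (Nat.card P).Coprime (Nat.card A)) (hsolv : Group.IsSolvable P)
    (hPA : P ⊔ A = ⊤) (hPn : ¬ P.Normal)
    (hkey : ∀ Q : Subgroup G, Q ≤ A → P ≤ Subgroup.normalizer (Q : Set G) → P ⊔ Q ≠ ⊤ →
      Q ≤ Subgroup.normalizer (P : Set G)) :
    ∃ q : ℕ, q.Prime ∧ ∃ k : ℕ, Nat.card A = q ^ k := by
  by_contra hcon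
  apply hPn
  rw [← Subgroup.normalizer_eq_top_iff, eq_top_iff, ← hPA]
  apply sup_le Subgroup.le_normalizer
  have hPnA : P ≤ Subgroup.normalizer (A : Set G) := by
    rw [Subgroup.normalizer_eq_top]
    exact le_top
  have hdisj : P ⊓ A = ⊥ := (Subgroup.disjoint_of_coprime_natCard hcop).eq_bot
  have hall : ∀ q : ℕ, q.Prime → q ^ (Nat.card A).factorization q ∣
      Nat.card ↥(A ⊓ Subgroup.normalizer (P : Set G)) := by
    intro q hq
    haveI : Fact q.Prime := ⟨hq⟩
    obtain ⟨Q, hQA, hQcard, hPQ⟩ :=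
      Cfsg.Agent.Helper1.inv_sylow_exists P A hPnA hcop (Or.inl hsolv) q
    have hne : P ⊔ Q ≠ ⊤ := by
      intro htop
      apply hcon
      refine ⟨q, hq, (Nat.card A).factorization q, ?_⟩
      have hAQ : A ≤ Q := by
        intro a ha
        have ha' : a ∈ Q ⊔ P := by
          rw [sup_comm, htop]
          exact Subgroup.mem_top a
        obtain ⟨l, hl, m, hm, rfl⟩ := mem_sup_of_le_normalizer Q P hPQ a ha'
        have hmA : m ∈ A := by
          have := A.mul_mem (A.inv_mem (hQA hl)) ha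
          rwa [inv_mul_cancel_left] at this
        have hm1 : m ∈ P ⊓ A := ⟨hm, hmA⟩
        rw [hdisj, Subgroup.mem_bot] at hm1
        rw [hm1, mul_one]
        exact hl
      have hQeq : Q = A := le_antisymm hQA hAQ
      have hc : Nat.card ↥Q = Nat.card ↥A := by rw [hQeq]
      rw [← hc]
      exact hQcard.trans (by rw [hc])
    have hQN := hkey Q hQA hPQ hne
    rw [← hQcard]
    exact Subgroup.card_dvd_of_le (le_inf hQA hQN)
  have hdvd : Nat.card A ∣ Nat.card ↥(A ⊓ Subgroup.normalizer (P : Set G)) := by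
    rw [← Nat.factorization_prime_le_iff_dvd Nat.card_pos.ne' Nat.card_pos.ne']
    intro q hq
    exact (hq.pow_dvd_iff_le_factorization Nat.card_pos.ne').1 (hall q hq)
  have heq : A ⊓ Subgroup.normalizer (P : Set G) = A := by
    apply Subgroup.eq_of_le_of_card_ge inf_le_left
    exact Nat.le_of_dvd Nat.card_pos hdvd
  rw [← heq]
  exact inf_le_right

/-- A minimal normal subgroup that is a `q`-group is elementary abelian. -/
theorem isElementaryAbelian_of_minNormal [Finite G] {q : ℕ} [Fact q.Prime] (A : Subgroup G)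
    [A.Normal] (hAq : IsPGroup q ↥A) (hAbot : A ≠ ⊥)
    (hmin : ∀ B : Subgroup G, B.Normal → B ≠ ⊥ → B ≤ A → B = A) :
    Cfsg.IsElementaryAbelian q A := by
  haveI : Nontrivial ↥A := (Subgroup.nontrivial_iff_ne_bot A).2 hAbot
  have hZnt : Nontrivial (Subgroup.center ↥A) := hAq.center_nontrivial
  have hZnorm : ((Subgroup.center ↥A).map A.subtype).Normal :=
    Cfsg.Agent.Helper9.char_map_normal A (Subgroup.center ↥A)
  have hZbot : (Subgroup.center ↥A).map A.subtype ≠ ⊥ := by
    intro h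
    rw [Subgroup.map_eq_bot_iff_of_injective _ A.subtype_injective] at h
    exact (Subgroup.nontrivial_iff_ne_bot _).1 hZnt h
  have hZ := hmin _ hZnorm hZbot (Subgroup.map_subtype_le _)
  have hcomm : ∀ a ∈ A, ∀ b ∈ A, a * b = b * a := by
    intro a ha b hb
    have h1 : a ∈ (Subgroup.center ↥A).map A.subtype := by rw [hZ]; exact ha
    obtain ⟨z, hz, rfl⟩ := h1
    have hz' : z ∈ Subgroup.center ↥A := hz
    rw [Subgroup.mem_center_iff] at hz'
    have h2 := hz' ⟨b, hb⟩
    have h3 := congrArg Subtype.val h2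
    exact h3.symm
  let Ω : Subgroup G :=
    { carrier := {a | a ∈ A ∧ a ^ q = 1}
      one_mem' := ⟨A.one_mem, one_pow q⟩
      mul_mem' := by
        rintro a b ⟨ha, ha'⟩ ⟨hb, hb'⟩
        refine ⟨A.mul_mem ha hb, ?_⟩
        have hc : Commute a b := hcomm a ha b hb
        rw [hc.mul_pow, ha', hb', one_mul]
      inv_mem' := by
        rintro a ⟨ha, ha'⟩
        exact ⟨A.inv_mem ha, by rw [inv_pow, ha', inv_one]⟩ }
  have hΩnorm : Ω.Normal := by
    refine ⟨fun a ha g => ?_⟩
    refine ⟨Subgroup.Normal.conj_mem inferInstance a ha.1 g, ?_⟩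
    rw [conj_pow, ha.2, mul_one, mul_inv_cancel]
  have hΩbot : Ω ≠ ⊥ := by
    have hdvd : q ∣ Nat.card ↥A := by
      obtain ⟨k, hk⟩ := (IsPGroup.iff_card).1 hAq
      have hk0 : k ≠ 0 := by
        intro h0
        rw [h0, pow_zero] at hk
        exact hAbot (Subgroup.card_eq_one.1 hk)
      rw [hk]
      exact dvd_pow_self q hk0
    obtain ⟨x, hx⟩ := exists_prime_orderOf_dvd_card' q hdvd
    intro h
    have hxq : (x : G) ^ q = 1 := by
      have h1 := pow_orderOf_eq_one x
      rw [hx] at h1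
      have h2 := congrArg Subtype.val h1
      rw [SubmonoidClass.coe_pow] at h2
      exact h2
    have hxΩ : (x : G) ∈ Ω := ⟨x.2, hxq⟩
    rw [h, Subgroup.mem_bot] at hxΩ
    have hx1 : x = 1 := Subtype.ext hxΩ
    rw [hx1, orderOf_one] at hx
    exact (Fact.out : q.Prime).one_lt.ne hx
  have hΩ := hmin Ω hΩnorm hΩbot (fun a ha => ha.1)
  refine ⟨⟨⟨fun a b => Subtype.ext (hcomm a a.2 b b.2)⟩⟩, fun a ha => ?_⟩
  have h1 : a ∈ Ω := by rw [hΩ]; exact ha
  exact h1.2

end

end Cfsg.Agent.Helper20
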