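import Mathlib
import Cfsg.Agent.Helper20.Norm

set_option autoImplicit false

namespace Cfsg.Agent.Helper20

/-- In a subgroup `H` whose Sylow `p`-subgroups are normal, all `p`-subgroups of `H` lie in one
Sylow `p`-subgroup of `G`. -/
theorem exists_sylow_ge_of_pClosed {G : Type*} [Group G] [Finite G] {p : ℕ} [Fact p.Prime]
    (H : Subgroup G) (hH : ∀ S : Sylow p ↥H, (S : Subgroup ↥H).Normal) :
    ∃ P' : Sylow p G, ∀ X : Subgroup G, X ≤ H → IsPGroup p X → X ≤ P' := by
  obtain ⟨S⟩ : Nonempty (Sylow p ↥H) := inferInstance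
  have hS : (S : Subgroup ↥H).Normal := hH S
  have hSG : IsPGroup p ((S : Subgroup ↥H).map H.subtype) := S.isPGroup'.map _
  obtain ⟨P', hP'⟩ := hSG.exists_le_sylow
  refine ⟨P', ?_⟩
  intro X hXH hX
  have hX' : IsPGroup p (X.subgroupOf H) := hX.comap_subtype
  obtain ⟨Q, hQ⟩ := hX'.exists_le_sylow
  have hSQ : (S : Subgroup ↥H) ≤ Q := S.isPGroup'.le_sylow_of_normal Q
  have hQS : (Q : Subgroup ↥H) = S := S.is_maximal' Q.isPGroup' hSQ
  rw [hQS] at hQ
  have := Subgroup.map_mono (f := H.subtype) hQ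
  rw [Subgroup.map_subgroupOf_eq_of_le hXH] at this
  exact this.trans hP'

/-- Normalizers grow in `p`-groups. -/
theorem exists_mem_normalizer_not_mem {G : Type*} [Group G] [Finite G] {p : ℕ} [Fact p.Prime]
    (P D : Subgroup G) (hP : IsPGroup p P) (hDP : D ≤ P) (hne : D ≠ P) :
    ∃ x ∈ P, x ∉ D ∧ x ∈ Subgroup.normalizer (D : Set G) := by
  have : Group.IsNilpotent ↥P := hP.isNilpotent
  have hnc : NormalizerCondition ↥P := Group.normalizerCondition_of_isNilpotent
  have hlt : D.subgroupOf P < ⊤ := by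
    rw [lt_top_iff_ne_top, Ne, Subgroup.subgroupOf_eq_top]
    intro h
    exact hne (le_antisymm hDP h)
  have h2 := hnc _ hlt
  obtain ⟨x, hxn, hxD⟩ := SetLike.exists_of_lt h2
  refine ⟨(x : G), x.2, ?_, ?_⟩
  · intro h
    exact hxD (Subgroup.mem_subgroupOf.mpr h)
  · rw [Subgroup.mem_normalizer_iff] at hxn ⊢
    intro g
    constructor
    · intro hg
      have := (hxn ⟨g, hDP hg⟩).mp (Subgroup.mem_subgroupOf.mpr hg)
      rw [Subgroup.mem_subgroupOf] at this
      simpa using this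
    · intro hg
      have hgP : g ∈ P := by
        have h1 : (x : G) * g * (x : G)⁻¹ ∈ P := hDP hg
        have : g = (x : G)⁻¹ * ((x : G) * g * (x : G)⁻¹) * (x : G) := by group
        rw [this]
        exact mul_mem (mul_mem (inv_mem x.2) h1) x.2
      have := (hxn ⟨g, hgP⟩).mpr (by
        rw [Subgroup.mem_subgroupOf]
        simpa using hg)
      rw [Subgroup.mem_subgroupOf] at this
      exact this

theorem sylow_eq_of_le {G : Type*} [Group G] {p : ℕ} (P Q : Sylow p G)
    (h : (P : Subgroup G) ≤ Q) : P = Q :=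
  Sylow.ext (P.is_maximal' Q.isPGroup' h).symm

theorem sylow_smul_coe {G : Type*} [Group G] {p : ℕ} (P : Sylow p G) (g : G) :
    ((g • P : Sylow p G) : Subgroup G) = (P : Subgroup G).map (MulAut.conj g).toMonoidHom := by
  rw [Sylow.coe_subgroup_smul, conj_smul_eq_map]

end Cfsg.Agent.Helper20
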