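import Mathlib
import Cfsg.Agent.Helper20.MinNonPClosed2
import Cfsg.Agent.Helper20.Norm

set_option autoImplicit false

namespace Cfsg.Agent.Helper20

section

variable {G : Type*} [Group G]

/-- In a group `G` with `G ⧸ A` a `p`-group, a proper subgroup containing `A` lies in a proper
normal subgroup. -/
theorem exists_normal_ge_of_isPGroup_quotient [Finite G] {p : ℕ} [Fact p.Prime] (A : Subgroup G)
    [A.Normal] (hQ : IsPGroup p (G ⧸ A)) (H : Subgroup G) (hAH : A ≤ H) (hH : H ≠ ⊤) :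
    ∃ M : Subgroup G, M.Normal ∧ M ≠ ⊤ ∧ H ≤ M := by
  haveI : Group.IsNilpotent (G ⧸ A) := hQ.isNilpotent
  have hne : H.map (QuotientGroup.mk' A) ≠ ⊤ := by
    intro h
    apply hH
    have h1 := Subgroup.comap_map_eq (QuotientGroup.mk' A) H
    rw [h, Subgroup.comap_top, QuotientGroup.ker_mk', sup_eq_left.2 hAH] at h1
    exact h1.symm
  obtain ⟨C, hC, hHC⟩ := exists_coatom_ge hne
  have hCn : C.Normal := by
    rw [← Subgroup.normalizer_eq_top_iff]
    have h1 := Group.normalizerCondition_of_isNilpotent (G := G ⧸ A) C (lt_top_iff_ne_top.2 hC.1)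
    exact hC.2 _ h1
  refine ⟨C.comap (QuotientGroup.mk' A), hCn.comap _, ?_, Subgroup.map_le_iff_le_comap.1 hHC⟩
  intro h
  apply hC.1
  rw [eq_top_iff]
  intro y _
  obtain ⟨g, rfl⟩ := QuotientGroup.mk'_surjective A y
  have h2 : g ∈ C.comap (QuotientGroup.mk' A) := by
    rw [h]
    exact Subgroup.mem_top g
  exact h2

theorem pow_mul_eq_one_of_exists {X : Type*} [Group X] {p : ℕ}
    (h : ∃ H : Subgroup X, (H : Set X) = {g : X | g ^ p = 1}) (a b : X) (ha : a ^ p = 1)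
    (hb : b ^ p = 1) : (a * b) ^ p = 1 := by
  obtain ⟨H, hH⟩ := h
  have ha' : a ∈ H := by
    have h1 : a ∈ (H : Set X) := by rw [hH]; exact ha
    exact h1
  have hb' : b ∈ H := by
    have h1 : b ∈ (H : Set X) := by rw [hH]; exact hb
    exact h1
  have hab : a * b ∈ (H : Set X) := H.mul_mem ha' hb'
  rw [hH] at hab
  exact hab

/-- If the elements of order dividing `p` of the subgroup `K` form a subgroup of `K`, they form a
subgroup of `G`. -/
theorem exists_omega_subgroup {p : ℕ} (K : Subgroup G)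
    (h : ∃ H : Subgroup ↥K, (H : Set ↥K) = {g : ↥K | g ^ p = 1}) :
    ∃ U : Subgroup G, ∀ g : G, g ∈ U ↔ g ∈ K ∧ g ^ p = 1 := by
  obtain ⟨H, hH⟩ := h
  refine ⟨H.map K.subtype, fun g => ?_⟩
  constructor
  · rintro ⟨k, hk, rfl⟩
    have hk' : k ∈ (H : Set ↥K) := hk
    rw [hH] at hk'
    have hk'' : k ^ p = 1 := hk'
    refine ⟨k.2, ?_⟩
    have h1 := congrArg Subtype.val hk''
    rw [SubmonoidClass.coe_pow] at h1
    exact h1
  · rintro ⟨hgK, hgp⟩
    refine ⟨⟨g, hgK⟩, ?_, rfl⟩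
    have h1 : (⟨g, hgK⟩ : ↥K) ∈ (H : Set ↥K) := by
      rw [hH]
      show (⟨g, hgK⟩ : ↥K) ^ p = 1
      apply Subtype.ext
      rw [SubmonoidClass.coe_pow]
      exact hgp
    exact h1

theorem isPGroup_of_forall_pow_eq_one {p : ℕ} (U : Subgroup G) (h : ∀ g ∈ U, g ^ p = 1) :
    IsPGroup p ↥U := by
  intro u
  refine ⟨1, ?_⟩
  rw [pow_one]
  apply Subtype.ext
  rw [SubmonoidClass.coe_pow]
  exact h u u.2

end

end Cfsg.Agent.Helper20
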