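import Mathlib
import Cfsg.Prelude.Def_Solvable
import Cfsg.Agent.Helper20.ExpPLength
import Cfsg.Agent.Helper1.SZ

set_option autoImplicit false
set_option maxHeartbeats 1000000

/-!
Solvable groups with disconnected prime graph (Gruenberg–Kegel, solvable case):
Frobenius or 2-Frobenius.
-/

namespace Cfsg.Agent.Helper20.SolvPG

open Cfsg.Agent.Helper20.PLen

open scoped Pointwise

universe u

/-- Every prime divisor of `n` satisfies `S`. -/
def SNum (S : ℕ → Prop) (n : ℕ) : Prop := ∀ r : ℕ, r.Prime → r ∣ n → S r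

/-- No element of order `a * b` with `a`, `b` primes on different sides of `S`. -/
def Sep (S : ℕ → Prop) (Γ : Type*) [Group Γ] : Prop :=
  ∀ a b : ℕ, a.Prime → b.Prime → S a → ¬ S b → ∀ g : Γ, orderOf g ≠ a * b

theorem snum_prime {S : ℕ → Prop} {r : ℕ} (hr : r.Prime) (h : S r) : SNum S r := by
  intro r' hr' hdvd
  rw [(Nat.prime_dvd_prime_iff_eq hr' hr).mp hdvd]
  exact h

theorem sep_ne {S : ℕ → Prop} {Γ : Type*} [Group Γ] [Finite Γ] (hsep : Sep S Γ) (x y : Γ)
    (hx : x ≠ 1) (hy : y ≠ 1) (hxS : SNum S (orderOf x))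
    (hyT : SNum (fun r => ¬ S r) (orderOf y)) : x * y ≠ y * x := by
  intro hcomm
  have hox : orderOf x ≠ 1 := fun h => hx (orderOf_eq_one_iff.mp h)
  have hoy : orderOf y ≠ 1 := fun h => hy (orderOf_eq_one_iff.mp h)
  obtain ⟨a, ha, hax⟩ := Nat.exists_prime_and_dvd hox
  obtain ⟨b, hb, hby⟩ := Nat.exists_prime_and_dvd hoy
  have hSa : S a := hxS a ha hax
  have hSb : ¬ S b := hyT b hb hby
  have hab : a ≠ b := fun h => hSb (h ▸ hSa)
  have hx0 : 0 < orderOf x := orderOf_pos x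
  have hy0 : 0 < orderOf y := orderOf_pos y
  have hx' : orderOf (x ^ (orderOf x / a)) = a := by
    rw [orderOf_pow_of_dvd (Nat.div_pos (Nat.le_of_dvd hx0 hax) ha.pos).ne'
      (Nat.div_dvd_of_dvd hax)]
    exact Nat.div_div_self hax hx0.ne'
  have hy' : orderOf (y ^ (orderOf y / b)) = b := by
    rw [orderOf_pow_of_dvd (Nat.div_pos (Nat.le_of_dvd hy0 hby) hb.pos).ne'
      (Nat.div_dvd_of_dvd hby)]
    exact Nat.div_div_self hby hy0.ne'
  have hc : Commute (x ^ (orderOf x / a)) (y ^ (orderOf y / b)) :=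
    Commute.pow_pow (show Commute x y from hcomm) _ _
  have h1 := hc.orderOf_mul_eq_mul_orderOf_of_coprime
    (by rw [hx', hy']; exact (Nat.coprime_primes ha hb).mpr hab)
  rw [hx', hy'] at h1
  exact hsep a b ha hb hSa hSb _ h1

theorem sep_subgroup {S : ℕ → Prop} {Γ : Type*} [Group Γ] (hsep : Sep S Γ) (K : Subgroup Γ) :
    Sep S ↥K := by
  intro a b ha hb hSa hSb g hg
  exact hsep a b ha hb hSa hSb (g : Γ) (by rw [Subgroup.orderOf_coe]; exact hg)

theorem sep_quotient {S : ℕ → Prop} {Γ : Type*} [Group Γ] [Finite Γ] (hsep : Sep S Γ)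
    (N : Subgroup Γ) [N.Normal] : Sep S (Γ ⧸ N) := by
  intro a b ha hb hSa hSb g hg
  obtain ⟨x, rfl⟩ := QuotientGroup.mk_surjective g
  have hdvd : a * b ∣ orderOf x := by
    rw [← hg]
    exact orderOf_map_dvd (QuotientGroup.mk' N) x
  obtain ⟨m, hm⟩ := hdvd
  have hx0 : 0 < orderOf x := orderOf_pos x
  have hm0 : m ≠ 0 := by
    rintro rfl
    rw [mul_zero] at hm
    omega
  have h1 : orderOf (x ^ m) = a * b := by
    rw [orderOf_pow_of_dvd hm0 ⟨a * b, by rw [hm, mul_comm]⟩, hm]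
    exact Nat.mul_div_cancel _ (Nat.pos_of_ne_zero hm0)
  exact hsep a b ha hb hSa hSb _ h1

/-- A normal subgroup with a complement all of whose nonidentity elements act
fixed-point-freely: the complement is a Frobenius complement with kernel the normal subgroup. -/
theorem frob_of_fpf {Γ : Type*} [Group Γ] [Finite Γ] (K C : Subgroup Γ) [hK : K.Normal]
    (hc : K.IsComplement' C) (hK1 : K ≠ ⊥) (hC1 : C ≠ ⊥)
    (hfpf : ∀ k ∈ K, ∀ c ∈ C, k ≠ 1 → c ≠ 1 → k * c ≠ c * k) :
    Cfsg.IsFrobeniusComplement C ∧ Cfsg.frobeniusKernel C = (K : Set Γ) := by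
  have hdisj : K ⊓ C = ⊥ := disjoint_iff.mp hc.disjoint
  have hdec : ∀ g : Γ, ∃ k ∈ K, ∃ c ∈ C, g = k * c := by
    intro g
    have h1 : g ∈ ((K ⊔ C : Subgroup Γ) : Set Γ) := by
      rw [hc.sup_eq_top]; exact Set.mem_univ g
    rw [Subgroup.normal_mul] at h1
    obtain ⟨k, hk, c, hc', rfl⟩ := Set.mem_mul.mp h1
    exact ⟨k, hk, c, hc', rfl⟩
  have hmemconj : ∀ (g x : Γ), x ∈ MulAut.conj g • C ↔ g⁻¹ * x * g ∈ C := by
    intro g x
    rw [Subgroup.mem_pointwise_smul_iff_inv_smul_mem, MulAut.smul_def]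
    have e : (MulAut.conj g)⁻¹ x = g⁻¹ * x * g := by
      rw [← map_inv, MulAut.conj_apply, inv_inv]
    rw [e]
  refine ⟨⟨hC1, ?_, ?_⟩, ?_⟩
  · intro htop
    apply hK1
    rw [htop, inf_top_eq] at hdisj
    exact hdisj
  · intro g hg
    rw [eq_bot_iff]
    intro x hx
    obtain ⟨hxC, hxg⟩ := Subgroup.mem_inf.mp hx
    rw [hmemconj] at hxg
    obtain ⟨k, hk, c, hcC, rfl⟩ := hdec g
    have hk1 : k ≠ 1 := by
      rintro rfl
      apply hg
      rw [one_mul]; exact hcC
    have hy' : k⁻¹ * x * k ∈ C := by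
      have h2 : k⁻¹ * x * k = c * ((k * c)⁻¹ * x * (k * c)) * c⁻¹ := by group
      rw [h2]
      exact C.mul_mem (C.mul_mem hcC hxg) (C.inv_mem hcC)
    have h3 : x⁻¹ * (k⁻¹ * x * k) ∈ K := by
      have h4 : x⁻¹ * (k⁻¹ * x * k) = (x⁻¹ * k⁻¹ * x⁻¹⁻¹) * k := by group
      rw [h4]
      exact K.mul_mem (hK.conj_mem _ (K.inv_mem hk) _) hk
    have h5 : x⁻¹ * (k⁻¹ * x * k) ∈ K ⊓ C := ⟨h3, C.mul_mem (C.inv_mem hxC) hy'⟩
    rw [hdisj, Subgroup.mem_bot] at h5
    have h6 : k * x = x * k := by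
      have h7 : x * k = k * (x * (x⁻¹ * (k⁻¹ * x * k))) := by group
      rw [h7, h5, mul_one]
    rw [Subgroup.mem_bot]
    by_contra hx1
    exact hfpf k hk x hxC hk1 hx1 h6
  · ext x
    constructor
    · intro hx
      have hx' : x = 1 ∨ ∀ g : Γ, x ∉ MulAut.conj g • C := hx
      rcases hx' with rfl | hx'
      · exact K.one_mem
      · by_contra hxK
        obtain ⟨k, hk, c, hcC, rfl⟩ := hdec x
        have hc1 : c ≠ 1 := by
          rintro rfl
          apply hxK
          rw [mul_one]; exact hk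
        let φ : K → K := fun u =>
          ⟨(u : Γ) * (c * (u : Γ)⁻¹ * c⁻¹), K.mul_mem u.2 (hK.conj_mem _ (K.inv_mem u.2) c)⟩
        have hφ : Function.Injective φ := by
          intro u v huv
          have h1 : (u : Γ) * (c * (u : Γ)⁻¹ * c⁻¹) = (v : Γ) * (c * (v : Γ)⁻¹ * c⁻¹) :=
            congrArg Subtype.val huv
          have h2 : ((v : Γ)⁻¹ * (u : Γ)) * c = c * ((v : Γ)⁻¹ * (u : Γ)) := by
            have e1 : ((v : Γ)⁻¹ * (u : Γ)) * c
                = (v : Γ)⁻¹ * ((u : Γ) * (c * (u : Γ)⁻¹ * c⁻¹)) * c * (u : Γ) := by group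
            rw [e1, h1]; group
          by_contra hne
          have hvu1 : (v : Γ)⁻¹ * (u : Γ) ≠ 1 := by
            intro h3
            apply hne
            apply Subtype.ext
            have e2 : (u : Γ) = (v : Γ) * ((v : Γ)⁻¹ * (u : Γ)) := by group
            rw [e2, h3, mul_one]
          exact hfpf _ (K.mul_mem (K.inv_mem v.2) u.2) c hcC hvu1 hc1 h2
        have hsurj : Function.Surjective φ := Finite.injective_iff_surjective.mp hφ
        obtain ⟨u, hu⟩ := hsurj ⟨k, hk⟩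
        have hu' : (u : Γ) * (c * (u : Γ)⁻¹ * c⁻¹) = k := congrArg Subtype.val hu
        apply hx' (u : Γ)
        rw [hmemconj, ← hu']
        have e2 : (u : Γ)⁻¹ * ((u : Γ) * (c * (u : Γ)⁻¹ * c⁻¹) * c) * (u : Γ) = c := by group
        rw [e2]; exact hcC
    · intro hxK
      by_cases hx1 : x = 1
      · exact Or.inl hx1
      · refine Or.inr ?_
        intro g hxg
        rw [hmemconj] at hxg
        have h1 : g⁻¹ * x * g ∈ K := by
          have h0 := hK.conj_mem x hxK g⁻¹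
          rwa [inv_inv] at h0
        have h2 : g⁻¹ * x * g ∈ K ⊓ C := ⟨h1, hxg⟩
        rw [hdisj, Subgroup.mem_bot] at h2
        apply hx1
        have e1 : x = g * (g⁻¹ * x * g) * g⁻¹ := by group
        rw [e1, h2]; group

theorem of_inj {Γ : Type*} [Group Γ] (V : Subgroup Γ)
    (hVab : ∀ x ∈ V, ∀ y ∈ V, x * y = y * x)
    (a b : ↥V) (h : Abelianization.of a = Abelianization.of b) : a = b := by
  have hker : (Abelianization.of : ↥V →* Abelianization ↥V).ker = ⊥ := by
    rw [Abelianization.ker_of, commutator_def, Subgroup.commutator_eq_bot_iff_le_centralizer]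
    intro x _
    rw [Subgroup.mem_centralizer_iff]
    intro y _
    exact Subtype.ext (hVab y y.2 x x.2)
  exact (MonoidHom.ker_eq_bot_iff _).mp hker h

theorem norm_zero {Γ : Type*} [Group Γ] (V : Subgroup Γ) [V.Normal]
    (hVab : ∀ x ∈ V, ∀ y ∈ V, x * y = y * x)
    (q : ℕ) (g : Γ) (hgq : g ^ q = 1)
    (hfix : ∀ v ∈ V, g * v * g⁻¹ = v → v = 1) :
    ∑ i ∈ Finset.range q, abAct V g ^ i = 0 := by
  have h1 : (abAct V g - 1) * ∑ i ∈ Finset.range q, abAct V g ^ i = 0 := by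
    rw [mul_geom_sum, ← map_pow, hgq, map_one, sub_self]
  apply DFunLike.ext
  intro w
  obtain ⟨s, hs⟩ : ∃ s, s = (∑ i ∈ Finset.range q, abAct V g ^ i) w := ⟨_, rfl⟩
  have h2 : (abAct V g) s = s := by
    have h3 : ((abAct V g - 1) * ∑ i ∈ Finset.range q, abAct V g ^ i) w = 0 := by
      rw [h1]; rfl
    have h4 : ((abAct V g - 1) * ∑ i ∈ Finset.range q, abAct V g ^ i) w
        = (abAct V g) s - s := by
      rw [hs]; rfl
    rw [h4] at h3
    exact sub_eq_zero.mp h3
  obtain ⟨u, hu⟩ := abAct_exists_rep V s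
  rw [hu, abAct_apply] at h2
  have h5 : MulAut.conjNormal g u = u := of_inj V hVab _ _ (Additive.ofMul.injective h2)
  have h6 : g * (u : Γ) * g⁻¹ = u := by
    rw [← MulAut.conjNormal_apply, h5]
  have h7 : (u : Γ) = 1 := hfix _ u.2 h6
  have h8 : u = 1 := Subtype.ext h7
  show (∑ i ∈ Finset.range q, abAct V g ^ i) w = 0
  rw [← hs, hu, h8, map_one]
  rfl

/-- Two commuting elements of order `q` acting fixed-point-freely on a nontrivial abelian normal
`p`-subgroup (`p ≠ q`) generate a cyclic group. -/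
theorem rank_two {Γ : Type*} [Group Γ] (V : Subgroup Γ) [V.Normal] (hV1 : V ≠ ⊥)
    (hVab : ∀ x ∈ V, ∀ y ∈ V, x * y = y * x) (p : ℕ) (hp : p.Prime) (hVp : ∀ x ∈ V, x ^ p = 1)
    (q : ℕ) (hq : q.Prime) (hpq : p ≠ q)
    (hfix : ∀ g : Γ, g ≠ 1 → g ^ q = 1 → ∀ v ∈ V, g * v * g⁻¹ = v → v = 1)
    (x y : Γ) (hxy : x * y = y * x) (hx : x ^ q = 1) (hy : y ^ q = 1) (hx1 : x ≠ 1) :
    y ∈ Subgroup.zpowers x := by
  by_contra hyx
  haveI : Fact q.Prime := ⟨hq⟩
  have hox : orderOf x = q := orderOf_eq_prime hx hx1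
  obtain ⟨X, hX⟩ : ∃ X, X = abAct V x := ⟨_, rfl⟩
  obtain ⟨Y, hY⟩ : ∃ Y, Y = abAct V y := ⟨_, rfl⟩
  have hXY : Commute Y X := by
    show Y * X = X * Y
    rw [hX, hY, ← map_mul, ← map_mul, hxy]
  have hN1 : ∀ k : ℕ, ∑ i ∈ Finset.range q, (Y * X ^ k) ^ i = 0 := by
    intro k
    have hc : Commute y (x ^ k) := Commute.pow_right (show Commute y x from hxy.symm) k
    have hpow : (y * x ^ k) ^ q = 1 := by
      rw [hc.mul_pow, hy, one_mul, ← pow_mul, mul_comm, pow_mul, hx, one_pow]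
    have hne : y * x ^ k ≠ 1 := by
      intro h
      apply hyx
      have h0 : y = (x ^ k)⁻¹ := eq_inv_of_mul_eq_one_left h
      rw [h0]
      exact Subgroup.inv_mem _ (Subgroup.pow_mem _ (Subgroup.mem_zpowers x) k)
    have h1 := norm_zero V hVab q (y * x ^ k) hpow (hfix (y * x ^ k) hne hpow)
    rw [map_mul, map_pow, ← hX, ← hY] at h1
    exact h1
  have hN2 : ∀ i : ℕ, 0 < i → i < q → ∑ k ∈ Finset.range q, (X ^ i) ^ k = 0 := by
    intro i hi0 hiq
    have hpow : (x ^ i) ^ q = 1 := by rw [← pow_mul, mul_comm, pow_mul, hx, one_pow]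
    have hne : x ^ i ≠ 1 := by
      intro h
      have h1 := orderOf_dvd_of_pow_eq_one h
      rw [hox] at h1
      exact absurd (Nat.le_of_dvd hi0 h1) (by omega)
    have h1 := norm_zero V hVab q (x ^ i) hpow (hfix (x ^ i) hne hpow)
    rw [map_pow, ← hX] at h1
    exact h1
  have hsum : ∑ k ∈ Finset.range q, ∑ i ∈ Finset.range q, (Y * X ^ k) ^ i
      = (q : AddMonoid.End (Additive (Abelianization ↥V))) := by
    have e1 : ∀ k i : ℕ, (Y * X ^ k) ^ i = Y ^ i * (X ^ i) ^ k := by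
      intro k i
      rw [(hXY.pow_right k).mul_pow, ← pow_mul, ← pow_mul, Nat.mul_comm k i]
    simp only [e1]
    rw [Finset.sum_comm]
    simp only [← Finset.mul_sum]
    rw [Finset.sum_eq_single_of_mem 0 (Finset.mem_range.mpr hq.pos)]
    · simp
    · intro i hi hi0
      rw [hN2 i (Nat.pos_of_ne_zero hi0) (Finset.mem_range.mp hi), mul_zero]
  have hq0 : (q : AddMonoid.End (Additive (Abelianization ↥V))) = 0 := by
    rw [← hsum]
    exact Finset.sum_eq_zero (fun k _ => hN1 k)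
  obtain ⟨v, hvV, hv1⟩ : ∃ v ∈ V, v ≠ 1 := by
    by_contra hno
    push Not at hno
    exact hV1 ((Subgroup.eq_bot_iff_forall V).mpr hno)
  obtain ⟨w, hw⟩ : ∃ w : Additive (Abelianization ↥V),
      w = Additive.ofMul (Abelianization.of (⟨v, hvV⟩ : ↥V)) := ⟨_, rfl⟩
  have hqw : q • w = 0 := by
    have h1 : (q : AddMonoid.End (Additive (Abelianization ↥V))) w = q • w := by simp
    rw [← h1, hq0]; rfl
  have hpw : p • w = 0 := by
    rw [hw, ← ofMul_pow, ← map_pow]
    have h2 : (⟨v, hvV⟩ : ↥V) ^ p = 1 := Subtype.ext (hVp v hvV)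
    rw [h2, map_one]; rfl
  have hw0 : w = 0 := by
    have h1 := addOrderOf_dvd_of_nsmul_eq_zero hqw
    have h2 := addOrderOf_dvd_of_nsmul_eq_zero hpw
    have h3 : addOrderOf w = 1 :=
      Nat.eq_one_of_dvd_coprimes ((Nat.coprime_primes hp hq).mpr hpq) h2 h1
    exact AddMonoid.addOrderOf_eq_one_iff.mp h3
  rw [hw] at hw0
  have h9 : Abelianization.of (⟨v, hvV⟩ : ↥V) = Abelianization.of (1 : ↥V) := by
    rw [map_one]; exact hw0
  have h10 := of_inj V hVab _ _ h9
  exact hv1 (congrArg Subtype.val h10)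

theorem exists_max_normal {Γ : Type*} [Group Γ] [Finite Γ] (S : ℕ → Prop) (V : Subgroup Γ)
    (hVn : V.Normal) (hVS : SNum S (Nat.card V)) :
    ∃ N : Subgroup Γ, N.Normal ∧ SNum S (Nat.card N) ∧
      ∀ L : Subgroup Γ, L.Normal → SNum S (Nat.card L) → Nat.card L ≤ Nat.card N := by
  haveI : Nonempty {N : Subgroup Γ // N.Normal ∧ SNum S (Nat.card N)} := ⟨⟨V, hVn, hVS⟩⟩
  obtain ⟨⟨N, hN1, hN2⟩, hmax⟩ := Finite.exists_max
    (fun N : {N : Subgroup Γ // N.Normal ∧ SNum S (Nat.card N)} => Nat.card (N : Subgroup Γ))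
  exact ⟨N, hN1, hN2, fun L hL1 hL2 => hmax ⟨L, hL1, hL2⟩⟩

theorem card_comap_mk {Γ : Type*} [Group Γ] [Finite Γ] (N : Subgroup Γ) [N.Normal]
    (R : Subgroup (Γ ⧸ N)) :
    Nat.card (R.comap (QuotientGroup.mk' N)) = Nat.card N * Nat.card R := by
  have h1 := Subgroup.card_mul_index (R.comap (QuotientGroup.mk' N))
  have h2 := Subgroup.index_comap_of_surjective R (QuotientGroup.mk'_surjective N)
  have h3 := Subgroup.card_mul_index R
  have h4 := Subgroup.card_mul_index N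
  rw [Subgroup.index_eq_card N] at h4
  rw [h2] at h1
  have hpos : 0 < R.index := Nat.pos_of_ne_zero Subgroup.index_ne_zero_of_finite
  apply Nat.eq_of_mul_eq_mul_right hpos
  rw [h1, mul_assoc, h3, h4]

theorem quot_no_S {Γ : Type*} [Group Γ] [Finite Γ] (S : ℕ → Prop) (N : Subgroup Γ) [N.Normal]
    (hN2 : SNum S (Nat.card N))
    (hmax : ∀ L : Subgroup Γ, L.Normal → SNum S (Nat.card L) → Nat.card L ≤ Nat.card N)
    (R : Subgroup (Γ ⧸ N)) [R.Normal] (hR : SNum S (Nat.card R)) : R = ⊥ := by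
  have hcard : Nat.card (R.comap (QuotientGroup.mk' N)) = Nat.card N * Nat.card R :=
    card_comap_mk N R
  have hL : SNum S (Nat.card (R.comap (QuotientGroup.mk' N))) := by
    rw [hcard]
    intro r hr hdvd
    rcases (Nat.Prime.dvd_mul hr).mp hdvd with h | h
    · exact hN2 r hr h
    · exact hR r hr h
  have h1 := hmax _ inferInstance hL
  rw [hcard] at h1
  have hNpos : 0 < Nat.card N := Nat.card_pos
  have h2 : Nat.card R ≤ 1 :=
    Nat.le_of_mul_le_mul_left (by rw [mul_one]; exact h1) hNpos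
  have h3 : Nat.card R = 1 := by
    have h4 : 0 < Nat.card R := Nat.card_pos
    omega
  exact Subgroup.card_eq_one.mp h3

theorem mulAut_commute {C : Type*} [Group C] [IsCyclic C] (f g : MulAut C) : f * g = g * f := by
  obtain ⟨c, hc⟩ := IsCyclic.exists_generator (α := C)
  obtain ⟨i, hi⟩ := Subgroup.mem_zpowers_iff.mp (hc (f c))
  obtain ⟨j, hj⟩ := Subgroup.mem_zpowers_iff.mp (hc (g c))
  apply MulEquiv.ext
  intro x
  obtain ⟨k, rfl⟩ := Subgroup.mem_zpowers_iff.mp (hc x)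
  show f (g (c ^ k)) = g (f (c ^ k))
  have hg : g (c ^ k) = c ^ (j * k) := by rw [map_zpow, ← hj, ← zpow_mul]
  have hf : f (c ^ k) = c ^ (i * k) := by rw [map_zpow, ← hi, ← zpow_mul]
  have hf2 : f (c ^ (j * k)) = c ^ (i * (j * k)) := by rw [map_zpow, ← hi, ← zpow_mul]
  have hg2 : g (c ^ (i * k)) = c ^ (j * (i * k)) := by rw [map_zpow, ← hj, ← zpow_mul]
  rw [hg, hf, hf2, hg2]
  congr 1
  ring

/-- In a nontrivial solvable group with no nontrivial normal `S`-subgroup, and in which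
elementary abelian normal `S'`-subgroups have prime order, there is a normal Hall
`S'`-subgroup. -/
theorem exists_normal_hall {Γ : Type u} [Group Γ] [Finite Γ] [Group.IsSolvable Γ] [Nontrivial Γ]
    (S : ℕ → Prop) (hsep : Sep S Γ)
    (hnoS : ∀ R : Subgroup Γ, R.Normal → SNum S (Nat.card R) → R = ⊥)
    (hrank : ∀ (q : ℕ), q.Prime → ¬ S q → ∀ A : Subgroup Γ, A.Normal →
      (∀ x ∈ A, ∀ y ∈ A, x * y = y * x) → (∀ x ∈ A, x ^ q = 1) → A ≠ ⊥ → Nat.card A = q) :
    ∃ Y : Subgroup Γ, Y.Normal ∧ SNum (fun r => ¬ S r) (Nat.card Y) ∧ SNum S Y.index := by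
  classical
  obtain ⟨q, hq, A, hAchar, hA1, hAab, hAq⟩ := Cfsg.Agent.Helper1.exists_char_elemAbelian Γ
  haveI : Fact q.Prime := ⟨hq⟩
  haveI := hAchar
  haveI hAn : A.Normal := inferInstance
  have hAp : IsPGroup q A := fun x => ⟨1, by rw [pow_one]; exact Subtype.ext (hAq x x.2)⟩
  have hSq : ¬ S q := by
    intro hS
    apply hA1
    apply hnoS A hAn
    obtain ⟨n, hn⟩ := IsPGroup.iff_card.mp hAp
    rw [hn]
    intro r hr hdvd
    rw [(Nat.prime_dvd_prime_iff_eq hr hq).mp (hr.dvd_of_dvd_pow hdvd)]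
    exact hS
  have hAcard : Nat.card A = q := hrank q hq hSq A hAn hAab hAq hA1
  haveI : IsCyclic ↥A := isCyclic_of_prime_card hAcard
  obtain ⟨z, hzA, hz1⟩ : ∃ z ∈ A, z ≠ 1 := by
    by_contra hno
    push Not at hno
    exact hA1 ((Subgroup.eq_bot_iff_forall A).mpr hno)
  have hoz : orderOf z = q := orderOf_eq_prime (hAq z hzA) hz1
  obtain ⟨c, hc⟩ : ∃ c : Γ →* MulAut ↥A, c = MulAut.conjNormal := ⟨_, rfl⟩
  have hcomm : ∀ g h : Γ, Commute (c g) (c h) := fun g h => mulAut_commute (c g) (c h)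
  let Y : Subgroup Γ :=
    { carrier := {g | SNum (fun r => ¬ S r) (orderOf (c g))}
      one_mem' := by
        show SNum (fun r => ¬ S r) (orderOf (c 1))
        rw [map_one, orderOf_one]
        intro r hr hdvd
        exact absurd (Nat.le_of_dvd Nat.one_pos hdvd) (by have := hr.two_le; omega)
      mul_mem' := by
        intro a b ha hb
        show SNum (fun r => ¬ S r) (orderOf (c (a * b)))
        rw [map_mul]
        intro r hr hdvd
        have h1 := hdvd.trans (hcomm a b).orderOf_mul_dvd_lcm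
        have h2 : r ∣ orderOf (c a) * orderOf (c b) := h1.trans (Nat.lcm_dvd_mul _ _)
        rcases (Nat.Prime.dvd_mul hr).mp h2 with h | h
        · exact ha r hr h
        · exact hb r hr h
      inv_mem' := by
        intro a ha
        show SNum (fun r => ¬ S r) (orderOf (c a⁻¹))
        rw [map_inv, orderOf_inv]
        exact ha }
  have hYn : Y.Normal := by
    constructor
    intro n hn g
    show SNum (fun r => ¬ S r) (orderOf (c (g * n * g⁻¹)))
    have e : c (g * n * g⁻¹) = c n := by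
      rw [map_mul, map_mul, map_inv, (hcomm g n).eq, mul_inv_cancel_right]
    rw [e]; exact hn
  haveI := hYn
  have hYT : SNum (fun r => ¬ S r) (Nat.card Y) := by
    intro r hr hdvd hSr
    haveI : Fact r.Prime := ⟨hr⟩
    obtain ⟨y, hy⟩ := exists_prime_orderOf_dvd_card' r hdvd
    have hyY : SNum (fun r => ¬ S r) (orderOf (c (y : Γ))) := y.2
    have hoy : orderOf (y : Γ) = r := by rw [Subgroup.orderOf_coe]; exact hy
    have h1 : orderOf (c (y : Γ)) ∣ r := by
      rw [← hoy]; exact orderOf_map_dvd c _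
    have h2 : orderOf (c (y : Γ)) = 1 := by
      rcases (Nat.dvd_prime hr).mp h1 with h | h
      · exact h
      · exact absurd hSr (hyY r hr (by rw [h]))
    have h3 : c (y : Γ) = 1 := orderOf_eq_one_iff.mp h2
    have h4 : (y : Γ) * z * (y : Γ)⁻¹ = z := by
      have h5 : (c (y : Γ)) ⟨z, hzA⟩ = ⟨z, hzA⟩ := by rw [h3]; rfl
      have h6 := congrArg Subtype.val h5
      rw [hc, MulAut.conjNormal_apply] at h6
      exact h6
    have h7 : (y : Γ) * z = z * (y : Γ) := by
      have e : (y : Γ) * z = ((y : Γ) * z * (y : Γ)⁻¹) * (y : Γ) := by group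
      rw [e, h4]
    have hy1 : (y : Γ) ≠ 1 := by
      intro h
      rw [h, orderOf_one] at hoy
      exact hr.one_lt.ne hoy
    exact sep_ne hsep (y : Γ) z hy1 hz1 (by rw [hoy]; exact snum_prime hr hSr)
      (by rw [hoz]; exact snum_prime hq hSq) h7
  have hYS : SNum S Y.index := by
    intro r hr hdvd
    by_contra hSr
    haveI : Fact r.Prime := ⟨hr⟩
    rw [Subgroup.index_eq_card] at hdvd
    obtain ⟨ū, hū⟩ := exists_prime_orderOf_dvd_card' r hdvd
    obtain ⟨u, rfl⟩ := QuotientGroup.mk_surjective ū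
    have hur : u ^ r ∈ Y := by
      have h0 : ((u ^ r : Γ) : Γ ⧸ Y) = 1 := by
        rw [QuotientGroup.mk_pow]
        have h00 := pow_orderOf_eq_one (u : Γ ⧸ Y)
        rwa [hū] at h00
      exact (QuotientGroup.eq_one_iff (u ^ r)).mp h0
    have hu : u ∉ Y := by
      intro h
      have h1 : ((u : Γ ⧸ Y)) = 1 := (QuotientGroup.eq_one_iff u).mpr h
      rw [h1, orderOf_one] at hū
      exact hr.one_lt.ne hū
    apply hu
    show SNum (fun r => ¬ S r) (orderOf (c u))
    intro r' hr' hdvd'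
    show ¬ S r'
    have h2 : orderOf (c u) ∣ r * orderOf (c u ^ r) := by
      apply orderOf_dvd_of_pow_eq_one
      rw [pow_mul, pow_orderOf_eq_one]
    have h3 := hdvd'.trans h2
    rcases (Nat.Prime.dvd_mul hr').mp h3 with h | h
    · rw [(Nat.prime_dvd_prime_iff_eq hr' hr).mp h]; exact hSr
    · have h4 : SNum (fun r => ¬ S r) (orderOf (c (u ^ r))) := hur
      rw [map_pow] at h4
      exact h4 r' hr' h
  exact ⟨Y, hYn, hYT, hYS⟩

theorem rank_quot {G : Type u} [Group G] [Finite G] (S : ℕ → Prop) (hsep : Sep S G)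
    (V : Subgroup G) [V.Normal] (hV1 : V ≠ ⊥) (hVab : ∀ x ∈ V, ∀ y ∈ V, x * y = y * x)
    (p : ℕ) (hp : p.Prime) (hSp : S p) (hVp : ∀ x ∈ V, x ^ p = 1)
    (N : Subgroup G) [N.Normal] (hNS : SNum S (Nat.card N))
    (q : ℕ) (hq : q.Prime) (hSq : ¬ S q) (A : Subgroup (G ⧸ N)) (hAn : A.Normal)
    (hAab : ∀ x ∈ A, ∀ y ∈ A, x * y = y * x) (hAq : ∀ x ∈ A, x ^ q = 1) (hA1 : A ≠ ⊥) :
    Nat.card A = q := by
  classical
  haveI : Fact q.Prime := ⟨hq⟩
  haveI := hAn
  have hpq : p ≠ q := fun h => hSq (h ▸ hSp)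
  have hfix : ∀ g : G, g ≠ 1 → g ^ q = 1 → ∀ v ∈ V, g * v * g⁻¹ = v → v = 1 := by
    intro g hg1 hgq v hvV hgv
    by_contra hv1
    have hcomm : v * g = g * v := by
      have e : g * v = (g * v * g⁻¹) * g := by group
      rw [e, hgv]
    refine sep_ne hsep v g hv1 hg1 ?_ ?_ hcomm
    · intro r hr hdvd
      have h1 := hdvd.trans (orderOf_dvd_of_pow_eq_one (hVp v hvV))
      rw [(Nat.prime_dvd_prime_iff_eq hr hp).mp h1]; exact hSp
    · intro r hr hdvd
      have h1 := hdvd.trans (orderOf_dvd_of_pow_eq_one hgq)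
      show ¬ S r
      rw [(Nat.prime_dvd_prime_iff_eq hr hq).mp h1]; exact hSq
  have hAp : IsPGroup q A := fun x => ⟨1, by rw [pow_one]; exact Subtype.ext (hAq x x.2)⟩
  obtain ⟨n, hn⟩ := IsPGroup.iff_card.mp hAp
  have hn1 : n ≠ 0 := by
    rintro rfl
    rw [pow_zero] at hn
    exact hA1 (Subgroup.card_eq_one.mp hn)
  obtain ⟨L, hL⟩ : ∃ L : Subgroup G, L = A.comap (QuotientGroup.mk' N) := ⟨_, rfl⟩
  have hLmem : ∀ x : G, x ∈ L ↔ (QuotientGroup.mk' N) x ∈ A := by
    intro x; rw [hL]; exact Subgroup.mem_comap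
  have hNL : N ≤ L := by
    intro x hx
    rw [hLmem]
    have h0 : (QuotientGroup.mk' N) x = 1 := (QuotientGroup.eq_one_iff x).mpr hx
    rw [h0]; exact A.one_mem
  have hLcard : Nat.card L = Nat.card N * Nat.card A := by rw [hL]; exact card_comap_mk N A
  have hmemL : ∀ l : ↥L, (QuotientGroup.mk' N) (l : G) ∈ A := fun l => (hLmem _).mp l.2
  haveI hN'n : (N.subgroupOf L).Normal := Subgroup.normal_subgroupOf
  have hN'card : Nat.card (N.subgroupOf L) = Nat.card N :=
    Nat.card_congr (Subgroup.subgroupOfEquivOfLe hNL).toEquiv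
  have hLtot : Nat.card (N.subgroupOf L) * (N.subgroupOf L).index = Nat.card L :=
    Subgroup.card_mul_index _
  have hNpos : 0 < Nat.card N := Nat.card_pos
  have hN'idx : (N.subgroupOf L).index = Nat.card A := by
    rw [hN'card, hLcard] at hLtot
    exact Nat.eq_of_mul_eq_mul_left hNpos hLtot
  have hcopNq : (Nat.card N).Coprime q := by
    apply Nat.Coprime.symm
    rw [Nat.Prime.coprime_iff_not_dvd hq]
    intro h
    exact hSq (hNS q hq h)
  obtain ⟨E, hE⟩ := Subgroup.exists_right_complement'_of_coprime (N := N.subgroupOf L)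
    (by rw [hN'card, hN'idx, hn]; exact Nat.Coprime.pow_right n hcopNq)
  have hEcard : Nat.card E = Nat.card A := by
    have h1 := hE.card_mul_card
    rw [hN'card, hLcard] at h1
    exact Nat.eq_of_mul_eq_mul_left hNpos h1
  have hdisj : N.subgroupOf L ⊓ E = ⊥ := disjoint_iff.mp hE.disjoint
  have hEN : ∀ e : ↥L, e ∈ E → (e : G) ∈ N → e = 1 := by
    intro e heE heN
    have h1 : e ∈ N.subgroupOf L ⊓ E := ⟨Subgroup.mem_subgroupOf.mpr heN, heE⟩
    rw [hdisj, Subgroup.mem_bot] at h1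
    exact h1
  have hEq : ∀ e : ↥L, e ∈ E → (e : G) ^ q = 1 := by
    intro e heE
    have h1 : e ^ q = 1 := by
      apply hEN (e ^ q) (E.pow_mem heE q)
      have h0 : (QuotientGroup.mk' N) ((e : G) ^ q) = 1 := by
        rw [map_pow]; exact hAq _ (hmemL e)
      exact (QuotientGroup.eq_one_iff ((e : G) ^ q)).mp h0
    exact congrArg Subtype.val h1
  have hEcomm : ∀ e₁ e₂ : ↥L, e₁ ∈ E → e₂ ∈ E → (e₁ : G) * (e₂ : G) = (e₂ : G) * (e₁ : G) := by
    intro e₁ e₂ h1 h2
    have h3 : e₁ * e₂ * e₁⁻¹ * e₂⁻¹ = 1 := by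
      apply hEN _ (E.mul_mem (E.mul_mem (E.mul_mem h1 h2) (E.inv_mem h1)) (E.inv_mem h2))
      have h4 : (QuotientGroup.mk' N) ((e₁ : G) * (e₂ : G) * (e₁ : G)⁻¹ * (e₂ : G)⁻¹) = 1 := by
        rw [map_mul, map_mul, map_mul, map_inv, map_inv,
          hAab _ (hmemL e₁) _ (hmemL e₂)]
        group
      exact (QuotientGroup.eq_one_iff _).mp h4
    have h5 : (e₁ : G) * (e₂ : G) * (e₁ : G)⁻¹ * (e₂ : G)⁻¹ = 1 := congrArg Subtype.val h3
    have e : (e₁ : G) * (e₂ : G)
        = ((e₁ : G) * (e₂ : G) * (e₁ : G)⁻¹ * (e₂ : G)⁻¹) * ((e₂ : G) * (e₁ : G)) := by group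
    rw [e, h5, one_mul]
  have hE1 : E ≠ ⊥ := by
    intro h
    rw [h, Subgroup.card_bot] at hEcard
    exact hA1 (Subgroup.card_eq_one.mp hEcard.symm)
  obtain ⟨e₀, he₀E, he₀1⟩ : ∃ e ∈ E, e ≠ 1 := by
    by_contra hno
    push Not at hno
    exact hE1 ((Subgroup.eq_bot_iff_forall E).mpr hno)
  have he₀1' : (e₀ : G) ≠ 1 := fun h => he₀1 (Subtype.ext h)
  have hle : E.map L.subtype ≤ Subgroup.zpowers (e₀ : G) := by
    rintro y ⟨e, heE, rfl⟩
    exact rank_two V hV1 hVab p hp hVp q hq hpq hfix (e₀ : G) (e : G)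
      (hEcomm e₀ e he₀E heE) (hEq e₀ he₀E) (hEq e heE) he₀1'
  have hcardmap : Nat.card (E.map L.subtype) = Nat.card E :=
    (Nat.card_congr (Subgroup.equivMapOfInjective E L.subtype
      (Subgroup.subtype_injective L)).toEquiv).symm
  have h1 := Subgroup.card_le_of_le hle
  rw [hcardmap, hEcard, Nat.card_zpowers, orderOf_eq_prime (hEq e₀ he₀E) he₀1', hn] at h1
  rw [hn]
  have h2 : q ^ 1 ≤ q ^ n := Nat.pow_le_pow_right hq.pos (Nat.pos_of_ne_zero hn1)
  rw [pow_one] at h2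
  exact le_antisymm h1 h2

theorem core {G : Type u} [Group G] [Finite G] [Group.IsSolvable G] (S : ℕ → Prop)
    (hsep : Sep S G)
    (V : Subgroup G) [hVn : V.Normal] (hV1 : V ≠ ⊥) (hVab : ∀ x ∈ V, ∀ y ∈ V, x * y = y * x)
    (p : ℕ) (hp : p.Prime) (hSp : S p) (hVp : ∀ x ∈ V, x ^ p = 1)
    (b₀ : ℕ) (hb₀ : b₀.Prime) (hb₀G : b₀ ∣ Nat.card G) (hSb₀ : ¬ S b₀) :
    (∃ C : Subgroup G, Cfsg.IsFrobeniusComplement C) ∨
    (∃ (H K : Subgroup G) (_ : H.Normal), K.Normal ∧ H < K ∧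
      (∃ C : Subgroup ↥K, Cfsg.IsFrobeniusComplement C ∧
        Cfsg.frobeniusKernel C = (H.subgroupOf K : Set ↥K)) ∧
      (∃ C : Subgroup (G ⧸ H), Cfsg.IsFrobeniusComplement C ∧
        Cfsg.frobeniusKernel C = (K.map (QuotientGroup.mk' H) : Set (G ⧸ H)))) := by
  classical
  haveI : Fact p.Prime := ⟨hp⟩
  have hVS : SNum S (Nat.card V) := by
    have hVpg : IsPGroup p V := fun x => ⟨1, by rw [pow_one]; exact Subtype.ext (hVp x x.2)⟩
    obtain ⟨n, hn⟩ := IsPGroup.iff_card.mp hVpg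
    rw [hn]
    intro r hr hdvd
    rw [(Nat.prime_dvd_prime_iff_eq hr hp).mp (hr.dvd_of_dvd_pow hdvd)]
    exact hSp
  obtain ⟨N, hNn, hNS, hNmax⟩ := exists_max_normal S V hVn hVS
  haveI := hNn
  have hNpos : 0 < Nat.card N := Nat.card_pos
  have hN1 : N ≠ ⊥ := by
    intro h
    have h1 := hNmax V hVn hVS
    rw [h, Subgroup.card_bot] at h1
    have h2 : Nat.card V = 1 := by
      have h3 : 0 < Nat.card V := Nat.card_pos
      omega
    exact hV1 (Subgroup.card_eq_one.mp h2)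
  have hsepQ : Sep S (G ⧸ N) := sep_quotient hsep N
  have hcardG : Nat.card N * Nat.card (G ⧸ N) = Nat.card G := by
    rw [← Subgroup.index_eq_card]; exact Subgroup.card_mul_index N
  have hb₀Q : b₀ ∣ Nat.card (G ⧸ N) := by
    rw [← hcardG] at hb₀G
    rcases (Nat.Prime.dvd_mul hb₀).mp hb₀G with h | h
    · exact absurd (hNS b₀ hb₀ h) hSb₀
    · exact h
  haveI : Nontrivial (G ⧸ N) := by
    rw [← Finite.one_lt_card_iff_nontrivial]
    exact lt_of_lt_of_le hb₀.one_lt (Nat.le_of_dvd Nat.card_pos hb₀Q)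
  obtain ⟨Y, hYn, hYT, hYS⟩ := exists_normal_hall (Γ := G ⧸ N) S hsepQ
    (fun R hR hRS => by haveI := hR; exact quot_no_S S N hNS hNmax R hRS)
    (fun q hq hSq A hAn hAab hAq hA1 =>
      rank_quot S hsep V hV1 hVab p hp hSp hVp N hNS q hq hSq A hAn hAab hAq hA1)
  haveI := hYn
  have hcardQ : Nat.card Y * Y.index = Nat.card (G ⧸ N) := Subgroup.card_mul_index Y
  have hY1 : Y ≠ ⊥ := by
    intro h
    have h2 : Nat.card Y = 1 := by rw [h, Subgroup.card_bot]
    have h3 : Y.index = Nat.card (G ⧸ N) := by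
      rw [← hcardQ, h2, one_mul]
    rw [← h3] at hb₀Q
    exact hSb₀ (hYS b₀ hb₀ hb₀Q)
  have hcop : ∀ m n : ℕ, SNum S m → SNum (fun r => ¬ S r) n → m.Coprime n := by
    intro m n hm hn
    exact Nat.coprime_of_dvd (fun k hk hkm hkn => hn k hk hkn (hm k hk hkm))
  by_cases hYtop : Y = ⊤
  · left
    rw [hYtop, Subgroup.card_top] at hYT
    have hNidx : N.index = Nat.card (G ⧸ N) := Subgroup.index_eq_card N
    obtain ⟨M, hM⟩ := Subgroup.exists_right_complement'_of_coprime (N := N)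
      (by rw [hNidx]; exact hcop _ _ hNS hYT)
    have hMcard : Nat.card M = Nat.card (G ⧸ N) := by
      have h1 := hM.card_mul_card
      exact Nat.eq_of_mul_eq_mul_left hNpos (by rw [h1, hcardG])
    have hM1 : M ≠ ⊥ := by
      intro h
      rw [h, Subgroup.card_bot] at hMcard
      have h2 := Finite.one_lt_card (α := G ⧸ N)
      omega
    have hfpf : ∀ k ∈ N, ∀ c ∈ M, k ≠ 1 → c ≠ 1 → k * c ≠ c * k := by
      intro k hk c hcM hk1 hc1
      apply sep_ne hsep k c hk1 hc1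
      · exact fun r hr hdvd => hNS r hr (hdvd.trans (Subgroup.orderOf_dvd_natCard N hk))
      · intro r hr hdvd
        apply hYT r hr
        rw [← hMcard]
        exact hdvd.trans (Subgroup.orderOf_dvd_natCard M hcM)
    exact ⟨M, (frob_of_fpf N M hM hN1 hM1 hfpf).1⟩
  · right
    obtain ⟨K, hK⟩ : ∃ K : Subgroup G, K = Y.comap (QuotientGroup.mk' N) := ⟨_, rfl⟩
    have hKn : K.Normal := by rw [hK]; infer_instance
    have hKmem : ∀ x : G, x ∈ K ↔ (QuotientGroup.mk' N) x ∈ Y := by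
      intro x; rw [hK]; exact Subgroup.mem_comap
    have hNK : N ≤ K := by
      intro x hx
      rw [hKmem]
      have h0 : (QuotientGroup.mk' N) x = 1 := (QuotientGroup.eq_one_iff x).mpr hx
      rw [h0]; exact Y.one_mem
    have hKmap : K.map (QuotientGroup.mk' N) = Y := by
      rw [hK]
      exact Subgroup.map_comap_eq_self_of_surjective (QuotientGroup.mk'_surjective N) Y
    have hKcard : Nat.card K = Nat.card N * Nat.card Y := by rw [hK]; exact card_comap_mk N Y
    have hNltK : N < K := by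
      refine lt_of_le_of_ne hNK ?_
      intro h
      apply hY1
      have h2 := hKcard
      rw [← h] at h2
      have h1 : Nat.card Y = 1 :=
        Nat.eq_of_mul_eq_mul_left hNpos (by rw [mul_one]; exact h2.symm)
      exact Subgroup.card_eq_one.mp h1
    refine ⟨N, K, hNn, hKn, hNltK, ?_, ?_⟩
    · haveI hN'n : (N.subgroupOf K).Normal := Subgroup.normal_subgroupOf
      have hN'card : Nat.card (N.subgroupOf K) = Nat.card N :=
        Nat.card_congr (Subgroup.subgroupOfEquivOfLe hNK).toEquiv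
      have hKtot : Nat.card (N.subgroupOf K) * (N.subgroupOf K).index = Nat.card K :=
        Subgroup.card_mul_index _
      have hN'idx : (N.subgroupOf K).index = Nat.card Y := by
        rw [hN'card, hKcard] at hKtot
        exact Nat.eq_of_mul_eq_mul_left hNpos hKtot
      obtain ⟨C, hC⟩ := Subgroup.exists_right_complement'_of_coprime (N := N.subgroupOf K)
        (by rw [hN'card, hN'idx]; exact hcop _ _ hNS hYT)
      have hCcard : Nat.card C = Nat.card Y := by
        have h1 := hC.card_mul_card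
        rw [hN'card, hKcard] at h1
        exact Nat.eq_of_mul_eq_mul_left hNpos h1
      have hN'1 : N.subgroupOf K ≠ ⊥ := by
        intro h
        rw [h, Subgroup.card_bot] at hN'card
        exact hN1 (Subgroup.card_eq_one.mp hN'card.symm)
      have hC1 : C ≠ ⊥ := by
        intro h
        rw [h, Subgroup.card_bot] at hCcard
        exact hY1 (Subgroup.card_eq_one.mp hCcard.symm)
      have hfpf : ∀ k ∈ N.subgroupOf K, ∀ c ∈ C, k ≠ 1 → c ≠ 1 → k * c ≠ c * k := by
        intro k hk c hcC hk1 hc1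
        apply sep_ne (sep_subgroup hsep K) k c hk1 hc1
        · intro r hr hdvd
          apply hNS r hr
          rw [← hN'card]
          exact hdvd.trans (Subgroup.orderOf_dvd_natCard _ hk)
        · intro r hr hdvd
          apply hYT r hr
          rw [← hCcard]
          exact hdvd.trans (Subgroup.orderOf_dvd_natCard _ hcC)
      have hfr := frob_of_fpf (N.subgroupOf K) C hC hN'1 hC1 hfpf
      exact ⟨C, hfr.1, hfr.2⟩
    · obtain ⟨C, hC⟩ := Subgroup.exists_right_complement'_of_coprime (N := Y)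
        ((hcop _ _ hYS hYT).symm)
      have hCcard : Nat.card C = Y.index := by
        have h1 := hC.card_mul_card
        have hpos : 0 < Nat.card Y := Nat.card_pos
        exact Nat.eq_of_mul_eq_mul_left hpos (by rw [h1, hcardQ])
      have hC1 : C ≠ ⊥ := by
        intro h
        rw [h, Subgroup.card_bot] at hCcard
        apply hYtop
        exact Subgroup.index_eq_one.mp hCcard.symm
      have hfpf : ∀ k ∈ Y, ∀ c ∈ C, k ≠ 1 → c ≠ 1 → k * c ≠ c * k := by
        intro k hk c hcC hk1 hc1 hcomm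
        refine sep_ne hsepQ c k hc1 hk1 ?_ ?_ hcomm.symm
        · intro r hr hdvd
          apply hYS r hr
          rw [← hCcard]
          exact hdvd.trans (Subgroup.orderOf_dvd_natCard _ hcC)
        · intro r hr hdvd
          apply hYT r hr
          exact hdvd.trans (Subgroup.orderOf_dvd_natCard _ hk)
      have hfr := frob_of_fpf Y C hC hY1 hC1 hfpf
      refine ⟨C, hfr.1, ?_⟩
      rw [hfr.2, hKmap]

end Cfsg.Agent.Helper20.SolvPG
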